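import Groth.Agent.MultTori.K964.AffPt
import Groth.Prelude.Def_ActBC

/-!
# Ring-valued points and base change

For `A → R → T`: the `T`-points over `R` of the base change `X_R` are the `T`-points over `A` of `X`
(`bp`, `ubp`), compatibly with group laws, actions, differences and restriction.
-/

set_option autoImplicit false
universe u

open CategoryTheory CategoryTheory.Limits MonoidalCategory CartesianMonoidalCategory MonObj GrpObj AlgebraicGeometry
open TensorProduct

namespace K964.BcPt

open K965.Pts K964.Pt K964.AffPt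

/-- the morphism of spectra -/
noncomputable abbrev tb (A R : Type u) [CommRing A] [CommRing R] [Algebra A R] :
    Spec (CommRingCat.of R) ⟶ Spec (CommRingCat.of A) := Spec.map (CommRingCat.ofHom (algebraMap A R))

variable {A R : Type u} [CommRing A] [CommRing R] [Algebra A R]
  {T : Type u} [CommRing T] [Algebra A T] [Algebra R T] [IsScalarTower A R T]
  {T' : Type u} [CommRing T'] [Algebra A T'] [Algebra R T'] [IsScalarTower A R T']

variable (A R T) in
/-- comparison of two structures over `Spec A` -/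
noncomputable abbrev cm : (Over.map (tb A R)).obj (sp (algebraMap R T)) ≅ sp (algebraMap A T) :=
  cmp (algebraMap A R) (algebraMap R T) (IsScalarTower.algebraMap_eq A R T).symm

variable {X : Over (Spec (CommRingCat.of A))}

/-- base change of a point -/
noncomputable def bp (x : sp (algebraMap A T) ⟶ X) : sp (algebraMap R T) ⟶ Red.bc (tb A R) X :=
  (Over.mapPullbackAdj (tb A R)).homEquiv (sp (algebraMap R T)) X ((cm A R T).hom ≫ x)

/-- the point of `X` underlying a point of the base change -/
noncomputable def ubp (y : sp (algebraMap R T) ⟶ Red.bc (tb A R) X) : sp (algebraMap A T) ⟶ X :=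
  (cm A R T).inv ≫ ((Over.mapPullbackAdj (tb A R)).homEquiv (sp (algebraMap R T)) X).symm y

@[simp] lemma ubp_bp (x : sp (algebraMap A T) ⟶ X) : ubp (bp (R := R) x) = x := by
  rw [ubp, bp, Equiv.symm_apply_apply, Iso.inv_hom_id_assoc]

@[simp] lemma bp_ubp (y : sp (algebraMap R T) ⟶ Red.bc (tb A R) X) : bp (ubp y) = y := by
  rw [ubp, bp, Iso.hom_inv_id_assoc, Equiv.apply_symm_apply]

lemma bp_injective : Function.Injective (bp (R := R) : (sp (algebraMap A T) ⟶ X) → _) :=
  Function.LeftInverse.injective ubp_bp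

lemma ubp_injective : Function.Injective (ubp : (sp (algebraMap R T) ⟶ Red.bc (tb A R) X) → _) :=
  Function.LeftInverse.injective bp_ubp

/-- naturality -/
lemma ap_bp (ψ : T →ₐ[R] T') (x : sp (algebraMap A T) ⟶ X) :
    ap ψ ≫ bp (R := R) x = bp (R := R) (ap (ψ.restrictScalars A) ≫ x) := by
  rw [bp, bp, ← Adjunction.homEquiv_naturality_left]
  congr 1

lemma ap_ubp (ψ : T →ₐ[R] T') (y : sp (algebraMap R T) ⟶ Red.bc (tb A R) X) :
    ap (ψ.restrictScalars A) ≫ ubp y = ubp (ap ψ ≫ y) := by
  apply bp_injective (R := R)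
  rw [← ap_bp, bp_ubp, bp_ubp]

section grp

variable {G : Over (Spec (CommRingCat.of A))} [GrpObj G]

lemma bp_mul (x y : sp (algebraMap A T) ⟶ G) : bp (R := R) (x * y) = bp x * bp y := by
  rw [bp, bp, bp, ← AlgGrp.Action.homEquiv_mul, comp_mul]

lemma ubp_mul (x y : sp (algebraMap R T) ⟶ Red.bc (tb A R) G) : ubp (x * y) = ubp x * ubp y := by
  apply bp_injective (R := R)
  rw [bp_mul, bp_ubp, bp_ubp, bp_ubp]

/-- the points of the base change as a group -/
noncomputable def ubpE : (sp (algebraMap R T) ⟶ Red.bc (tb A R) G) ≃* (sp (algebraMap A T) ⟶ G) where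
  toFun := ubp
  invFun := bp
  left_inv := bp_ubp
  right_inv := ubp_bp
  map_mul' := ubp_mul

lemma ubp_div (x y : sp (algebraMap R T) ⟶ Red.bc (tb A R) G) : ubp (x / y) = ubp x / ubp y :=
  map_div (ubpE (A := A) (R := R) (T := T) (G := G)) x y

lemma bp_div (x y : sp (algebraMap A T) ⟶ G) : bp (R := R) (x / y) = bp x / bp y :=
  map_div (ubpE (A := A) (R := R) (T := T) (G := G)).symm x y

lemma ubp_one : ubp (1 : sp (algebraMap R T) ⟶ Red.bc (tb A R) G) = 1 :=
  map_one (ubpE (A := A) (R := R) (T := T) (G := G))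

variable {a : AlgGrp.Action G X}

lemma bp_sm (g : sp (algebraMap A T) ⟶ G) (x : sp (algebraMap A T) ⟶ X) :
    bp (R := R) (sm a g x) = sm (a.bc (tb A R)) (bp g) (bp x) := by
  rw [bp, bp, bp, sm, sm, AlgGrp.Action.lift_homEquiv_bc_act, comp_lift_assoc]

lemma bp_df (ha : NonAbH1.IsPseudoTorsorSch a) (x y : sp (algebraMap A T) ⟶ X) :
    bp (R := R) (df ha x y) = df (NonAbH1.isPseudoTorsorSch_bc (tb A R) ha) (bp x) (bp y) :=
  eq_df _ (by rw [← bp_sm, sm_df])

lemma ubp_df (ha : NonAbH1.IsPseudoTorsorSch a) (x y : sp (algebraMap A T) ⟶ X) :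
    ubp (df (NonAbH1.isPseudoTorsorSch_bc (tb A R) ha) (bp x) (bp y)) = df ha x y := by
  rw [← bp_df, ubp_bp]

end grp

end K964.BcPt
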