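import Mathlib.Algebra.MonoidAlgebra.Basic
import Mathlib.RingTheory.Ideal.Quotient.Operations
import Mathlib.RingTheory.AdjoinRoot
import Mathlib.RingTheory.Noetherian.Basic
import Mathlib.RingTheory.Flat.FaithfullyFlat.Algebra
import Mathlib.RingTheory.Finiteness.Cardinality
import Mathlib.GroupTheory.Archimedean

/-!
# Characters extending a given one

* `exists_univ`: the universal `B`-algebra with a character of `F` extending a character `p` of a subgroup.
* `exists_extend`: characters extend after a finite free base change.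
-/

set_option autoImplicit false
universe u

namespace K964.CharExt

variable {B : Type u} [CommRing B] {F : Type} [AddCommGroup F]

/-- the value of a character -/
abbrev vl {R : Type*} [Monoid R] (u : Additive Rˣ) : R := ((Additive.toMul u : Rˣ) : R)

lemma addUnits_ext {R : Type*} [Monoid R] {u v : Additive Rˣ} (h : vl u = vl v) : u = v :=
  Additive.toMul.injective (Units.ext h)

/-- image of a unit under a ring map, additively -/
def um {R R' : Type*} [Semiring R] [Semiring R'] (f : R →+* R') : Additive Rˣ →+ Additive R'ˣ :=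
  MonoidHom.toAdditive (Units.map (f : R →* R'))

@[simp] lemma vl_um {R R' : Type*} [Semiring R] [Semiring R'] (f : R →+* R') (u : Additive Rˣ) :
    vl (um f u) = f (vl u) := rfl

@[simp] lemma vl_add {R : Type*} [CommMonoid R] (u v : Additive Rˣ) : vl (u + v) = vl u * vl v := rfl

@[simp] lemma vl_zero {R : Type*} [Monoid R] : vl (0 : Additive Rˣ) = 1 := rfl

/-- The universal `B`-algebra with a character of `F` extending `p` on the subgroup `P`. -/
theorem exists_univ (P : AddSubgroup F) (p : P →+ Additive Bˣ) :
    ∃ (C : Type u) (_ : CommRing C) (_ : Algebra B C) (ι : F →+ Additive Cˣ),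
      (∀ x : P, ι x = um (algebraMap B C) (p x)) ∧
      (∀ (R : Type u) [CommRing R] (f : B →+* R) (n : F →+ Additive Rˣ), (∀ x : P, n x = um f (p x)) →
        ∃ h : C →+* R, (∀ b, h (algebraMap B C b) = f b) ∧ ∀ x, um h (ι x) = n x) ∧
      (∀ (R : Type u) [CommRing R] (h h' : C →+* R), (∀ b, h (algebraMap B C b) = h' (algebraMap B C b)) →
        (∀ x, um h (ι x) = um h' (ι x)) → h = h') := by
  let MA := MonoidAlgebra B (Multiplicative F)
  let I : Ideal MA := Ideal.span (Set.range fun x : P =>
    MonoidAlgebra.of B (Multiplicative F) (Multiplicative.ofAdd (x : F)) - algebraMap B MA (vl (p x)))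
  let C := MA ⧸ I
  let ι₀ : F →+ Additive MAˣ :=
    { toFun := fun x => Additive.ofMul ⟨MonoidAlgebra.of B (Multiplicative F) (Multiplicative.ofAdd x),
        MonoidAlgebra.of B (Multiplicative F) (Multiplicative.ofAdd (-x)),
        by rw [← map_mul, ← ofAdd_add, add_neg_cancel, ofAdd_zero, map_one],
        by rw [← map_mul, ← ofAdd_add, neg_add_cancel, ofAdd_zero, map_one]⟩
      map_zero' := addUnits_ext (by
        change MonoidAlgebra.of B (Multiplicative F) (Multiplicative.ofAdd 0) = 1
        rw [ofAdd_zero, map_one])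
      map_add' := fun x y => addUnits_ext (by
        change MonoidAlgebra.of B (Multiplicative F) (Multiplicative.ofAdd (x + y)) =
          MonoidAlgebra.of B (Multiplicative F) (Multiplicative.ofAdd x) *
          MonoidAlgebra.of B (Multiplicative F) (Multiplicative.ofAdd y)
        rw [ofAdd_add, map_mul]) }
  have hι₀ : ∀ x, vl (ι₀ x) = MonoidAlgebra.of B (Multiplicative F) (Multiplicative.ofAdd x) := fun x => rfl
  refine ⟨C, inferInstance, inferInstance, (um (Ideal.Quotient.mk I)).comp ι₀, ?_, ?_, ?_⟩
  · intro x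
    apply addUnits_ext
    rw [AddMonoidHom.comp_apply, vl_um, vl_um, hι₀]
    exact (Ideal.Quotient.mk_eq_mk_iff_sub_mem _ _).2 (Ideal.subset_span ⟨x, rfl⟩)
  · intro R _ f n hn
    let _ : Algebra B R := f.toAlgebra
    let n' : Multiplicative F →* R := (Units.coeHom R).comp (AddMonoidHom.toMultiplicativeLeft n)
    have hn' : ∀ x : F, n' (Multiplicative.ofAdd x) = vl (n x) := fun x => rfl
    let h₀ : MA →+* R := (MonoidAlgebra.lift B R (Multiplicative F) n' : MA →ₐ[B] R)
    have h₀of : ∀ x : F, h₀ (MonoidAlgebra.of B (Multiplicative F) (Multiplicative.ofAdd x)) = vl (n x) := by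
      intro x
      change MonoidAlgebra.lift B R (Multiplicative F) n' _ = _
      rw [MonoidAlgebra.lift_of, hn']
    have h₀b : ∀ b, h₀ (algebraMap B MA b) = f b := fun b =>
      (MonoidAlgebra.lift B R (Multiplicative F) n').commutes b
    refine ⟨Ideal.Quotient.lift I h₀ ?_, ?_, ?_⟩
    · intro a ha
      have : I ≤ RingHom.ker h₀ := by
        rw [Ideal.span_le]
        rintro _ ⟨x, rfl⟩
        change h₀ _ = 0
        rw [map_sub, h₀of, h₀b, hn x, vl_um, sub_self]
      exact this ha
    · intro b
      exact h₀b b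
    · intro x
      apply addUnits_ext
      rw [vl_um, AddMonoidHom.comp_apply, vl_um, hι₀]
      exact h₀of x
  · intro R _ h h' hb hx
    have h1 : h.comp (Ideal.Quotient.mk I) = h'.comp (Ideal.Quotient.mk I) := by
      refine MonoidAlgebra.ringHom_ext (fun b => ?_) (fun x => ?_)
      · exact hb b
      · have h2 := congrArg vl (hx (Multiplicative.toAdd x))
        exact h2
    exact Ideal.Quotient.ringHom_ext h1

/-- Extension by one element. -/
lemma exists_extend_one (P : AddSubgroup F) (p : P →+ Additive Bˣ) (f : F) :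
    ∃ (T : Type u) (_ : CommRing T) (_ : Algebra B T), Algebra.FinitePresentation B T ∧ Module.Finite B T ∧
      Module.FaithfullyFlat B T ∧ ∃ (P' : AddSubgroup F) (n : P' →+ Additive Tˣ), P ≤ P' ∧ f ∈ P' ∧
        ∀ (x : F) (hx : x ∈ P) (hx' : x ∈ P'), n ⟨x, hx'⟩ = um (algebraMap B T) (p ⟨x, hx⟩) := by
  -- the exponents `k` with `k f ∈ P`
  obtain ⟨m, hm⟩ := Int.subgroup_cyclic (P.comap (zmultiplesHom F f))
  have hm' : ∀ k : ℤ, k • f ∈ P ↔ m ∣ k := by
    intro k
    have h1 : k ∈ P.comap (zmultiplesHom F f) ↔ k ∈ AddSubgroup.closure {m} := by rw [hm]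
    rw [AddSubgroup.mem_closure_singleton] at h1
    refine (show k • f ∈ P ↔ k ∈ P.comap (zmultiplesHom F f) from Iff.rfl).trans (h1.trans ⟨?_, ?_⟩)
    · rintro ⟨z, hz⟩
      exact ⟨z, by rw [← hz, smul_eq_mul, mul_comm]⟩
    · rintro ⟨z, hz⟩
      exact ⟨z, by rw [hz, smul_eq_mul, mul_comm]⟩
  have hmf : m • f ∈ P := (hm' m).2 dvd_rfl
  -- the algebra and the value of the character at `f`
  obtain ⟨T, _, _, hfree, hfin, hff, t, ht⟩ : ∃ (T : Type u) (_ : CommRing T) (_ : Algebra B T),
      Algebra.FinitePresentation B T ∧ Module.Finite B T ∧ Module.FaithfullyFlat B T ∧ ∃ t : Additive Tˣ,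
        m • t = um (algebraMap B T) (p ⟨m • f, hmf⟩) := by
    by_cases hm0 : m = 0
    · subst hm0
      refine ⟨B, inferInstance, inferInstance, inferInstance, inferInstance, inferInstance, 0, ?_⟩
      have h1 : (⟨(0 : ℤ) • f, hmf⟩ : P) = 0 := Subtype.ext (zero_smul _ _)
      rw [smul_zero, h1, map_zero, map_zero]
    · let k := m.natAbs
      have hk : k ≠ 0 := Int.natAbs_ne_zero.2 hm0
      have hkf : (k : ℤ) • f ∈ P := (hm' k).2 (Int.dvd_natAbs_self)
      let b : B := vl (p ⟨(k : ℤ) • f, hkf⟩)
      let g : Polynomial B := Polynomial.X ^ k - Polynomial.C b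
      have hg : g.Monic := Polynomial.monic_X_pow_sub_C b hk
      let pb := AdjoinRoot.powerBasis' hg
      have hfree : Module.Free B (AdjoinRoot g) := Module.Free.of_basis pb.basis
      have hfin : Module.Finite B (AdjoinRoot g) := Module.Finite.of_basis pb.basis
      have hroot : (AdjoinRoot.root g) ^ k = algebraMap B (AdjoinRoot g) b := by
        have := AdjoinRoot.eval₂_root g
        simp only [g, Polynomial.eval₂_sub, Polynomial.eval₂_X_pow, Polynomial.eval₂_C] at this
        exact sub_eq_zero.1 this
      have hu : IsUnit (AdjoinRoot.root g) := by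
        rw [← isUnit_pow_iff hk, hroot]
        exact ((p ⟨(k : ℤ) • f, hkf⟩).toMul.isUnit).map _
      have hinj : Function.Injective (algebraMap B (AdjoinRoot g)) := by
        intro x y hxy
        nontriviality B
        have hdeg : g.natDegree = k := Polynomial.natDegree_X_pow_sub_C
        have h1 := AdjoinRoot.mk_eq_mk.1 (show AdjoinRoot.mk g (Polynomial.C x) = AdjoinRoot.mk g (Polynomial.C y) from hxy)
        rw [← Polynomial.C_sub] at h1
        by_contra hne
        have h2 := Polynomial.Monic.not_dvd_of_natDegree_lt hg (q := Polynomial.C (x - y))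
          (by rw [Ne, Polynomial.C_eq_zero]; exact sub_ne_zero.2 hne)
          (by rw [Polynomial.natDegree_C, hdeg]; exact Nat.pos_of_ne_zero hk)
        exact h2 h1
      have hff : Module.FaithfullyFlat B (AdjoinRoot g) := by
        have := hfree
        rcases subsingleton_or_nontrivial B with hB | hB
        · exact ⟨fun m hm _ => hm.ne_top (Subsingleton.elim _ _)⟩
        · have : Nontrivial (AdjoinRoot g) := hinj.nontrivial
          infer_instance
      have hval : (k : ℤ) • Additive.ofMul hu.unit = um (algebraMap B (AdjoinRoot g)) (p ⟨(k : ℤ) • f, hkf⟩) := by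
        apply addUnits_ext
        rw [vl_um, natCast_zsmul]
        change ((hu.unit ^ k : (AdjoinRoot g)ˣ) : AdjoinRoot g) = _
        rw [Units.val_pow_eq_pow_val, IsUnit.unit_spec, hroot]
      have hfp : Algebra.FinitePresentation B (AdjoinRoot g) := inferInstance
      refine ⟨AdjoinRoot g, inferInstance, inferInstance, hfp, hfin, hff, Additive.ofMul hu.unit, ?_⟩
      rcases Int.natAbs_eq m with h | h
      · have h2 : (⟨m • f, hmf⟩ : P) = ⟨(k : ℤ) • f, hkf⟩ := Subtype.ext (congrArg (fun z : ℤ => z • f) h)
        rw [h2, ← hval]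
        exact congrArg (fun z : ℤ => z • Additive.ofMul hu.unit) h
      · have h2 : (⟨m • f, hmf⟩ : P) = -⟨(k : ℤ) • f, hkf⟩ := Subtype.ext (by
          change m • f = -((k : ℤ) • f)
          rw [← neg_smul]
          exact congrArg (fun z : ℤ => z • f) h)
        rw [h2, map_neg, map_neg, ← hval, ← neg_smul]
        exact congrArg (fun z : ℤ => z • Additive.ofMul hu.unit) h
  refine ⟨T, inferInstance, inferInstance, hfree, hfin, hff, ?_⟩
  -- the map `P × ℤ → P ⊔ ℤ f`
  let s : P × ℤ →+ F := AddMonoidHom.coprod P.subtype (zmultiplesHom F f)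
  let v : P × ℤ →+ Additive Tˣ := AddMonoidHom.coprod ((um (algebraMap B T)).comp p) (zmultiplesHom _ t)
  have hs : ∀ x : P, ∀ k : ℤ, s (x, k) = x + k • f := fun x k => rfl
  have hv : ∀ x : P, ∀ k : ℤ, v (x, k) = um (algebraMap B T) (p x) + k • t := fun x k => rfl
  have hker : ∀ z : P × ℤ, s z = 0 → v z = 0 := by
    rintro ⟨x, k⟩ h
    rw [hs] at h
    have hk : k • f ∈ P := by
      rw [eq_neg_of_add_eq_zero_right h]
      exact P.neg_mem x.2
    obtain ⟨j, rfl⟩ := (hm' k).1 hk
    have hx : x = -(j • ⟨m • f, hmf⟩) := Subtype.ext (by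
      rw [eq_neg_of_add_eq_zero_left h]
      change -((m * j) • f) = -(j • (m • f))
      rw [mul_comm, mul_smul])
    rw [hv, hx, map_neg, map_neg, map_zsmul, map_zsmul, ← ht, mul_comm, mul_smul, neg_add_cancel]
  let P' : AddSubgroup F := s.range
  let n : P' →+ Additive Tˣ :=
    { toFun := fun x => v x.2.choose
      map_zero' := hker _ ((0 : P').2.choose_spec)
      map_add' := fun x y => by
        rw [← sub_eq_zero, ← map_add, ← map_sub]
        apply hker
        rw [map_sub, map_add, (x + y).2.choose_spec, x.2.choose_spec, y.2.choose_spec]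
        exact sub_self _ }
  have hn : ∀ z : P × ℤ, ∀ h : s z ∈ P', n ⟨s z, h⟩ = v z := by
    intro z h
    change v _ = v z
    rw [← sub_eq_zero, ← map_sub]
    apply hker
    rw [map_sub, h.choose_spec, sub_self]
  refine ⟨P', n, ?_, ?_, ?_⟩
  · intro x hx
    exact ⟨(⟨x, hx⟩, 0), by rw [hs, zero_smul, add_zero]⟩
  · exact ⟨(0, 1), by rw [hs, one_smul]; exact zero_add _⟩
  · intro x hx hx'
    have h1 : s (⟨x, hx⟩, 0) = x := by rw [hs, zero_smul, add_zero]
    have h2 := hn (⟨x, hx⟩, 0) (by rw [h1]; exact hx')
    rw [hv, zero_smul, add_zero] at h2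
    rw [← h2]
    congr 1
    exact Subtype.ext h1.symm

/-- Characters extend after a finite free faithfully flat base change. -/
theorem exists_extend [AddGroup.FG F] : ∀ (P : AddSubgroup F) (B : Type u) [CommRing B] (p : P →+ Additive Bˣ),
    ∃ (T : Type u) (_ : CommRing T) (_ : Algebra B T), Module.Finite B T ∧ Algebra.FinitePresentation B T ∧
      Module.FaithfullyFlat B T ∧ ∃ n : F →+ Additive Tˣ, ∀ x : P, n x = um (algebraMap B T) (p x) := by
  have hfin : Module.Finite ℤ F := Module.Finite.iff_addGroup_fg.2 inferInstance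
  have hN : IsNoetherian ℤ F := inferInstance
  have hwf : WellFounded ((· > ·) : Submodule ℤ F → Submodule ℤ F → Prop) := hN.wf
  have key : ∀ (Q : Submodule ℤ F) (B : Type u) [CommRing B] (p : Q →+ Additive Bˣ),
      ∃ (T : Type u) (_ : CommRing T) (_ : Algebra B T), Module.Finite B T ∧ Algebra.FinitePresentation B T ∧
        Module.FaithfullyFlat B T ∧ ∃ n : F →+ Additive Tˣ, ∀ x : Q, n x = um (algebraMap B T) (p x) := by
    intro Q
    induction Q using hwf.induction with
    | _ Q ih =>
      intro B _ p
      by_cases hQ : Q = ⊤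
      · subst hQ
        refine ⟨B, inferInstance, inferInstance, inferInstance, inferInstance, inferInstance,
          p.comp (Submodule.topEquiv.symm : F ≃ₗ[ℤ] _).toLinearMap.toAddMonoidHom, fun x => ?_⟩
        apply addUnits_ext
        rfl
      · obtain ⟨f, -, hf⟩ := SetLike.exists_of_lt (lt_top_iff_ne_top.2 hQ)
        obtain ⟨T, _, _, h1, h2, h3, P', n, hP, hfP, hn⟩ := exists_extend_one Q.toAddSubgroup p f
        let Q' : Submodule ℤ F := AddSubgroup.toIntSubmodule P'
        have hlt : Q < Q' := by
          refine lt_of_le_of_ne hP ?_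
          rintro rfl
          exact hf hfP
        obtain ⟨T', _, _, h1', h2', h3', n', hn'⟩ := ih Q' hlt T n
        let _ : Algebra B T' := ((algebraMap T T').comp (algebraMap B T)).toAlgebra
        have : IsScalarTower B T T' := IsScalarTower.of_algebraMap_eq (fun _ => rfl)
        refine ⟨T', inferInstance, inferInstance, Module.Finite.trans T T', Algebra.FinitePresentation.trans B T T',
          Module.FaithfullyFlat.trans B T T', n', fun x => ?_⟩
        have e1 := hn' ⟨x, hP x.2⟩
        have e2 := hn x x.2 (hP x.2)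
        apply addUnits_ext
        have e3 := congrArg vl e1
        have e4 := congrArg vl e2
        rw [vl_um] at e3 e4
        rw [vl_um]
        exact e3.trans (congrArg (algebraMap T T') e4)
  intro P B _ p
  exact key (AddSubgroup.toIntSubmodule P) B p

end K964.CharExt
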