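import Groth.Agent.Sga4h.UnitCocycle
import Mathlib.RingTheory.Flat.FaithfullyFlat.Algebra

/-!
# Unit cocycles in `T ⊗[A] B`

For a faithfully flat `A`-algebra `A'` and an `A`-algebra `B` with trivial Picard group, a natural family of units
`u T φ ψ ∈ (T ⊗[A] B)ˣ` (`φ ψ : A' →ₐ[A] T`) satisfying the cocycle identity is a coboundary (`exists_unit`);
units of `A' ⊗[A] B` with equal images in `(A' ⊗ A') ⊗ B` come from `B` (`exists_of_eq`).
-/

set_option autoImplicit false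
universe u

open TensorProduct

namespace K964.UC

open Groth.Agent.Sga4h.UnitCocycle

variable {A : Type u} (B : Type u) [CommRing A] [CommRing B] [Algebra A B] {A' : Type u} [CommRing A'] [Algebra A A']

/-- functoriality of `T ⊗[A] B` -/
noncomputable abbrev mB {T T' : Type u} [CommRing T] [Algebra A T] [CommRing T'] [Algebra A T'] (φ : T →ₐ[A] T') :
    T ⊗[A] B →ₐ[A] T' ⊗[A] B := Algebra.TensorProduct.map φ (AlgHom.id A B)

lemma mB_comp {T T' T'' : Type u} [CommRing T] [Algebra A T] [CommRing T'] [Algebra A T'] [CommRing T'']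
    [Algebra A T''] (φ : T →ₐ[A] T') (ψ : T' →ₐ[A] T'') (z : T ⊗[A] B) : mB B ψ (mB B φ z) = mB B (ψ.comp φ) z := by
  have : (mB B ψ).comp (mB B φ) = mB B (ψ.comp φ) := by
    ext <;> simp
  exact congr($this z)

variable {B}

/-- evaluation for a `B`-algebra -/
noncomputable def ev (T : Type u) [CommRing T] [Algebra A T] [Algebra B T] [IsScalarTower A B T] :
    T ⊗[A] B →ₐ[A] T :=
  Algebra.TensorProduct.lift (AlgHom.id A T) (IsScalarTower.toAlgHom A B T) (fun _ _ => Commute.all _ _)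

@[simp] lemma ev_tmul (T : Type u) [CommRing T] [Algebra A T] [Algebra B T] [IsScalarTower A B T] (t : T) (b : B) :
    ev T (t ⊗ₜ[A] b) = t * algebraMap B T b := by
  simp [ev]

lemma ev_mB {T T' : Type u} [CommRing T] [Algebra A T] [Algebra B T] [IsScalarTower A B T]
    [CommRing T'] [Algebra A T'] [Algebra B T'] [IsScalarTower A B T'] (θ : T →ₐ[B] T') (z : T ⊗[A] B) :
    ev T' (mB B (θ.restrictScalars A) z) = θ (ev T z) := by
  induction z using TensorProduct.induction_on with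
  | zero => simp
  | tmul t b => simp
  | add x y hx hy => rw [map_add, map_add, hx, hy, map_add, map_add]

/-- `T → B ⊗ T` followed by evaluation is the symmetry -/
lemma ev_comm {T : Type u} [CommRing T] [Algebra A T] (z : T ⊗[A] B) :
    ev (B ⊗[A] T) (mB B (Algebra.TensorProduct.includeRight : T →ₐ[A] B ⊗[A] T) z) =
      Algebra.TensorProduct.comm A T B z := by
  induction z using TensorProduct.induction_on with
  | zero => simp
  | tmul t b => simp
  | add x y hx hy => rw [map_add, map_add, hx, hy, map_add]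

/-- functoriality and symmetry -/
lemma comm_mB {T T' : Type u} [CommRing T] [Algebra A T] [CommRing T'] [Algebra A T'] (φ : T →ₐ[A] T')
    (z : T ⊗[A] B) : Algebra.TensorProduct.comm A T' B (mB B φ z) =
      Algebra.TensorProduct.map (AlgHom.id B B) φ (Algebra.TensorProduct.comm A T B z) := by
  induction z using TensorProduct.induction_on with
  | zero => simp
  | tmul t b => simp
  | add x y hx hy => rw [map_add, map_add, hx, hy, map_add, map_add]

variable (A B A')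

/-- the left structure map `A' → C ⊗[B] C`, `C = B ⊗[A] A'` -/
noncomputable def jl : A' →ₐ[A] (B ⊗[A] A') ⊗[B] (B ⊗[A] A') :=
  ((Algebra.TensorProduct.includeLeft : (B ⊗[A] A') →ₐ[B] (B ⊗[A] A') ⊗[B] (B ⊗[A] A')).restrictScalars A).comp
    Algebra.TensorProduct.includeRight

/-- the right structure map `A' → C ⊗[B] C`, `C = B ⊗[A] A'` -/
noncomputable def jr : A' →ₐ[A] (B ⊗[A] A') ⊗[B] (B ⊗[A] A') :=
  ((Algebra.TensorProduct.includeRight : (B ⊗[A] A') →ₐ[B] (B ⊗[A] A') ⊗[B] (B ⊗[A] A')).restrictScalars A).comp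
    Algebra.TensorProduct.includeRight

variable {A B A'}

lemma ev_jl (z : A' ⊗[A] B) : ev ((B ⊗[A] A') ⊗[B] (B ⊗[A] A')) (mB B (jl A B A') z) =
    (Algebra.TensorProduct.comm A A' B z) ⊗ₜ[B] 1 := by
  rw [jl, ← mB_comp, ev_mB, ev_comm, Algebra.TensorProduct.includeLeft_apply]

lemma ev_jr (z : A' ⊗[A] B) : ev ((B ⊗[A] A') ⊗[B] (B ⊗[A] A')) (mB B (jr A B A') z) =
    1 ⊗ₜ[B] (Algebra.TensorProduct.comm A A' B z) := by
  rw [jr, ← mB_comp, ev_mB, ev_comm, Algebra.TensorProduct.includeRight_apply]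

/-- Picard-triviality turns a unit cocycle into a coboundary. -/
theorem exists_coboundary' {C : Type u} [CommRing C] [Algebra B C] [Module.FaithfullyFlat B C]
    (hPic : Subsingleton (CommRing.Pic B)) (u : (C ⊗[B] C)ˣ) (hc : IsCocycle (u : C ⊗[B] C)) :
    ∃ w : Cˣ, (u : C ⊗[B] C) * ((w : C) ⊗ₜ[B] (1 : C)) = (1 : C) ⊗ₜ[B] (w : C) := by
  have hinv := invertible_L u hc
  have hfree : Module.Free B (L (u : C ⊗[B] C)) := inferInstance
  obtain ⟨e⟩ := Module.Invertible.free_iff_linearEquiv.mp hfree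
  let w := e.symm 1
  obtain ⟨v, hv⟩ := dvd_of_forall u hc 1 (w : C) (by
    intro l hl
    refine ⟨e ⟨l, hl⟩, ?_⟩
    rw [one_smul]
    have h1 : e ⟨l, hl⟩ • w = ⟨l, hl⟩ := by
      apply e.injective
      rw [map_smul, LinearEquiv.apply_symm_apply, smul_eq_mul, mul_one]
    exact (congrArg Subtype.val h1).symm)
  rw [map_one] at hv
  refine ⟨Units.mkOfMulEqOne _ _ hv.symm, ?_⟩
  exact (mem_L _ _).1 w.2

/-- **Unit cocycles are coboundaries** when the Picard group of `B` is trivial. -/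
theorem exists_unit [Module.FaithfullyFlat A A'] (hPic : Subsingleton (CommRing.Pic B))
    (u : ∀ (T : Type u) [CommRing T] [Algebra A T], (A' →ₐ[A] T) → (A' →ₐ[A] T) → (T ⊗[A] B)ˣ)
    (hnat : ∀ (T T' : Type u) [CommRing T] [Algebra A T] [CommRing T'] [Algebra A T'] (θ : T →ₐ[A] T')
      (φ ψ : A' →ₐ[A] T), mB B θ (u T φ ψ : T ⊗[A] B) = u T' (θ.comp φ) (θ.comp ψ))
    (hcoc : ∀ (T : Type u) [CommRing T] [Algebra A T] (φ ψ χ : A' →ₐ[A] T),
      (u T φ ψ : T ⊗[A] B) * u T ψ χ = u T φ χ) :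
    ∃ d : (A' ⊗[A] B)ˣ, ∀ (T : Type u) [CommRing T] [Algebra A T] (φ ψ : A' →ₐ[A] T),
      (u T φ ψ : T ⊗[A] B) * mB B φ (d : A' ⊗[A] B) = mB B ψ (d : A' ⊗[A] B) := by
  let C := B ⊗[A] A'
  let u₀ : (C ⊗[B] C)ˣ := Units.map (ev (C ⊗[B] C) : (C ⊗[B] C) ⊗[A] B →ₐ[A] _).toRingHom.toMonoidHom
    (u (C ⊗[B] C) (jl A B A') (jr A B A'))
  have hu₀ : (u₀ : C ⊗[B] C) = ev (C ⊗[B] C) (u (C ⊗[B] C) (jl A B A') (jr A B A') : (C ⊗[B] C) ⊗[A] B) := rfl
  -- images of `u₀`
  have himg : ∀ (T : Type u) [CommRing T] [Algebra A T] [Algebra B T] [IsScalarTower A B T] (θ : C ⊗[B] C →ₐ[B] T),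
      θ (u₀ : C ⊗[B] C) = ev T (u T ((θ.restrictScalars A).comp (jl A B A'))
        ((θ.restrictScalars A).comp (jr A B A')) : T ⊗[A] B) := by
    intro T _ _ _ _ θ
    rw [hu₀, ← ev_mB, hnat]
  have hc : IsCocycle (u₀ : C ⊗[B] C) := by
    have h1 := himg ((C ⊗[B] C) ⊗[B] C) e12
    have h2 := himg ((C ⊗[B] C) ⊗[B] C) e23
    have h3 := himg ((C ⊗[B] C) ⊗[B] C) e13
    rw [IsCocycle, h1, h2, h3, ← map_mul]
    congr 1
    have e1 : ((e12 (B := B) (C := C)).restrictScalars A).comp (jr A B A') =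
        ((e23 (B := B) (C := C)).restrictScalars A).comp (jl A B A') := by
      ext x
      simp [jl, jr, e12, e23]
    have e2 : ((e12 (B := B) (C := C)).restrictScalars A).comp (jl A B A') =
        ((e13 (B := B) (C := C)).restrictScalars A).comp (jl A B A') := by
      ext x
      simp [jl, e12, e13]
    have e3 : ((e23 (B := B) (C := C)).restrictScalars A).comp (jr A B A') =
        ((e13 (B := B) (C := C)).restrictScalars A).comp (jr A B A') := by
      ext x
      simp [jr, e23, e13]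
    rw [e1, e2, e3, hcoc]
  obtain ⟨w, hw⟩ := exists_coboundary' hPic u₀ hc
  let d : (A' ⊗[A] B)ˣ := Units.map (Algebra.TensorProduct.comm A A' B).symm.toRingEquiv.toRingHom.toMonoidHom w
  have hd : Algebra.TensorProduct.comm A A' B (d : A' ⊗[A] B) = w :=
    (Algebra.TensorProduct.comm A A' B).apply_symm_apply _
  refine ⟨d, fun T _ _ φ ψ => ?_⟩
  apply (Algebra.TensorProduct.comm A T B).injective
  let θ : C ⊗[B] C →ₐ[B] B ⊗[A] T := Algebra.TensorProduct.lift
    (Algebra.TensorProduct.map (AlgHom.id B B) φ) (Algebra.TensorProduct.map (AlgHom.id B B) ψ)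
    (fun _ _ => Commute.all _ _)
  have h1 : (θ.restrictScalars A).comp (jl A B A') =
      (Algebra.TensorProduct.includeRight : T →ₐ[A] B ⊗[A] T).comp φ := by
    ext x
    simp [θ, jl]
    exact Algebra.TensorProduct.map_tmul _ _ _ _
  have h2 : (θ.restrictScalars A).comp (jr A B A') =
      (Algebra.TensorProduct.includeRight : T →ₐ[A] B ⊗[A] T).comp ψ := by
    ext x
    simp [θ, jr]
    exact Algebra.TensorProduct.map_tmul _ _ _ _
  have h3 := congrArg θ hw
  rw [map_mul, himg _ θ, h1, h2, ← hnat, ev_comm] at h3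
  rw [map_mul, comm_mB, comm_mB, hd]
  have h4 : θ ((w : C) ⊗ₜ[B] (1 : C)) = Algebra.TensorProduct.map (AlgHom.id B B) φ (w : C) := by
    simp [θ]
  have h5 : θ ((1 : C) ⊗ₜ[B] (w : C)) = Algebra.TensorProduct.map (AlgHom.id B B) ψ (w : C) := by
    simp [θ]
  rw [h4, h5] at h3
  exact h3

/-- Descent of elements: elements of `A' ⊗[A] B` with equal images come from `B`. -/
theorem exists_of_eq [Module.FaithfullyFlat A A'] (z : A' ⊗[A] B)
    (h : mB B (Algebra.TensorProduct.includeLeft : A' →ₐ[A] A' ⊗[A] A') z =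
      mB B (Algebra.TensorProduct.includeRight : A' →ₐ[A] A' ⊗[A] A') z) :
    ∃ b : B, z = 1 ⊗ₜ[A] b := by
  let C := B ⊗[A] A'
  let θ : A' ⊗[A] A' →ₐ[A] C ⊗[B] C := Algebra.TensorProduct.lift (jl A B A') (jr A B A') (fun _ _ => Commute.all _ _)
  have h1 : θ.comp (Algebra.TensorProduct.includeLeft : A' →ₐ[A] A' ⊗[A] A') = jl A B A' := by
    ext x; simp [θ]
  have h2 : θ.comp (Algebra.TensorProduct.includeRight : A' →ₐ[A] A' ⊗[A] A') = jr A B A' := by
    ext x; simp [θ]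
  have h3 := congrArg (fun z => ev (C ⊗[B] C) (mB B θ z)) h
  beta_reduce at h3
  rw [mB_comp, mB_comp, h1, h2, ev_jl, ev_jr] at h3
  set w := Algebra.TensorProduct.comm A A' B z with hw
  have h4 : w ∈ L (1 : C ⊗[B] C) := by
    rw [mem_L, one_mul]
    exact h3
  obtain ⟨b, hb⟩ := (toL1_bijective (B := B) (C := C)).2 ⟨w, h4⟩
  refine ⟨b, ?_⟩
  have h5 : algebraMap B C b = w := congrArg Subtype.val hb
  have h6 : z = (Algebra.TensorProduct.comm A A' B).symm w := by rw [hw, AlgEquiv.symm_apply_apply]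
  rw [h6, ← h5]
  change (Algebra.TensorProduct.comm A A' B).symm (b ⊗ₜ[A] 1) = _
  simp

/-- the unit version -/
theorem exists_unit_of_eq [Module.FaithfullyFlat A A'] (z : (A' ⊗[A] B)ˣ)
    (h : mB B (Algebra.TensorProduct.includeLeft : A' →ₐ[A] A' ⊗[A] A') (z : A' ⊗[A] B) =
      mB B (Algebra.TensorProduct.includeRight : A' →ₐ[A] A' ⊗[A] A') (z : A' ⊗[A] B)) :
    ∃ b : Bˣ, (z : A' ⊗[A] B) = 1 ⊗ₜ[A] (b : B) := by
  obtain ⟨b, hb⟩ := exists_of_eq (z : A' ⊗[A] B) h
  obtain ⟨c, hc⟩ := exists_of_eq ((z⁻¹ : (A' ⊗[A] B)ˣ) : A' ⊗[A] B) (by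
    have h1 := congrArg Units.val (congrArg (fun t => t⁻¹) (Units.ext (show
      ((Units.map (mB B (Algebra.TensorProduct.includeLeft : A' →ₐ[A] A' ⊗[A] A')).toRingHom.toMonoidHom z :
        ((A' ⊗[A] A') ⊗[A] B)ˣ) : (A' ⊗[A] A') ⊗[A] B) =
      ((Units.map (mB B (Algebra.TensorProduct.includeRight : A' →ₐ[A] A' ⊗[A] A')).toRingHom.toMonoidHom z :
        ((A' ⊗[A] A') ⊗[A] B)ˣ) : (A' ⊗[A] A') ⊗[A] B) from h)))
    rw [← map_inv, ← map_inv] at h1
    exact h1)
  have hbc : b * c = 1 := by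
    have h1 : (1 : A') ⊗ₜ[A] (b * c) = 1 ⊗ₜ[A] (1 : B) := by
      have h2 : (1 : A') ⊗ₜ[A] (b * c) = ((1 : A') ⊗ₜ[A] b) * (1 ⊗ₜ[A] c) := by
        rw [Algebra.TensorProduct.tmul_mul_tmul, one_mul]
      rw [h2, ← hb, ← hc, Units.mul_inv]
      rfl
    exact Module.FaithfullyFlat.tensorProduct_mk_injective (A := A) (B := A') B h1
  exact ⟨Units.mkOfMulEqOne b c hbc, hb⟩

end K964.UC
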