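import Groth.Agent.MultTori.K965.Dict
import Groth.Agent.MultTori.K964.CharExt
import Groth.Agent.MultTori.K964.UC
import Groth.Agent.MultTori.K964.BcPt

/-!
# Base change of Galois extensions and dictionaries

For `A → R`: `IsGal A B G → IsGal R (R ⊗[A] B) G`, and `Dict A B G M Λ → Dict R (R ⊗[A] B) G (M_R) Λ`.
-/

set_option autoImplicit false
universe u

open CategoryTheory CategoryTheory.Limits MonoidalCategory CartesianMonoidalCategory AlgebraicGeometry
open TensorProduct

namespace K964.DictBc

open K965.Gal K964.UC K964.CharExt K964.AffPt K964.BcPt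
open K965.Pts (sp mp)
open scoped MonObj GrpObj

section act

variable (A B R : Type u) [CommRing A] [CommRing B] [Algebra A B] [CommRing R] [Algebra A R]
  (G : Type) [Group G] [MulSemiringAction G B] [SMulCommClass G A B]

/-- the action on the base change -/
@[reducible] noncomputable def actBc : MulSemiringAction G (R ⊗[A] B) where
  smul g z := act A B R g z
  one_smul := act_one
  mul_smul g h z := (act_act g h z).symm
  smul_zero _ := map_zero _
  smul_add _ := map_add _
  smul_one _ := map_one _
  smul_mul _ := map_mul _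

attribute [local instance] actBc

lemma smul_eq (g : G) (z : R ⊗[A] B) : g • z = act A B R g z := rfl

theorem commBc : SMulCommClass G R (R ⊗[A] B) :=
  ⟨fun g r z => map_smul (act A B R g) r z⟩

attribute [local instance] commBc

theorem isGal_bc [Fintype G] (hG : IsGal A B G) : IsGal R (R ⊗[A] B) G := by
  have := hG.ff
  have := hG.fin
  have := hG.et
  refine ⟨inferInstance, inferInstance, inferInstance, ?_, ?_, ?_⟩
  · intro b hb
    obtain ⟨r, hr⟩ := exists_of_act_eq hG b hb
    exact ⟨r, hr.symm⟩
  · obtain ⟨t, ht⟩ := hG.tr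
    refine ⟨1 ⊗ₜ t, ?_⟩
    simp only [smul_eq, act_tmul, ← TensorProduct.tmul_sum, ht]
    rfl
  · obtain ⟨n, x, y, h1, h2⟩ := hG.dual
    refine ⟨n, fun i => 1 ⊗ₜ x i, fun i => 1 ⊗ₜ y i, ?_, fun g hg => ?_⟩
    · simp only [Algebra.TensorProduct.tmul_mul_tmul, mul_one, ← TensorProduct.tmul_sum, h1]
      rfl
    · simp only [smul_eq, act_tmul, Algebra.TensorProduct.tmul_mul_tmul, mul_one, ← TensorProduct.tmul_sum, h2 g hg,
        TensorProduct.tmul_zero]

/-- `T ⊗[A] B ≃ T ⊗[R] (R ⊗[A] B)` -/
noncomputable def kap (T : Type u) [CommRing T] [Algebra A T] [Algebra R T] [IsScalarTower A R T] :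
    T ⊗[A] B ≃ₐ[T] T ⊗[R] (R ⊗[A] B) := (Algebra.TensorProduct.cancelBaseChange A R T T B).symm

variable {A B R G}
variable {T : Type u} [CommRing T] [Algebra A T] [Algebra R T] [IsScalarTower A R T]
variable {T' : Type u} [CommRing T'] [Algebra A T'] [Algebra R T'] [IsScalarTower A R T']

@[simp] lemma kap_tmul (t : T) (b : B) : kap A B R T (t ⊗ₜ b) = t ⊗ₜ (1 ⊗ₜ b) :=
  Algebra.TensorProduct.cancelBaseChange_symm_tmul A R T T B t b

@[simp] lemma kap_symm_tmul (t : T) (r : R) (b : B) : (kap A B R T).symm (t ⊗ₜ (r ⊗ₜ b)) = (r • t) ⊗ₜ b :=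
  Algebra.TensorProduct.cancelBaseChange_tmul A R T T B t r b

lemma act_kap (g : G) (z : T ⊗[A] B) : act R (R ⊗[A] B) T g (kap A B R T z) = kap A B R T (act A B T g z) := by
  induction z using TensorProduct.induction_on with
  | zero => simp
  | tmul t b => rw [kap_tmul, act_tmul, act_tmul, kap_tmul, smul_eq, act_tmul]
  | add x y hx hy => simp only [map_add, hx, hy]

lemma mB_kap (ψ : T →ₐ[R] T') (z : T ⊗[A] B) : mB (R ⊗[A] B) ψ (kap A B R T z) =
    kap A B R T' (mB B (ψ.restrictScalars A) z) := by
  induction z using TensorProduct.induction_on with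
  | zero => simp
  | tmul t b => simp
  | add x y hx hy => simp only [map_add, hx, hy]

/-- the unit version of `kap` -/
noncomputable def ku (A B R T : Type u) [CommRing A] [CommRing B] [Algebra A B] [CommRing R] [Algebra A R]
    [CommRing T] [Algebra A T] [Algebra R T] [IsScalarTower A R T] :
    Additive (T ⊗[A] B)ˣ ≃+ Additive (T ⊗[R] (R ⊗[A] B))ˣ :=
  MulEquiv.toAdditive (Units.mapEquiv (kap A B R T).toMulEquiv)

@[simp] lemma vl_ku (z : Additive (T ⊗[A] B)ˣ) : vl (ku A B R T z) = kap A B R T (vl z) := rfl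

@[simp] lemma vl_ku_symm (z : Additive (T ⊗[R] (R ⊗[A] B))ˣ) : vl ((ku A B R T).symm z) = (kap A B R T).symm (vl z) := rfl

end act

section dict

attribute [local instance] actBc commBc

variable {A B : Type u} [CommRing A] [CommRing B] [Algebra A B] {G : Type} [Group G]
    [MulSemiringAction G B] [SMulCommClass G A B]
    {M : Over (Spec (CommRingCat.of A))} [GrpObj M] {Λ : Type} [AddCommGroup Λ] [DistribMulAction G Λ]
    (D : K965.Dict A B G M Λ) (R : Type u) [CommRing R] [Algebra A R]

/-- the base change of a dictionary -/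
noncomputable def bc : K965.Dict R (R ⊗[A] B) G (Red.bc (tb A R) M) Λ where
  ch T _ _ x :=
    letI : Algebra A T := ((algebraMap R T).comp (algebraMap A R)).toAlgebra
    haveI : IsScalarTower A R T := IsScalarTower.of_algebraMap_eq (fun _ => rfl)
    (ku A B R T : Additive (T ⊗[A] B)ˣ →+ Additive (T ⊗[R] (R ⊗[A] B))ˣ).comp (D.ch T (ubp x))
  ch_mul T _ _ x y := by
    let _ : Algebra A T := ((algebraMap R T).comp (algebraMap A R)).toAlgebra
    have : IsScalarTower A R T := IsScalarTower.of_algebraMap_eq (fun _ => rfl)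
    ext1 m
    change ku A B R T (D.ch T (ubp (x * y)) m) = ku A B R T (D.ch T (ubp x) m) + ku A B R T (D.ch T (ubp y) m)
    rw [ubp_mul, D.ch_mul, ← map_add]
    rfl
  ch_inj T _ _ x y h := by
    let _ : Algebra A T := ((algebraMap R T).comp (algebraMap A R)).toAlgebra
    have : IsScalarTower A R T := IsScalarTower.of_algebraMap_eq (fun _ => rfl)
    apply ubp_injective (A := A)
    apply D.ch_inj
    ext1 m
    exact (ku A B R T).injective (DFunLike.congr_fun h m)
  ch_smul T _ _ x g m := by
    let _ : Algebra A T := ((algebraMap R T).comp (algebraMap A R)).toAlgebra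
    have : IsScalarTower A R T := IsScalarTower.of_algebraMap_eq (fun _ => rfl)
    change kap A B R T (vl (D.ch T (ubp x) (g • m))) = act R (R ⊗[A] B) T g (kap A B R T (vl (D.ch T (ubp x) m)))
    rw [act_kap]
    congr 1
    exact D.ch_smul T (ubp x) g m
  ch_surj T _ _ χ hχ := by
    let _ : Algebra A T := ((algebraMap R T).comp (algebraMap A R)).toAlgebra
    have : IsScalarTower A R T := IsScalarTower.of_algebraMap_eq (fun _ => rfl)
    obtain ⟨x, hx⟩ := D.ch_surj T (((ku A B R T).symm : _ →+ _).comp χ) (by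
      intro g m
      change vl ((ku A B R T).symm (χ (g • m))) = act A B T g (vl ((ku A B R T).symm (χ m)))
      rw [vl_ku_symm, vl_ku_symm, AlgEquiv.symm_apply_eq, ← act_kap, AlgEquiv.apply_symm_apply]
      exact hχ g m)
    refine ⟨bp x, ?_⟩
    ext1 m
    change ku A B R T (D.ch T (ubp (bp x)) m) = _
    rw [ubp_bp, hx]
    exact (ku A B R T).apply_symm_apply _
  ch_nat T T' _ _ _ _ ψ x m := by
    let _ : Algebra A T := ((algebraMap R T).comp (algebraMap A R)).toAlgebra
    have : IsScalarTower A R T := IsScalarTower.of_algebraMap_eq (fun _ => rfl)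
    let _ : Algebra A T' := ((algebraMap R T').comp (algebraMap A R)).toAlgebra
    have : IsScalarTower A R T' := IsScalarTower.of_algebraMap_eq (fun _ => rfl)
    apply Units.ext
    change kap A B R T' (vl (D.ch T' (ubp (ap ψ ≫ x)) m)) = mB (R ⊗[A] B) ψ (kap A B R T (vl (D.ch T (ubp x) m)))
    rw [mB_kap, ← ap_ubp]
    congr 1
    exact congrArg Units.val (D.ch_nat T T' (ψ.restrictScalars A) (ubp x) m)

/-- the value of the base-changed dictionary, for any compatible algebra structure -/
lemma bc_ch {T : Type u} [CommRing T] [h : Algebra A T] [Algebra R T] [hs : IsScalarTower A R T]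
    (x : sp (algebraMap R T) ⟶ Red.bc (tb A R) M) (m : Λ) :
    (bc D R).ch T x m = ku A B R T (D.ch T (ubp x) m) := by
  have h1 : h = ((algebraMap R T).comp (algebraMap A R)).toAlgebra := Algebra.algebra_ext _ _ fun r => by
    rw [← IsScalarTower.algebraMap_eq A R T]
    rfl
  subst h1
  rfl

lemma bc_ch_bp {T : Type u} [CommRing T] [Algebra A T] [Algebra R T] [IsScalarTower A R T]
    (x : sp (algebraMap A T) ⟶ M) (m : Λ) :
    (bc D R).ch T (bp x) m = ku A B R T (D.ch T x m) := by
  rw [bc_ch, ubp_bp]

end dict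

end K964.DictBc
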