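import Groth.Agent.MultTori.K964.CharExt
import Mathlib.RingTheory.UniqueFactorizationDomain.Basic
import Mathlib.RingTheory.Ideal.Pointwise
import Mathlib.Algebra.Ring.Action.Submonoid
import Mathlib.RingTheory.PrincipalIdealDomain

/-!
# Equivariant generators of the principal primes of a factorial ring

`𝔅` factorial with an action of `G` such that 1-cocycles of subgroups with values in `𝔅ˣ` are coboundaries.
* `Pr 𝔅`: nonzero principal primes; `exists_gen`: an equivariant choice of generators;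
* `Phi`: the isomorphism `𝔅ˣ × (Pr →₀ ℤ) ≃ Lˣ` for the fraction ring `L`.
-/

set_option autoImplicit false
universe u v w

open scoped Pointwise

namespace K964.DivSec

open K964.CharExt

variable (𝔅 : Type u) [CommRing 𝔅]

/-- nonzero principal prime ideals -/
def Pr : Type u := {q : Ideal 𝔅 // q.IsPrime ∧ q ≠ ⊥ ∧ ∃ b, q = Ideal.span {b}}

variable {𝔅}

lemma Pr.prime_gen (q : Pr 𝔅) {b : 𝔅} (h : q.1 = Ideal.span {b}) : Prime b := by
  have h1 : b ≠ 0 := by
    rintro rfl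
    apply q.2.2.1
    rw [h, Ideal.span_singleton_eq_bot]
  rw [← Ideal.span_singleton_prime h1, ← h]
  exact q.2.1

section action

variable {G : Type v} [Group G] [MulSemiringAction G 𝔅]

lemma smul_span (g : G) (b : 𝔅) : g • Ideal.span {b} = Ideal.span {g • b} := by
  change Ideal.map _ _ = _
  rw [Ideal.map_span, Set.image_singleton]
  rfl

noncomputable instance : MulAction G (Pr 𝔅) where
  smul g q := ⟨g • q.1, by
    obtain ⟨h1, h2, b, hb⟩ := q.2
    have hp : Prime b := q.prime_gen hb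
    have hgp : Prime (g • b) := by
      exact (MulEquiv.prime_iff (MulSemiringAction.toRingEquiv G 𝔅 g)).2 hp
    have e : g • q.1 = Ideal.span {g • b} := by rw [hb, smul_span]
    refine ⟨?_, ?_, g • b, e⟩
    · rw [e, Ideal.span_singleton_prime hgp.ne_zero]; exact hgp
    · rw [e, Ne, Ideal.span_singleton_eq_bot]; exact hgp.ne_zero⟩
  one_smul q := Subtype.ext (one_smul G q.1)
  mul_smul g h q := Subtype.ext (mul_smul g h q.1)

lemma coe_smul (g : G) (q : Pr 𝔅) : (g • q).1 = g • q.1 := rfl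

/-- 1-cocycles of subgroups with values in units are coboundaries -/
def H90P (𝔅 : Type u) [CommRing 𝔅] (G : Type v) [Group G] [MulSemiringAction G 𝔅] : Prop :=
  ∀ (D : Subgroup G) (f : D → 𝔅ˣ), (∀ d e : D, (f (d * e) : 𝔅) = f d * (d : G) • (f e : 𝔅)) →
    ∃ u : 𝔅ˣ, ∀ d : D, (f d : 𝔅) * (d : G) • (u : 𝔅) = u

lemma exists_gen_stab [IsDomain 𝔅] (h90 : H90P 𝔅 G) (q : Pr 𝔅) : ∃ b : 𝔅, q.1 = Ideal.span {b} ∧
    ∀ d : G, d • q = q → d • b = b := by
  obtain ⟨b, hb⟩ := q.2.2.2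
  have hp : Prime b := q.prime_gen hb
  have h1 : ∀ d : MulAction.stabilizer G q, ∃ u : 𝔅ˣ, (d : G) • b = u * b := by
    intro d
    have h2 : (d : G) • q.1 = q.1 := congrArg Subtype.val d.2
    rw [hb, smul_span, Ideal.span_singleton_eq_span_singleton] at h2
    obtain ⟨u, hu⟩ := h2.symm
    exact ⟨u, by rw [← hu, mul_comm]⟩
  choose f hf using h1
  obtain ⟨u, hu⟩ := h90 (MulAction.stabilizer G q) f (by
    intro d e
    apply mul_right_cancel₀ hp.ne_zero
    rw [← hf, Subgroup.coe_mul, mul_smul, hf, smul_mul', hf]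
    ring)
  refine ⟨u * b, ?_, ?_⟩
  · rw [hb, Ideal.span_singleton_eq_span_singleton]
    exact ⟨u, mul_comm _ _⟩
  · intro d hd
    have h2 := hf ⟨d, hd⟩
    have h3 := hu ⟨d, hd⟩
    change d • b = _ at h2
    change _ * d • (u : 𝔅) = _ at h3
    rw [smul_mul', h2]
    linear_combination b * h3

/-- An equivariant choice of generators. -/
theorem exists_gen [IsDomain 𝔅] (h90 : H90P 𝔅 G) : ∃ γ : Pr 𝔅 → 𝔅, (∀ q, q.1 = Ideal.span {γ q}) ∧
    ∀ (g : G) (q : Pr 𝔅), γ (g • q) = g • γ q := by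
  choose π hπ hπ' using exists_gen_stab (G := G) (𝔅 := 𝔅) h90
  let rep : Pr 𝔅 → Pr 𝔅 := fun i => (Quotient.mk (MulAction.orbitRel G (Pr 𝔅)) i).out
  have hrep : ∀ i, ∃ g : G, g • rep i = i := by
    intro i
    have h1 : (MulAction.orbitRel G (Pr 𝔅)).r (rep i) i := Quotient.exact (Quotient.out_eq _)
    have h2 : rep i ∈ MulAction.orbit G i := h1
    rw [MulAction.mem_orbit_symm] at h2
    exact h2
  have hrep_smul : ∀ (g : G) (i : Pr 𝔅), rep (g • i) = rep i := by
    intro g i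
    have : (Quotient.mk (MulAction.orbitRel G (Pr 𝔅)) (g • i)) = Quotient.mk (MulAction.orbitRel G (Pr 𝔅)) i :=
      Quotient.sound (MulAction.mem_orbit i g)
    simp only [rep, this]
  choose gi hgi using hrep
  refine ⟨fun q => gi q • π (rep q), fun q => ?_, fun g q => ?_⟩
  · rw [← smul_span, ← hπ, ← coe_smul, hgi]
  · beta_reduce
    have h1 : ((gi (g • q))⁻¹ * (g * gi q)) • rep q = rep q := by
      rw [mul_smul, mul_smul, hgi, inv_smul_eq_iff, ← hrep_smul g q, hgi]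
    have h2 := hπ' (rep q) _ h1
    rw [mul_smul, inv_smul_eq_iff, mul_smul] at h2
    rw [hrep_smul, h2]

end action

section Phi

variable [IsDomain 𝔅] {L : Type w} [CommRing L] (j : 𝔅 →+* L) (hu : ∀ b, b ≠ 0 → IsUnit (j b))
  (γ : Pr 𝔅 → 𝔅) (hγ : ∀ q, q.1 = Ideal.span {γ q})

omit [IsDomain 𝔅] in
include hγ in
lemma gen_ne_zero (q : Pr 𝔅) : γ q ≠ 0 := (q.prime_gen (hγ q)).ne_zero

/-- the unit of `L` defined by a nonzero element -/
noncomputable def ul (b : 𝔅) (hb : b ≠ 0) : Additive Lˣ := Additive.ofMul (hu b hb).unit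

omit [IsDomain 𝔅] in
@[simp] lemma vl_ul (b : 𝔅) (hb : b ≠ 0) : vl (ul j hu b hb) = j b := rfl

/-- the map `𝔅ˣ × (Pr →₀ ℤ) → Lˣ` -/
noncomputable def Phi : Additive 𝔅ˣ × (Pr 𝔅 →₀ ℤ) →+ Additive Lˣ :=
  AddMonoidHom.coprod (um j) (Finsupp.liftAddHom (fun q => zmultiplesHom _ (ul j hu (γ q) (gen_ne_zero γ hγ q))))

omit [IsDomain 𝔅] in
lemma Phi_fst (u : Additive 𝔅ˣ) : Phi j hu γ hγ (u, 0) = um j u := by
  simp [Phi]

omit [IsDomain 𝔅] in
lemma Phi_single (q : Pr 𝔅) (k : ℤ) : Phi j hu γ hγ (0, Finsupp.single q k) = k • ul j hu (γ q) (gen_ne_zero γ hγ q) := by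
  simp [Phi]

omit [IsDomain 𝔅] in
lemma Phi_add (u : Additive 𝔅ˣ) (m : Pr 𝔅 →₀ ℤ) : Phi j hu γ hγ (u, m) = um j u + Phi j hu γ hγ (0, m) := by
  rw [← Phi_fst j hu γ hγ u, ← map_add]
  simp

theorem Phi_surjective [UniqueFactorizationMonoid 𝔅]
    (hfrac : ∀ z : Lˣ, ∃ b b' : 𝔅, b ≠ 0 ∧ b' ≠ 0 ∧ (z : L) * j b' = j b) :
    Function.Surjective (Phi j hu γ hγ) := by
  have h1 : ∀ b : 𝔅, ∀ hb : b ≠ 0, ul j hu b hb ∈ (Phi j hu γ hγ).range := by
    intro b
    induction b using UniqueFactorizationMonoid.induction_on_prime with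
    | h₁ => exact fun h => absurd rfl h
    | h₂ x hx =>
      intro hb
      refine ⟨(Additive.ofMul hx.unit, 0), ?_⟩
      rw [Phi_fst]
      apply addUnits_ext
      rw [vl_um, vl_ul]
      rfl
    | h₃ a p ha hp ih =>
      intro hb
      let q : Pr 𝔅 := ⟨Ideal.span {p}, (Ideal.span_singleton_prime hp.ne_zero).2 hp,
        by rw [Ne, Ideal.span_singleton_eq_bot]; exact hp.ne_zero, p, rfl⟩
      have h2 : Ideal.span {p} = Ideal.span {γ q} := hγ q
      rw [Ideal.span_singleton_eq_span_singleton] at h2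
      obtain ⟨u, hu'⟩ := h2.symm
      obtain ⟨z, hz⟩ := ih ha
      refine ⟨(Additive.ofMul u, Finsupp.single q 1) + z, ?_⟩
      rw [map_add, Phi_add, Phi_single, one_smul, hz]
      apply addUnits_ext
      rw [vl_add, vl_add, vl_um, vl_ul, vl_ul, vl_ul, map_mul, ← hu', map_mul]
      change j u * _ * _ = _
      ring
  intro z
  obtain ⟨b, b', hb, hb', h⟩ := hfrac z.toMul
  have h2 : z = ul j hu b hb - ul j hu b' hb' := by
    rw [eq_sub_iff_add_eq]
    apply addUnits_ext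
    rw [vl_add, vl_ul, vl_ul]
    exact h
  obtain ⟨x, hx⟩ := h1 b hb
  obtain ⟨x', hx'⟩ := h1 b' hb'
  exact ⟨x - x', by rw [map_sub, hx, hx', h2]⟩

lemma vl_nsmul {R : Type*} [CommMonoid R] (k : ℕ) (u : Additive Rˣ) : vl (k • u) = vl u ^ k := by
  change ((u.toMul ^ k : Rˣ) : R) = _
  rw [Units.val_pow_eq_pow_val]

lemma vl_sum {R : Type*} [CommMonoid R] {I : Type*} (s : Finset I) (x : I → Additive Rˣ) :
    vl (∑ i ∈ s, x i) = ∏ i ∈ s, vl (x i) := by
  classical
  induction s using Finset.induction with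
  | empty => simp
  | insert a s ha ih => rw [Finset.sum_insert ha, vl_add, ih, Finset.prod_insert ha]

include hγ in
lemma not_dvd_prod (q₀ : Pr 𝔅) (s : Finset (Pr 𝔅)) (k : Pr 𝔅 → ℕ) (hk : k q₀ = 0) : ¬ γ q₀ ∣ ∏ q ∈ s, γ q ^ k q := by
  have hp := q₀.prime_gen (hγ q₀)
  rw [Prime.dvd_finsetProd_iff hp]
  rintro ⟨q, -, hq⟩
  by_cases h0 : k q = 0
  · rw [h0, pow_zero] at hq
    exact hp.not_isUnit (isUnit_of_dvd_one hq)
  · have h1 := hp.dvd_of_dvd_pow hq
    have hp' := q.prime_gen (hγ q)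
    have h2 : Associated (γ q₀) (γ q) := hp.associated_of_dvd hp' h1
    have h3 : q₀ = q := Subtype.ext (by
      rw [hγ, hγ, Ideal.span_singleton_eq_span_singleton]; exact h2)
    subst h3
    exact h0 hk

theorem Phi_injective (hj : Function.Injective j) : Function.Injective (Phi j hu γ hγ) := by
  classical
  rw [injective_iff_map_eq_zero]
  rintro ⟨u, m⟩ h
  -- the relation in `𝔅`
  have h0 : ∀ (m : Pr 𝔅 →₀ ℤ) (s : Finset (Pr 𝔅)), m.support ⊆ s →
      vl (Phi j hu γ hγ (0, m)) * j (∏ q ∈ s, γ q ^ (-(m q)).toNat) = j (∏ q ∈ s, γ q ^ (m q).toNat) := by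
    intro m s hs
    have h1 : Phi j hu γ hγ (0, m) = ∑ q ∈ s, (m q) • ul j hu (γ q) (gen_ne_zero γ hγ q) := by
      rw [Phi]
      simp only [AddMonoidHom.coprod_apply, map_zero, zero_add]
      rw [Finsupp.liftAddHom_apply, Finsupp.sum_of_support_subset _ hs _ (by simp)]
      simp
    have h2 : ∀ q, (m q) • ul j hu (γ q) (gen_ne_zero γ hγ q) =
        (m q).toNat • ul j hu (γ q) (gen_ne_zero γ hγ q) - (-(m q)).toNat • ul j hu (γ q) (gen_ne_zero γ hγ q) := by
      intro q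
      rw [← natCast_zsmul, ← natCast_zsmul, ← sub_smul]
      congr 1
      omega
    have hval : ∀ (k : Pr 𝔅 → ℕ), vl (∑ q ∈ s, k q • ul j hu (γ q) (gen_ne_zero γ hγ q)) = j (∏ q ∈ s, γ q ^ k q) := by
      intro k
      rw [map_prod, vl_sum]
      refine Finset.prod_congr rfl fun q _ => ?_
      rw [vl_nsmul, vl_ul, map_pow]
    rw [h1, ← hval, ← vl_add]
    simp only [h2]
    rw [Finset.sum_sub_distrib, sub_add_cancel, hval]
  rw [Phi_add] at h
  have h1 := congrArg vl h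
  rw [vl_add, vl_um, vl_zero] at h1
  have h2 : (vl u) * ∏ q ∈ m.support, γ q ^ (m q).toNat = ∏ q ∈ m.support, γ q ^ (-(m q)).toNat := by
    apply hj
    rw [map_mul, ← h0 m m.support subset_rfl, ← mul_assoc, h1, one_mul]
  have hm : m = 0 := by
    ext q₀
    by_contra hne
    change m q₀ ≠ 0 at hne
    have hmem : q₀ ∈ m.support := Finsupp.mem_support_iff.2 hne
    have hdvd : ∀ k : Pr 𝔅 → ℕ, k q₀ ≠ 0 → γ q₀ ∣ ∏ q ∈ m.support, γ q ^ k q := fun k hk =>
      (dvd_pow_self _ hk).trans (Finset.dvd_prod_of_mem (fun q => γ q ^ k q) hmem)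
    rcases lt_or_gt_of_ne hne with hlt | hgt
    · have h3 := hdvd (fun q => (-(m q)).toNat) (by omega)
      rw [← h2] at h3
      have h4 : IsUnit (vl u) := Units.isUnit _
      rw [h4.dvd_mul_left] at h3
      exact not_dvd_prod γ hγ q₀ m.support (fun q => (m q).toNat) (by omega) h3
    · have h3 := hdvd (fun q => (m q).toNat) (by omega)
      have h4 : γ q₀ ∣ vl u * ∏ q ∈ m.support, γ q ^ (m q).toNat := Dvd.dvd.mul_left h3 _
      rw [h2] at h4
      exact not_dvd_prod γ hγ q₀ m.support (fun q => (-(m q)).toNat) (by omega) h4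
  subst hm
  have hu0 : u = 0 := addUnits_ext (by simpa using h2)
  rw [hu0]
  rfl

section equiv

variable {G : Type v} [Group G] [MulSemiringAction G 𝔅] (σ : G → L →+* L) (hσ : ∀ g b, σ g (j b) = j (g • b))
  (hγG : ∀ (g : G) (q : Pr 𝔅), γ (g • q) = g • γ q)

/-- the action on units of `𝔅` -/
noncomputable def ug (g : G) : Additive 𝔅ˣ →+ Additive 𝔅ˣ := um (MulSemiringAction.toRingHom G 𝔅 g)

omit [IsDomain 𝔅] in
@[simp] lemma vl_ug (g : G) (u : Additive 𝔅ˣ) : vl (ug g u) = g • vl u := rfl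

omit [IsDomain 𝔅] in
include hσ hγG in
/-- equivariance of `Phi` -/
theorem Phi_equivariant (g : G) (u : Additive 𝔅ˣ) (m : Pr 𝔅 →₀ ℤ) :
    um (σ g) (Phi j hu γ hγ (u, m)) = Phi j hu γ hγ (ug g u, Finsupp.mapDomain (g • ·) m) := by
  rw [Phi_add, Phi_add _ _ _ _ (ug g u), map_add]
  congr 1
  · apply addUnits_ext
    rw [vl_um, vl_um, vl_um, hσ, vl_ug]
  · have h : (um (σ g)).comp ((Phi j hu γ hγ).comp (AddMonoidHom.inr _ _)) =
        ((Phi j hu γ hγ).comp (AddMonoidHom.inr _ _)).comp (Finsupp.mapDomain.addMonoidHom (g • ·)) := by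
      refine Finsupp.addHom_ext fun q k => ?_
      change um (σ g) (Phi j hu γ hγ (0, Finsupp.single q k)) =
        Phi j hu γ hγ (0, Finsupp.mapDomain (g • ·) (Finsupp.single q k))
      rw [Finsupp.mapDomain_single, Phi_single, Phi_single, map_zsmul]
      congr 1
      apply addUnits_ext
      rw [vl_um, vl_ul, vl_ul, hσ, hγG]
    exact DFunLike.congr_fun h m

/-- **Equivariant retraction** of the units of the fraction ring onto the units of a factorial ring. -/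
theorem exists_retraction [UniqueFactorizationMonoid 𝔅] (h90 : H90P 𝔅 G) (hj : Function.Injective j)
    (hfrac : ∀ z : Lˣ, ∃ b b' : 𝔅, b ≠ 0 ∧ b' ≠ 0 ∧ (z : L) * j b' = j b)
    (hu : ∀ b, b ≠ 0 → IsUnit (j b)) (hσ : ∀ g b, σ g (j b) = j (g • b)) :
    ∃ r : Additive Lˣ →+ Additive 𝔅ˣ, (∀ b, r (um j b) = b) ∧ ∀ g z, vl (r (um (σ g) z)) = g • vl (r z) := by
  obtain ⟨γ, hγ, hγG⟩ := exists_gen h90
  have hinj := Phi_injective j hu γ hγ hj
  let e : Additive 𝔅ˣ × (Pr 𝔅 →₀ ℤ) ≃+ Additive Lˣ :=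
    AddEquiv.ofBijective (Phi j hu γ hγ) ⟨hinj, Phi_surjective j hu γ hγ hfrac⟩
  have he : ∀ x, e x = Phi j hu γ hγ x := fun x => rfl
  refine ⟨(AddMonoidHom.fst _ _).comp e.symm.toAddMonoidHom, fun b => ?_, fun g z => ?_⟩
  · change (e.symm (um j b)).1 = b
    rw [← Phi_fst j hu γ hγ b, ← he, AddEquiv.symm_apply_apply]
  · obtain ⟨⟨u, m⟩, rfl⟩ := e.surjective z
    change vl (e.symm (um (σ g) (e (u, m)))).1 = g • vl (e.symm (e (u, m))).1
    rw [he, Phi_equivariant j hu γ hγ σ hσ hγG, ← he, ← he, AddEquiv.symm_apply_apply, AddEquiv.symm_apply_apply,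
      vl_ug]

end equiv

end Phi

end K964.DivSec
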