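import Groth.Agent.MultTori.K964.ExtE
import Groth.Agent.MultTori.K964.DivSec
import Mathlib.RingTheory.Localization.BaseChange
import Mathlib.RingTheory.Localization.Integral

/-!
# The fraction ring `K ⊗[A] B` and the equivariant retraction `(K ⊗ B)ˣ → Bˣ`
-/

set_option autoImplicit false
universe u

open CategoryTheory AlgebraicGeometry TensorProduct

namespace K964.FracB

open K965.Gal K964.CharExt K964.DivSec K964.ExtE

variable {A B : Type u} [CommRing A] [IsDomain A] [CommRing B] [IsDomain B] [Algebra A B] [Module.Flat A B]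
  [Module.Finite A B] [FaithfulSMul A B] (K : Type u) [Field K] [Algebra A K] [IsFractionRing A K]

omit [IsDomain B] [Module.Flat A B] [Module.Finite A B] [FaithfulSMul A B] in
lemma exists_tmul (z : K ⊗[A] B) : ∃ (a : A) (b : B), a ≠ 0 ∧ algebraMap A K a • z = 1 ⊗ₜ b := by
  induction z using TensorProduct.induction_on with
  | zero => exact ⟨1, 0, one_ne_zero, by simp⟩
  | tmul k b =>
    obtain ⟨x, y, rfl⟩ := IsLocalization.exists_mk'_eq (nonZeroDivisors A) k
    refine ⟨y, x • b, nonZeroDivisors.ne_zero y.2, ?_⟩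
    rw [TensorProduct.smul_tmul', smul_eq_mul, mul_comm, IsLocalization.mk'_spec, TensorProduct.tmul_smul,
      TensorProduct.smul_tmul', Algebra.algebraMap_eq_smul_one]
  | add z w hz hw =>
    obtain ⟨a, b, ha, hab⟩ := hz
    obtain ⟨a', b', ha', hab'⟩ := hw
    refine ⟨a * a', a' • b + a • b', mul_ne_zero ha ha', ?_⟩
    rw [TensorProduct.tmul_add, TensorProduct.tmul_smul, TensorProduct.tmul_smul, ← hab, ← hab', smul_add, map_mul]
    congr 1
    · rw [mul_comm, mul_smul, algebraMap_smul]
    · rw [mul_smul, algebraMap_smul]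

omit [IsDomain A] [IsDomain B] [Module.Finite A B] [FaithfulSMul A B] in
lemma includeRight_injective : Function.Injective (Algebra.TensorProduct.includeRight : B →ₐ[A] K ⊗[A] B) := by
  have h1 : Function.Injective (Algebra.linearMap A K) := IsFractionRing.injective A K
  have h2 := Module.Flat.rTensor_preserves_injective_linearMap (M := B) _ h1
  intro x y h
  have h3 : (Algebra.linearMap A K).rTensor B (1 ⊗ₜ x) = (Algebra.linearMap A K).rTensor B (1 ⊗ₜ y) := by
    rw [LinearMap.rTensor_tmul, LinearMap.rTensor_tmul, Algebra.linearMap_apply, map_one]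
    exact h
  have h4 := congrArg (TensorProduct.lid A B) (h2 h3)
  rwa [TensorProduct.lid_tmul, TensorProduct.lid_tmul, one_smul, one_smul] at h4

omit [Module.Flat A B] [FaithfulSMul A B] in
lemma isUnit_includeRight (b : B) (hb : b ≠ 0) :
    IsUnit (Algebra.TensorProduct.includeRight b : K ⊗[A] B) := by
  have h1 : IsIntegral A b := Algebra.IsIntegral.isIntegral b
  obtain ⟨a, ha, c, hc⟩ := h1.isAlgebraic.exists_nonzero_dvd (mem_nonZeroDivisors_of_ne_zero hb)
  have ha' : algebraMap A K a ≠ 0 := by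
    rwa [Ne, FaithfulSMul.algebraMap_eq_zero_iff]
  refine IsUnit.of_mul_eq_one (algebraMap K (K ⊗[A] B) (algebraMap A K a)⁻¹ *
    (Algebra.TensorProduct.includeRight c : K ⊗[A] B)) ?_
  have h2 : (Algebra.TensorProduct.includeRight b : K ⊗[A] B) * (Algebra.TensorProduct.includeRight c : K ⊗[A] B) =
      algebraMap K (K ⊗[A] B) (algebraMap A K a) := by
    rw [← map_mul, ← hc, AlgHom.commutes, IsScalarTower.algebraMap_apply A K (K ⊗[A] B)]
  rw [mul_left_comm, h2, ← map_mul, inv_mul_cancel₀ ha', map_one]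

lemma exists_fractions (z : (K ⊗[A] B)ˣ) : ∃ b b' : B, b ≠ 0 ∧ b' ≠ 0 ∧
    (z : K ⊗[A] B) * (Algebra.TensorProduct.includeRight b' : K ⊗[A] B) = Algebra.TensorProduct.includeRight b := by
  obtain ⟨a, b, ha, h⟩ := exists_tmul K (z : K ⊗[A] B)
  have ha' : algebraMap A B a ≠ 0 := by
    rwa [Ne, FaithfulSMul.algebraMap_eq_zero_iff]
  have h2 : (z : K ⊗[A] B) * (Algebra.TensorProduct.includeRight (algebraMap A B a) : K ⊗[A] B) =
      Algebra.TensorProduct.includeRight b := by
    change _ = (1 : K) ⊗ₜ[A] b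
    rw [← h, AlgHom.commutes, IsScalarTower.algebraMap_apply A K (K ⊗[A] B), mul_comm, ← Algebra.smul_def]
  refine ⟨b, algebraMap A B a, ?_, ha', h2⟩
  rintro rfl
  rw [map_zero] at h2
  have h3 := (isUnit_includeRight (A := A) K _ ha').mul_left_eq_zero.1 h2
  have : Nontrivial (K ⊗[A] B) := (includeRight_injective (A := A) (B := B) K).nontrivial
  exact z.ne_zero h3

/-- The equivariant retraction. -/
theorem exists_retr {G : Type} [Group G] [MulSemiringAction G B] [SMulCommClass G A B]
    [UniqueFactorizationMonoid B] (h90 : H90P B G) :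
    ∃ r : Additive (K ⊗[A] B)ˣ →+ Additive Bˣ, (∀ b, r (ib A K b) = b) ∧
      ∀ (g : G) (z : Additive (K ⊗[A] B)ˣ), vl (r (ua A B K g z)) = g • vl (r z) := by
  exact exists_retraction ((Algebra.TensorProduct.includeRight : B →ₐ[A] K ⊗[A] B) : B →+* K ⊗[A] B)
    (fun g : G => (act A B K g : K ⊗[A] B →+* K ⊗[A] B)) h90 (includeRight_injective K) (exists_fractions K)
    (isUnit_includeRight K) (fun g b => by
      change act A B K g (1 ⊗ₜ b) = 1 ⊗ₜ (g • b)
      rw [act_tmul])

end K964.FracB
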