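import Mathlib.RingTheory.Invariant.Basic
import Mathlib.RingTheory.Ideal.GoingUp
import Mathlib.RingTheory.Ideal.Quotient.Operations
import Mathlib.RingTheory.Spectrum.Maximal.Basic
import Mathlib.Tactic.LinearCombination

/-!
# Hilbert 90 for semilocal Galois extensions

`exists_unit`: a finite group `D` acting on a semilocal ring `B` in a Galois way; a 1-cocycle `D → Bˣ` is a
coboundary.
-/

set_option autoImplicit false
universe u v

namespace K964.H90

variable {B : Type u} [CommRing B] {D : Type v} [Group D] [MulSemiringAction D B]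

variable (B D) in
/-- the ring of invariants -/
def R0 : Subring B where
  carrier := {b | ∀ d : D, d • b = b}
  mul_mem' := fun {a b} ha hb d => by rw [smul_mul', ha d, hb d]
  one_mem' := fun d => smul_one d
  add_mem' := fun {a b} ha hb d => by rw [smul_add, ha d, hb d]
  zero_mem' := fun d => smul_zero d
  neg_mem' := fun {a} ha d => by rw [smul_neg, ha d]

lemma mem_R0 {b : B} : b ∈ R0 B D ↔ ∀ d : D, d • b = b := Iff.rfl

instance : SMulCommClass D (R0 B D) B where
  smul_comm d r b := by
    rw [Subring.smul_def, Subring.smul_def, smul_eq_mul, smul_eq_mul, smul_mul', r.2 d]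

instance : Algebra.IsInvariant (R0 B D) B D where
  isInvariant b hb := ⟨⟨b, hb⟩, rfl⟩

/-- the invariants of a semilocal ring form a semilocal ring -/
lemma finite_R0 [Finite D] [Finite (MaximalSpectrum B)] : Finite (MaximalSpectrum (R0 B D)) := by
  have hint : Algebra.IsIntegral (R0 B D) B := Algebra.IsInvariant.isIntegral (R0 B D) B D
  have h1 : ∀ n : MaximalSpectrum (R0 B D), ∃ Q : MaximalSpectrum B,
      Q.asIdeal.comap (algebraMap (R0 B D) B) = n.asIdeal := by
    intro n
    obtain ⟨Q, hQ, hQn⟩ := Ideal.exists_ideal_over_maximal_of_isIntegral (S := B) n.asIdeal (by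
      have h2 : RingHom.ker (algebraMap (R0 B D) B) = ⊥ := by
        rw [← RingHom.injective_iff_ker_eq_bot]
        exact Subtype.val_injective
      rw [h2]
      exact bot_le)
    exact ⟨⟨Q, hQ⟩, hQn⟩
  choose Q hQ using h1
  refine Finite.of_injective Q ?_
  intro n n' h
  have h2 := hQ n
  rw [h, hQ n'] at h2
  exact MaximalSpectrum.ext h2.symm

/-- In a semilocal ring `R ⊆ S`, mutually inverse submodules contain mutually inverse elements. -/
lemma exists_mul_eq_one {R : Type*} [CommRing R] [Finite (MaximalSpectrum R)] {S : Type*} [CommRing S] [Algebra R S]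
    (hinj : Function.Injective (algebraMap R S)) (M₁ M₂ : Submodule R S)
    (hle : ∀ a ∈ M₁, ∀ b ∈ M₂, ∃ r, algebraMap R S r = a * b) (h1 : (1 : S) ∈ M₁ * M₂) :
    ∃ a ∈ M₁, ∃ b ∈ M₂, a * b = 1 := by
  have h2 : ∀ n : MaximalSpectrum R, ∃ a ∈ M₁, ∃ b ∈ M₂, ∀ r, algebraMap R S r = a * b → r ∉ n.asIdeal := by
    intro n
    by_contra hcon
    push Not at hcon
    have h3 : M₁ * M₂ ≤ Submodule.map (Algebra.linearMap R S) n.asIdeal := by
      rw [Submodule.mul_le]
      intro a ha b hb
      obtain ⟨r, hr, hrn⟩ := hcon a ha b hb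
      exact ⟨r, hrn, hr⟩
    obtain ⟨r, hr, hr1⟩ := h3 h1
    have h4 : r = 1 := hinj (by rw [map_one]; exact hr1)
    exact (Ideal.ne_top_iff_one _).1 n.isMaximal.ne_top (h4 ▸ hr)
  choose a ha b hb hab using h2
  have hcop : Pairwise (Function.onFun IsCoprime (fun n : MaximalSpectrum R => n.asIdeal)) := by
    intro n n' hnn'
    exact Ideal.isCoprime_of_isMaximal (fun h => hnn' (MaximalSpectrum.ext h))
  classical
  have := Fintype.ofFinite (MaximalSpectrum R)
  choose e he using fun n : MaximalSpectrum R => Ideal.exists_forall_sub_mem_ideal hcop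
    (fun n' => if n' = n then (1 : R) else 0)
  let a' : S := ∑ n, e n • a n
  let b' : S := ∑ n, e n • b n
  have ha' : a' ∈ M₁ := Submodule.sum_mem _ fun n _ => M₁.smul_mem _ (ha n)
  have hb' : b' ∈ M₂ := Submodule.sum_mem _ fun n _ => M₂.smul_mem _ (hb n)
  obtain ⟨c, hc⟩ := hle a' ha' b' hb'
  choose r hr using fun (n n' : MaximalSpectrum R) => hle (a n) (ha n) (b n') (hb n')
  have hc' : c = ∑ n, ∑ n', e n * e n' * r n n' := by
    apply hinj
    rw [hc, map_sum]
    simp only [map_sum, map_mul, hr]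
    simp only [a', b', Finset.sum_mul_sum, Algebra.smul_def]
    refine Finset.sum_congr rfl fun n _ => Finset.sum_congr rfl fun n' _ => ?_
    ring
  have hunit : IsUnit c := by
    by_contra hcu
    obtain ⟨m, hm, hcm⟩ := exists_max_ideal_of_mem_nonunits hcu
    let n₀ : MaximalSpectrum R := ⟨m, hm⟩
    have hprime := hm.isPrime
    have hen : ∀ n, n ≠ n₀ → e n ∈ m := by
      intro n hn
      have := he n n₀
      rw [if_neg (Ne.symm hn), sub_zero] at this
      exact this
    have he1 : e n₀ ∉ m := by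
      intro h
      have := he n₀ n₀
      rw [if_pos rfl] at this
      have h5 := m.sub_mem h this
      rw [sub_sub_cancel] at h5
      exact (Ideal.ne_top_iff_one m).1 hm.ne_top h5
    have h6 : c - e n₀ * e n₀ * r n₀ n₀ ∈ m := by
      rw [hc', ← Finset.sum_erase_add _ _ (Finset.mem_univ n₀), add_sub_assoc]
      refine m.add_mem (m.sum_mem fun n hn => m.sum_mem fun n' _ => ?_) ?_
      · exact m.mul_mem_right _ (m.mul_mem_right _ (hen n (Finset.ne_of_mem_erase hn)))
      · rw [← Finset.sum_erase_add _ _ (Finset.mem_univ n₀), add_sub_cancel_right]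
        exact m.sum_mem fun n' hn' => m.mul_mem_right _ (m.mul_mem_left _ (hen n' (Finset.ne_of_mem_erase hn')))
    have h7 : e n₀ * e n₀ * r n₀ n₀ ∈ m := by
      have := m.sub_mem hcm h6
      rwa [sub_sub_cancel] at this
    rcases hprime.mem_or_mem h7 with h8 | h8
    · rcases hprime.mem_or_mem h8 with h9 | h9 <;> exact he1 h9
    · exact hab n₀ _ (hr n₀ n₀) h8
  obtain ⟨c', hc'⟩ := hunit.exists_right_inv
  refine ⟨a', ha', c' • b', M₂.smul_mem _ hb', ?_⟩
  rw [mul_smul_comm, ← hc, Algebra.smul_def, ← map_mul, mul_comm c', hc', map_one]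

/-- **Hilbert 90** for a semilocal Galois extension. -/
theorem exists_unit [Fintype D] [Finite (MaximalSpectrum B)]
    (hdual : ∃ (n : ℕ) (x y : Fin n → B), (∑ i, x i * y i = 1) ∧ ∀ d : D, d ≠ 1 → ∑ i, x i * d • y i = 0)
    (htr : ∃ t : B, ∑ d : D, d • t = 1) (f : D → Bˣ) (hf : ∀ d e : D, (f (d * e) : B) = f d * d • (f e : B)) :
    ∃ u : Bˣ, ∀ d : D, (f d : B) * d • (u : B) = u := by
  classical
  have := finite_R0 (B := B) (D := D)
  obtain ⟨n, x, y, hxy, hd⟩ := hdual
  obtain ⟨t, ht⟩ := htr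
  have hfinv' : ∀ d e : D, (((f (d * e))⁻¹ : Bˣ) : B) = ((f d)⁻¹ : Bˣ) * d • (((f e)⁻¹ : Bˣ) : B) := by
    intro d e
    apply Units.inv_eq_of_mul_eq_one_right
    have e1 : (f d : B) * ((f d)⁻¹ : Bˣ) = 1 := Units.mul_inv _
    have e2 : d • (f e : B) * d • (((f e)⁻¹ : Bˣ) : B) = 1 := by rw [← smul_mul', Units.mul_inv, smul_one]
    rw [hf]
    linear_combination (d • (f e : B) * d • (((f e)⁻¹ : Bˣ) : B)) * e1 + e2
  let I : (D → Bˣ) → Submodule (R0 B D) B := fun f =>
    { carrier := {b | ∀ d, (f d : B) * d • b = b}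
      add_mem' := fun {a b} ha hb d => by rw [smul_add, mul_add, ha d, hb d]
      zero_mem' := fun d => by rw [smul_zero, mul_zero]
      smul_mem' := fun r b hb d => by
        rw [Subring.smul_def, smul_eq_mul, smul_mul', r.2 d, mul_left_comm, hb d] }
  have hI : ∀ (f : D → Bˣ) (b : B), b ∈ I f ↔ ∀ d, (f d : B) * d • b = b := fun f b => Iff.rfl
  -- the trace
  have hT : ∀ f : D → Bˣ, (∀ d e : D, (f (d * e) : B) = f d * d • (f e : B)) → ∀ b : B,
      ∑ d : D, (f d : B) * d • b ∈ I f := by
    intro f hf b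
    rw [hI]
    intro e
    rw [Finset.smul_sum, Finset.mul_sum]
    refine (Finset.sum_congr rfl fun d _ => ?_).trans (Equiv.sum_comp (Equiv.mulLeft e) (fun d => (f d : B) * d • b))
    change (f e : B) * e • ((f d : B) * d • b) = (f (e * d) : B) * (e * d) • b
    rw [hf, smul_mul', mul_smul, mul_assoc]
  have h1 : ∑ i, (∑ d : D, (f d : B) * d • (t * x i)) * (∑ d : D, (((f d)⁻¹ : Bˣ) : B) * d • (y i)) = 1 := by
    simp only [Finset.sum_mul_sum]
    rw [Finset.sum_comm]
    have h2 : ∀ d : D, ∑ i, ∑ e : D, ((f d : B) * d • (t * x i)) * ((((f e)⁻¹ : Bˣ) : B) * e • (y i)) = d • t := by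
      intro d
      rw [Finset.sum_comm]
      have h3 : ∀ e : D, ∑ i, ((f d : B) * d • (t * x i)) * ((((f e)⁻¹ : Bˣ) : B) * e • (y i)) =
          if e = d then d • t else 0 := by
        intro e
        have h4 : ∀ i, ((f d : B) * d • (t * x i)) * ((((f e)⁻¹ : Bˣ) : B) * e • (y i)) =
            ((f d : B) * ((f e)⁻¹ : Bˣ) * d • t) * d • (x i * (d⁻¹ * e) • (y i)) := by
          intro i
          rw [smul_mul', smul_mul', ← mul_smul, mul_inv_cancel_left]
          ring
        simp only [h4]
        rw [← Finset.mul_sum, ← Finset.smul_sum]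
        by_cases hed : e = d
        · subst hed
          have h5 : ∑ i, x i * (e⁻¹ * e) • y i = 1 := by
            simpa using hxy
          rw [if_pos rfl, h5, smul_one, mul_one, Units.mul_inv, one_mul]
        · rw [if_neg hed, hd (d⁻¹ * e) (fun h => hed (by rw [inv_mul_eq_one] at h; exact h.symm)), smul_zero, mul_zero]
      simp only [h3]
      simp
    simp only [h2]
    exact ht
  obtain ⟨a, ha, b, hb, hab⟩ := exists_mul_eq_one (R := R0 B D) (S := B) Subtype.val_injective (I f)
    (I fun d => (f d)⁻¹) (by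
      intro a ha b hb
      refine ⟨⟨a * b, fun d => ?_⟩, rfl⟩
      have e1 := ha d
      have e2 := hb d
      rw [smul_mul']
      conv_rhs => rw [← e1, ← e2]
      have e3 : (f d : B) * ((f d)⁻¹ : Bˣ) = 1 := Units.mul_inv _
      linear_combination (-(d • a) * (d • b)) * e3) (by
      rw [← h1]
      exact Submodule.sum_mem _ fun i _ => Submodule.mul_mem_mul (hT f hf _) (hT _ hfinv' _))
  exact ⟨Units.mkOfMulEqOne a b hab, ha⟩

end K964.H90
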