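import Groth.Agent.MultTori.K964.SemiUFD
import Groth.Agent.MultTori.K964.DivSec
import Groth.Agent.MultTori.K964.H90
import Groth.Agent.MultTori.K965.IsGal
import Groth.Agent.Etcore.NormalEtale
import Mathlib.GroupTheory.Complement

/-!
# Galois extensions of regular semilocal domains
-/

set_option autoImplicit false
universe u v

open K964.DivSec TensorProduct

namespace K964.SemiGal

variable {A B : Type u} [CommRing A] [CommRing B] [Algebra A B]

theorem isDomain_of_etale [IsDomain A] [IsIntegrallyClosed A] [Algebra.Etale A B]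
    (hB : ∀ x : B, x * x = x → x = 0 ∨ x = 1) [Nontrivial B] : IsDomain B ∧ IsIntegrallyClosed B := by
  obtain ⟨p, hp⟩ := Ideal.exists_maximal B
  obtain ⟨e, he, hep, h1, h2⟩ := Groth.Agent.Etcore.NormalEtale.exists_idempotent_notMem A B p
  have he1 : e = 1 := by
    rcases hB e he with h | h
    · exact absurd (h ▸ p.zero_mem) hep
    · exact h
  subst he1
  let E : B ≃ₐ[B] Localization.Away (1 : B) := IsLocalization.atOne _ _
  exact ⟨MulEquiv.isDomain _ E.toMulEquiv, IsIntegrallyClosed.of_equiv E.symm.toRingEquiv⟩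

theorem finite_max [Module.Finite A B] [Finite (MaximalSpectrum A)] : Finite (MaximalSpectrum B) := by
  have h1 : (⋃ m : MaximalSpectrum A, m.asIdeal.primesOver B).Finite :=
    Set.finite_iUnion fun m => Algebra.QuasiFinite.finite_primesOver _
  have := h1.to_subtype
  refine Finite.of_injective (fun n : MaximalSpectrum B => (⟨n.asIdeal, ?_⟩ : ↥(⋃ m : MaximalSpectrum A, m.asIdeal.primesOver B))) ?_
  · have hn := n.isMaximal
    rw [Set.mem_iUnion]
    exact ⟨⟨n.asIdeal.under A, Ideal.isMaximal_comap_of_isIntegral_of_isMaximal _⟩, inferInstance, ⟨rfl⟩⟩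
  · intro n n' h
    ext1
    exact congrArg Subtype.val h

variable {G : Type} [Group G] [Fintype G] [MulSemiringAction G B] [SMulCommClass G A B]

theorem exists_trace (t : B) (ht : ∑ g : G, g • t = 1) (D : Subgroup G) [Fintype D] :
    ∃ t : B, ∑ d : D, d • t = 1 := by
  classical
  obtain ⟨T, hT, -⟩ := Subgroup.exists_isComplement_right D 1
  have : Fintype T := Fintype.ofFinite T
  refine ⟨∑ τ : T, (τ : G) • t, ?_⟩
  rw [← ht, ← Fintype.sum_bijective _ hT (fun x : D × T => ((x.1 : G) * (x.2 : G)) • t) _ (fun x => rfl),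
    Fintype.sum_prod_type]
  refine Finset.sum_congr rfl fun d _ => ?_
  rw [Finset.smul_sum]
  exact Finset.sum_congr rfl fun τ _ => (mul_smul _ _ _).symm

theorem h90P [Finite (MaximalSpectrum B)] (hG : K965.Gal.IsGal A B G) : H90P B G := by
  classical
  intro D f hf
  obtain ⟨t, ht⟩ := hG.tr
  obtain ⟨n, x, y, hxy, hd⟩ := hG.dual
  exact K964.H90.exists_unit (D := D)
    ⟨n, x, y, hxy, fun d hd1 => hd d fun h => hd1 (Subtype.ext h)⟩ (exists_trace t ht D) f hf

end K964.SemiGal
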