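import Groth.Agent.MultTori.K964.CycLat
import Groth.Prelude.Def_W4c5flasquetoriphsGLat
import Mathlib.RepresentationTheory.Basic
import Mathlib.GroupTheory.Sylow
import Mathlib.GroupTheory.Archimedean
import Mathlib.GroupTheory.GroupAction.Quotient
import Mathlib.Tactic.LinearCombination

/-!
# First cohomology of `Hom (F, N)` in elementary form

`H1Z ρ`: every 1-cocycle of the whole group is a coboundary.
* `H1Z.linHom_permutation`: `H¹(G, Hom (P, N)) = 0` for `P` a permutation module and `N` coflasque.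
* `coflasque_dual`: for a flasque lattice `F`, `H¹(G, Hom (F, ℤ)) = 0` for all subgroups.
* `H1Z.linHom_flasque_permutation`: `H¹(G, Hom (F, P)) = 0` for `F` flasque, `P` permutation.
-/

set_option autoImplicit false

namespace K964.Coh

open K964.CycLat

variable {G : Type*} [Group G] {M N F P Q : Type*} [AddCommGroup M] [AddCommGroup N] [AddCommGroup F]
  [AddCommGroup P] [AddCommGroup Q]

/-- `H¹(G, M) = 0` in elementary form. -/
def H1Z (ρ : Representation ℤ G M) : Prop :=
  ∀ f : G → M, (∀ a b : G, f (a * b) = f a + ρ a (f b)) → ∃ m : M, ∀ a : G, f a = ρ a m - m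

/-- cocycles are coboundaries up to an integer -/
def Bd (ρ : Representation ℤ G M) (f : G → M) : Prop := ∃ m : M, ∀ a : G, f a = ρ a m - m

lemma Bd.add {ρ : Representation ℤ G M} {f f' : G → M} (h : Bd ρ f) (h' : Bd ρ f') : Bd ρ (fun a => f a + f' a) := by
  obtain ⟨m, hm⟩ := h
  obtain ⟨m', hm'⟩ := h'
  exact ⟨m + m', fun a => by beta_reduce; rw [hm, hm', map_add]; abel⟩

lemma Bd.smul {ρ : Representation ℤ G M} {f : G → M} (h : Bd ρ f) (k : ℤ) : Bd ρ (fun a => k • f a) := by
  obtain ⟨m, hm⟩ := h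
  exact ⟨k • m, fun a => by beta_reduce; rw [hm, map_smul, smul_sub]⟩

/-- A cocycle which is a coboundary after multiplication by integers `k_p` prime to `p`, for every prime `p`, is a
coboundary. -/
lemma bd_of_forall_prime {ρ : Representation ℤ G M} {f : G → M}
    (h : ∀ p : ℕ, p.Prime → ∃ k : ℤ, ¬ (p : ℤ) ∣ k ∧ Bd ρ (fun a => k • f a)) : Bd ρ f := by
  let I : AddSubgroup ℤ :=
    { carrier := {k | Bd ρ (fun a => k • f a)}
      add_mem' := fun {a b} ha hb => by
        have := ha.add hb
        simpa [add_smul] using this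
      zero_mem' := ⟨0, fun a => by simp⟩
      neg_mem' := fun {a} ha => by
        have := Bd.smul ha (-1)
        simpa [neg_smul] using this }
  obtain ⟨n, hn⟩ := Int.subgroup_cyclic I
  have hI : ∀ k : ℤ, Bd ρ (fun a => k • f a) ↔ n ∣ k := by
    intro k
    have h1 : k ∈ I ↔ k ∈ AddSubgroup.closure {n} := by rw [hn]
    rw [AddSubgroup.mem_closure_singleton] at h1
    refine h1.trans ⟨?_, ?_⟩
    · rintro ⟨z, hz⟩
      exact ⟨z, by rw [← hz, smul_eq_mul, mul_comm]⟩
    · rintro ⟨z, hz⟩
      exact ⟨z, by rw [hz, smul_eq_mul, mul_comm]⟩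
  have h1 : n.natAbs = 1 := by
    by_contra hne
    obtain ⟨p, hp, hpn⟩ := Nat.exists_prime_and_dvd hne
    obtain ⟨k, hk, hbd⟩ := h p hp
    exact hk ((Int.natCast_dvd.2 hpn).trans ((hI k).1 hbd))
  have h2 := (hI 1).2 (Int.natAbs_dvd_natAbs.1 (by rw [h1]; exact one_dvd _))
  simpa using h2

/-- Transfer: if the restriction of a cocycle to `H` is a coboundary then `[G : H]` times it is. -/
lemma bd_index {ρ : Representation ℤ G M} {f : G → M} (hf : ∀ a b : G, f (a * b) = f a + ρ a (f b))
    (H : Subgroup G) [Finite (G ⧸ H)] (h : ∃ m : M, ∀ a ∈ H, f a = ρ a m - m) :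
    Bd ρ (fun a => (H.index : ℤ) • f a) := by
  classical
  have := Fintype.ofFinite (G ⧸ H)
  obtain ⟨m, hm⟩ := h
  let f0 : G → M := fun a => f a - (ρ a m - m)
  have hf0 : ∀ a b : G, f0 (a * b) = f0 a + ρ a (f0 b) := by
    intro a b
    simp only [f0]
    rw [hf, map_sub, map_sub, map_mul, Module.End.mul_apply]
    abel
  have hH : ∀ a ∈ H, f0 a = 0 := fun a ha => by simp only [f0]; rw [hm a ha, sub_self]
  have hcos : ∀ a b : G, a⁻¹ * b ∈ H → f0 a = f0 b := by
    intro a b hab
    have h1 := hf0 a (a⁻¹ * b)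
    rw [hH _ hab, map_zero, add_zero, mul_inv_cancel_left] at h1
    exact h1.symm
  let F0 : G ⧸ H → M := Quotient.lift f0 (by
    intro a b hab
    exact hcos a b (QuotientGroup.leftRel_apply.1 hab))
  have hF0 : ∀ a : G, F0 (a : G ⧸ H) = f0 a := fun a => rfl
  have hF0' : ∀ (g : G) (x : G ⧸ H), F0 (g • x) = f0 g + ρ g (F0 x) := by
    intro g x
    induction x using QuotientGroup.induction_on with
    | H z =>
      have : g • (z : G ⧸ H) = ((g * z : G) : G ⧸ H) := rfl
      rw [this, hF0, hF0, hf0]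
  have hsum : ∀ g : G, ∑ x, F0 x = (H.index : ℤ) • f0 g + ρ g (∑ x, F0 x) := by
    intro g
    have e1 : ∑ x, F0 x = ∑ x, F0 (g • x) := (Equiv.sum_comp (MulAction.toPerm g) F0).symm
    conv_lhs => rw [e1]
    simp only [hF0']
    rw [Finset.sum_add_distrib, map_sum]
    congr 1
    rw [Finset.sum_const, Finset.card_univ, ← Nat.card_eq_fintype_card, ← Subgroup.index_eq_card,
      Nat.cast_smul_eq_nsmul]
  have h2 : Bd ρ (fun a => (H.index : ℤ) • f0 a) := by
    refine ⟨-∑ x, F0 x, fun a => ?_⟩
    rw [map_neg]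
    have := hsum a
    rw [sub_neg_eq_add, neg_add_eq_sub, eq_sub_iff_add_eq]
    exact this.symm
  have h3 : Bd ρ (fun a => (H.index : ℤ) • (ρ a m - m)) := Bd.smul ⟨m, fun a => rfl⟩ _
  have h4 := h2.add h3
  have h5 : (fun a => (H.index : ℤ) • f0 a + (H.index : ℤ) • (ρ a m - m)) = fun a => (H.index : ℤ) • f a := by
    funext a
    rw [← smul_add]
    congr 1
    simp only [f0]
    abel
  rwa [h5] at h4

lemma linHom_apply (ρ : Representation ℤ G F) (σ : Representation ℤ G N) (g : G) (φ : F →ₗ[ℤ] N) (x : F) :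
    (Representation.linHom ρ σ g φ) x = σ g (φ (ρ g⁻¹ x)) := rfl

/-- `H¹(G, Hom (P, N)) = 0` for a permutation module `P` and a coflasque module `N`. -/
theorem H1Z.linHom_permutation {τ : Representation ℤ G P} (hτ : GLat.IsPermutation τ) {σ : Representation ℤ G N}
    (hσ : GLat.IsCoflasque σ) : H1Z (Representation.linHom τ σ) := by
  classical
  intro f hf
  obtain ⟨ι, b, hb⟩ := hτ
  choose act hact using hb
  have hbinj := b.injective
  let _ : MulAction G ι :=
    { smul := act
      one_smul := fun i => hbinj (by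
        change b (act 1 i) = b i
        rw [← hact, map_one, Module.End.one_apply])
      mul_smul := fun g h i => hbinj (by
        change b (act (g * h) i) = b (act g (act h i))
        rw [← hact, ← hact, ← hact, map_mul, Module.End.mul_apply]) }
  have hact' : ∀ (g : G) (i : ι), τ g (b i) = b (g • i) := hact
  have hf' : ∀ (a c : G) (x : P), f (a * c) x = f a x + σ a (f c (τ a⁻¹ x)) := by
    intro a c x
    rw [hf, LinearMap.add_apply, linHom_apply]
  -- orbit representatives
  let rep : ι → ι := fun i => (Quotient.mk (MulAction.orbitRel G ι) i).out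
  have hrep : ∀ i, ∃ g : G, g • rep i = i := by
    intro i
    have h1 : (MulAction.orbitRel G ι).r (rep i) i := Quotient.exact (Quotient.out_eq _)
    have h2 : rep i ∈ MulAction.orbit G i := h1
    rw [MulAction.mem_orbit_symm] at h2
    exact h2
  have hrep_smul : ∀ (g : G) (i : ι), rep (g • i) = rep i := by
    intro g i
    have : (Quotient.mk (MulAction.orbitRel G ι) (g • i)) = Quotient.mk (MulAction.orbitRel G ι) i :=
      Quotient.sound (MulAction.mem_orbit i g)
    simp only [rep, this]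
  choose gi hgi using hrep
  have hn : ∀ w : ι, ∃ n : N, ∀ h : G, h • w = w → f h (b w) = σ h n - n := by
    intro w
    obtain ⟨n, hn⟩ := hσ (MulAction.stabilizer G w) (fun h => f h (b w)) (by
      intro a c
      have ha : (a : G)⁻¹ • w = w := by
        rw [inv_smul_eq_iff]
        exact (a.2 : (a : G) • w = w).symm
      rw [Subgroup.coe_mul, hf', hact', ha])
    exact ⟨n, fun h hh => hn ⟨h, hh⟩⟩
  choose n hn using hn
  let m : P →ₗ[ℤ] N := b.constr ℤ (fun i => σ (gi i) (n (rep i)) - f (gi i) (b i))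
  have hm : ∀ i, m (b i) = σ (gi i) (n (rep i)) - f (gi i) (b i) := fun i => b.constr_basis ℤ _ i
  refine ⟨m, fun g => b.ext fun i => ?_⟩
  rw [LinearMap.sub_apply, linHom_apply, hact', hm, hm]
  let j := g⁻¹ • i
  have hj : rep j = rep i := hrep_smul _ _
  have hgj : g • j = i := smul_inv_smul g i
  let h : G := (gi i)⁻¹ * (g * gi j)
  have hh : h • rep i = rep i := by
    change ((gi i)⁻¹ * (g * gi j)) • rep i = rep i
    rw [mul_smul, mul_smul, inv_smul_eq_iff, hgi i, ← hj, hgi j, hgj]
  have e1 : g * gi j = gi i * h := by simp [h]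
  have e2 := hf' g (gi j) (b i)
  have e3 := hf' (gi i) h (b i)
  have e4 : (gi i)⁻¹ • i = rep i := by rw [inv_smul_eq_iff, hgi]
  rw [e1, e3, hact', hact', e4, hn _ h hh, map_sub] at e2
  change f g (b i) = σ g (σ (gi j) (n (rep j)) - f (gi j) (b j)) - (σ (gi i) (n (rep i)) - f (gi i) (b i))
  have e5 : σ (gi i) (σ h (n (rep i))) = σ g (σ (gi j) (n (rep i))) := by
    rw [← Module.End.mul_apply, ← Module.End.mul_apply, ← map_mul, ← map_mul, e1]
  rw [hj, map_sub, ← e5]
  have e6 : f g (b i) = f (gi i) (b i) + (σ (gi i) (σ h (n (rep i))) - σ (gi i) (n (rep i))) -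
      σ g (f (gi j) (b j)) := eq_sub_of_add_eq e2.symm
  rw [e6]
  abel

section Dual

variable [Finite G] [Module.Finite ℤ F] [Module.Free ℤ F]

/-- For a flasque lattice `F` and a subgroup `H`, there is a projection of `F` onto the span of the `h y - y`. -/
lemma exists_proj {ρ : Representation ℤ G F} (hfl : GLat.IsFlasque ρ) (H : Subgroup G) :
    ∃ pr : F →ₗ[ℤ] Submodule.span ℤ {x : F | ∃ (h : H) (y : F), x = ρ (h : G) y - y},
      ∀ x : Submodule.span ℤ {x : F | ∃ (h : H) (y : F), x = ρ (h : G) y - y}, pr x = x := by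
  classical
  have := Fintype.ofFinite H
  let N : Module.End ℤ F := ∑ h : H, ρ (h : G)
  have hN : ∀ x, N x = ∑ᶠ h : H, ρ (h : G) x := by
    intro x
    rw [finsum_eq_sum_of_fintype, LinearMap.sum_apply]
  let I := Submodule.span ℤ {x : F | ∃ (h : H) (y : F), x = ρ (h : G) y - y}
  have hI : ∀ x ∈ I, N x = 0 := by
    intro x hx
    induction hx using Submodule.span_induction with
    | mem x hx =>
      obtain ⟨h, y, rfl⟩ := hx
      rw [map_sub, sub_eq_zero, LinearMap.sum_apply, LinearMap.sum_apply]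
      rw [← Equiv.sum_comp (Equiv.mulRight h) (fun k : H => ρ (k : G) y)]
      refine Finset.sum_congr rfl fun k _ => ?_
      rw [← Module.End.mul_apply, ← map_mul]
      rfl
    | zero => exact map_zero _
    | add x y _ _ hx hy => rw [map_add, hx, hy, add_zero]
    | smul a x _ hx => rw [map_smul, hx, smul_zero]
  let N' : F →ₗ[ℤ] LinearMap.range N := N.rangeRestrict
  have hproj : Module.Projective ℤ (LinearMap.range N) := inferInstance
  obtain ⟨sec, hsec⟩ := Module.projective_lifting_property N' LinearMap.id N.surjective_rangeRestrict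
  have hsec' : ∀ v, N' (sec v) = v := fun v => congrArg (fun f : _ →ₗ[ℤ] _ => f v) hsec
  have h1 : ∀ v : F, v - sec (N' v) ∈ I := by
    intro v
    apply hfl H
    rw [← hN, map_sub, sub_eq_zero]
    exact (congrArg Subtype.val (hsec' (N' v))).symm
  refine ⟨LinearMap.codRestrict I (LinearMap.id - sec.comp N') h1, fun x => ?_⟩
  apply Subtype.ext
  change (x : F) - sec (N' x) = x
  have h2 : N' x = 0 := Subtype.ext (hI x x.2)
  rw [h2, map_zero, sub_zero]

/-- Duality: for a flasque lattice `F` and a subgroup `H`, a 1-cocycle of `H` in the dual of `F` is a coboundary. -/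
lemma exists_of_dual_cocycle {ρ : Representation ℤ G F} (hfl : GLat.IsFlasque ρ) (H : Subgroup G)
    (f : H → (F →ₗ[ℤ] ℤ)) (hf : ∀ (a b : H) (x : F), f (a * b) x = f a x + f b (ρ (a : G)⁻¹ x)) :
    ∃ φ : F →ₗ[ℤ] ℤ, ∀ (a : H) (x : F), f a x = φ (ρ (a : G)⁻¹ x) - φ x := by
  classical
  have := Fintype.ofFinite H
  obtain ⟨pr, hpr⟩ := exists_proj hfl H
  let S : F →ₗ[ℤ] ℤ := ∑ b : H, f b
  let c : ℤ := Fintype.card H
  have hc : c ≠ 0 := by
    simp [c]
  have hS : ∀ (a : H) (x : F), c * f a x = S x - S (ρ (a : G)⁻¹ x) := by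
    intro a x
    have h1 : S x = ∑ b : H, f (a * b) x := by
      rw [LinearMap.sum_apply]
      exact (Equiv.sum_comp (Equiv.mulLeft a) (fun b => f b x)).symm
    rw [h1]
    simp only [hf]
    rw [Finset.sum_add_distrib, Finset.sum_const, LinearMap.sum_apply, Finset.card_univ, nsmul_eq_mul]
    simp [c]
  have hdiv : ∀ x : Submodule.span ℤ {x : F | ∃ (h : H) (y : F), x = ρ (h : G) y - y}, ∃ k : ℤ, S x = c * k := by
    rintro ⟨x, hx⟩
    change ∃ k : ℤ, S x = c * k
    induction hx using Submodule.span_induction with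
    | mem x hx =>
      obtain ⟨h, y, rfl⟩ := hx
      refine ⟨-(f h⁻¹ y), ?_⟩
      have := hS h⁻¹ y
      rw [map_sub, mul_neg, this]
      simp
    | zero => exact ⟨0, by simp⟩
    | add x y _ _ hx hy =>
      obtain ⟨k, hk⟩ := hx
      obtain ⟨l, hl⟩ := hy
      exact ⟨k + l, by rw [map_add, hk, hl]; ring⟩
    | smul a x _ hx =>
      obtain ⟨k, hk⟩ := hx
      exact ⟨a * k, by rw [map_smul, hk, smul_eq_mul]; ring⟩
  choose k hk using hdiv
  let κ : Submodule.span ℤ {x : F | ∃ (h : H) (y : F), x = ρ (h : G) y - y} →ₗ[ℤ] ℤ :=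
    { toFun := k
      map_add' := fun x y => by
        apply mul_left_cancel₀ hc
        rw [← hk, mul_add, ← hk, ← hk, Submodule.coe_add, map_add]
      map_smul' := fun a x => by
        apply mul_left_cancel₀ hc
        rw [← hk, RingHom.id_apply, smul_eq_mul, mul_left_comm, ← hk, Submodule.coe_smul, map_smul, smul_eq_mul] }
  refine ⟨-(κ.comp pr), fun a x => ?_⟩
  have h1 : pr (ρ (a : G)⁻¹ x - x) = ⟨ρ (a : G)⁻¹ x - x, Submodule.subset_span ⟨a⁻¹, x, by simp⟩⟩ :=
    hpr ⟨ρ (a : G)⁻¹ x - x, Submodule.subset_span ⟨a⁻¹, x, by simp⟩⟩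
  have h2 : c * κ (pr (ρ (a : G)⁻¹ x - x)) = S (ρ (a : G)⁻¹ x) - S x := by
    rw [h1]
    change c * k _ = _
    rw [← hk, map_sub]
  have h3 := hS a x
  apply mul_left_cancel₀ hc
  rw [mul_sub, h3, LinearMap.neg_apply, LinearMap.neg_apply, LinearMap.comp_apply, LinearMap.comp_apply]
  rw [map_sub, map_sub] at h2
  linear_combination h2

/-- `H¹(G, Hom (F, P)) = 0` for a flasque lattice `F` and a permutation module `P`. -/
theorem H1Z.linHom_flasque_permutation {ρ : Representation ℤ G F} (hfl : GLat.IsFlasque ρ)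
    [Module.Finite ℤ P] {τ : Representation ℤ G P} (hτ : GLat.IsPermutation τ) :
    H1Z (Representation.linHom ρ τ) := by
  classical
  intro f hf
  obtain ⟨ι, b, hb⟩ := hτ
  have hfin : Finite ι := Module.Finite.finite_basis b
  have := Fintype.ofFinite ι
  choose act hact using hb
  have hbinj := b.injective
  let _ : MulAction G ι :=
    { smul := act
      one_smul := fun i => hbinj (by
        change b (act 1 i) = b i
        rw [← hact, map_one, Module.End.one_apply])
      mul_smul := fun g h i => hbinj (by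
        change b (act (g * h) i) = b (act g (act h i))
        rw [← hact, ← hact, ← hact, map_mul, Module.End.mul_apply]) }
  have hact' : ∀ (g : G) (i : ι), τ g (b i) = b (g • i) := hact
  -- coordinates
  have hcoord : ∀ (g : G) (y : P) (i : ι), b.coord i (τ g y) = b.coord (g⁻¹ • i) y := by
    intro g y i
    have : (b.coord i).comp (τ g) = b.coord (g⁻¹ • i) := by
      refine b.ext fun j => ?_
      rw [LinearMap.comp_apply, hact', Module.Basis.coord_apply, Module.Basis.coord_apply, b.repr_self,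
        b.repr_self, Finsupp.single_apply, Finsupp.single_apply]
      simp only [eq_inv_smul_iff]
    exact congrArg (fun l : P →ₗ[ℤ] ℤ => l y) this
  let c : G → ι → (F →ₗ[ℤ] ℤ) := fun g i => (b.coord i).comp (f g)
  have hc : ∀ (g h : G) (i : ι) (x : F), c (g * h) i x = c g i x + c h (g⁻¹ • i) (ρ g⁻¹ x) := by
    intro g h i x
    change b.coord i (f (g * h) x) = b.coord i (f g x) + b.coord (g⁻¹ • i) (f h (ρ g⁻¹ x))
    rw [hf, LinearMap.add_apply, map_add, linHom_apply, hcoord]
  let rep : ι → ι := fun i => (Quotient.mk (MulAction.orbitRel G ι) i).out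
  have hrep : ∀ i, ∃ g : G, g • rep i = i := by
    intro i
    have h1 : (MulAction.orbitRel G ι).r (rep i) i := Quotient.exact (Quotient.out_eq _)
    have h2 : rep i ∈ MulAction.orbit G i := h1
    rw [MulAction.mem_orbit_symm] at h2
    exact h2
  have hrep_smul : ∀ (g : G) (i : ι), rep (g • i) = rep i := by
    intro g i
    have : (Quotient.mk (MulAction.orbitRel G ι) (g • i)) = Quotient.mk (MulAction.orbitRel G ι) i :=
      Quotient.sound (MulAction.mem_orbit i g)
    simp only [rep, this]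
  choose gi hgi using hrep
  have hn : ∀ w : ι, ∃ n : F →ₗ[ℤ] ℤ, ∀ h : G, h • w = w → ∀ x, c h w x = n (ρ h⁻¹ x) - n x := by
    intro w
    obtain ⟨n, hn⟩ := exists_of_dual_cocycle hfl (MulAction.stabilizer G w) (fun h => c h w) (by
      intro a d x
      have ha : (a : G)⁻¹ • w = w := by
        rw [inv_smul_eq_iff]
        exact (a.2 : (a : G) • w = w).symm
      rw [Subgroup.coe_mul, hc, ha])
    exact ⟨n, fun h hh x => hn ⟨h, hh⟩ x⟩
  choose n hn using hn
  -- the coordinates of the primitive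
  let m : ι → (F →ₗ[ℤ] ℤ) := fun i => (n (rep i)).comp (ρ (gi i)⁻¹) - c (gi i) i
  have hm : ∀ i x, m i x = n (rep i) (ρ (gi i)⁻¹ x) - c (gi i) i x := fun i x => rfl
  have key : ∀ (g : G) (i : ι) (x : F), c g i x = m (g⁻¹ • i) (ρ g⁻¹ x) - m i x := by
    intro g i x
    let j := g⁻¹ • i
    have hj : rep j = rep i := hrep_smul _ _
    have hgj : g • j = i := smul_inv_smul g i
    let h : G := (gi i)⁻¹ * (g * gi j)
    have hh : h • rep i = rep i := by
      change ((gi i)⁻¹ * (g * gi j)) • rep i = rep i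
      rw [mul_smul, mul_smul, inv_smul_eq_iff, hgi i, ← hj, hgi j, hgj]
    have e1 : g * gi j = gi i * h := by simp [h]
    have e2 := hc g (gi j) i x
    have e3 := hc (gi i) h i x
    have e4 : (gi i)⁻¹ • i = rep i := by rw [inv_smul_eq_iff, hgi]
    rw [e1, e3, e4, hn _ h hh] at e2
    change c g i x = m j (ρ g⁻¹ x) - m i x
    rw [hm, hm, hj]
    have e5 : ρ h⁻¹ (ρ (gi i)⁻¹ x) = ρ (gi j)⁻¹ (ρ g⁻¹ x) := by
      rw [← Module.End.mul_apply, ← Module.End.mul_apply, ← map_mul, ← map_mul, ← mul_inv_rev, ← mul_inv_rev, e1]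
    rw [e5] at e2
    change _ = c g i x + c (gi j) j (ρ g⁻¹ x) at e2
    linear_combination -e2
  let mm : F →ₗ[ℤ] P := ∑ i, (LinearMap.toSpanSingleton ℤ P (b i)).comp (m i)
  have hmm : ∀ i x, b.coord i (mm x) = m i x := by
    intro i x
    simp only [mm, LinearMap.sum_apply, LinearMap.comp_apply, LinearMap.toSpanSingleton_apply, map_sum, map_smul]
    rw [Finset.sum_eq_single i]
    · simp [Module.Basis.coord_apply]
    · intro j _ hj
      rw [Module.Basis.coord_apply, b.repr_self, Finsupp.single_apply, if_neg hj, smul_zero]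
    · intro h
      exact absurd (Finset.mem_univ i) h
  refine ⟨mm, fun g => LinearMap.ext fun x => b.ext_elem fun i => ?_⟩
  have h1 := key g i x
  rw [← hmm, ← hmm, ← hcoord, ← map_sub] at h1
  exact h1

end Dual

end K964.Coh
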