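import Groth.Agent.MultTori.K964.AffPt

/-!
# Yoneda for affine schemes over `Spec A`

Morphisms out of an affine scheme over `Spec A` are determined by, and constructed from, their effect on ring-valued
points; a morphism of affine schemes which is bijective on ring-valued points is an isomorphism.
-/

set_option autoImplicit false
universe u

open CategoryTheory CategoryTheory.Limits MonoidalCategory CartesianMonoidalCategory MonObj GrpObj AlgebraicGeometry
open TensorProduct

namespace K964.AffYon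

open K965.Pts K964.AffPt

variable {A : Type u} [CommRing A]

lemma exists_sp (U : Over (Spec (CommRingCat.of A))) [IsAffine U.left] :
    ∃ (E : Type u) (_ : CommRing E) (_ : Algebra A E), Nonempty (sp (algebraMap A E) ≅ U) := by
  let φ : CommRingCat.of A ⟶ Γ(U.left, ⊤) := Spec.preimage (U.left.isoSpec.inv ≫ U.hom)
  have hφ : Spec.map φ = U.left.isoSpec.inv ≫ U.hom := Spec.map_preimage _
  let _ : Algebra A Γ(U.left, ⊤) := φ.hom.toAlgebra
  have hφ' : Spec.map (CommRingCat.ofHom (algebraMap A Γ(U.left, ⊤))) = U.left.isoSpec.inv ≫ U.hom := hφ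
  refine ⟨Γ(U.left, ⊤), inferInstance, inferInstance, ⟨Over.isoMk U.left.isoSpec.symm ?_⟩⟩
  exact hφ'.symm

/-- morphisms out of an affine scheme are determined by ring-valued points -/
theorem ext_of_affine {U X : Over (Spec (CommRingCat.of A))} [IsAffine U.left] {f g : U ⟶ X}
    (h : ∀ (T : Type u) [CommRing T] [Algebra A T] (x : sp (algebraMap A T) ⟶ U), x ≫ f = x ≫ g) : f = g := by
  obtain ⟨E, _, _, ⟨e⟩⟩ := exists_sp U
  rw [← cancel_epi e.hom]
  exact h E e.hom

/-- morphisms out of an affine scheme are constructed on ring-valued points -/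
theorem exists_hom {U X : Over (Spec (CommRingCat.of A))} [IsAffine U.left]
    (φ : ∀ (T : Type u) [CommRing T] [Algebra A T], (sp (algebraMap A T) ⟶ U) → (sp (algebraMap A T) ⟶ X))
    (hφ : ∀ (T T' : Type u) [CommRing T] [Algebra A T] [CommRing T'] [Algebra A T'] (θ : T →ₐ[A] T')
      (x : sp (algebraMap A T) ⟶ U), ap θ ≫ φ T x = φ T' (ap θ ≫ x)) :
    ∃ f : U ⟶ X, ∀ (T : Type u) [CommRing T] [Algebra A T] (x : sp (algebraMap A T) ⟶ U), x ≫ f = φ T x := by
  obtain ⟨E, _, _, ⟨e⟩⟩ := exists_sp U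
  refine ⟨e.inv ≫ φ E e.hom, fun T _ _ x => ?_⟩
  obtain ⟨θ, hθ⟩ := exists_ap (x ≫ e.inv)
  rw [← Category.assoc, hθ, hφ, ← hθ, Category.assoc, e.inv_hom_id, Category.comp_id]

/-- a morphism of affine schemes bijective on ring-valued points is an isomorphism -/
theorem isIso_of_pts {U V : Over (Spec (CommRingCat.of A))} [IsAffine U.left] [IsAffine V.left] (f : U ⟶ V)
    (hi : ∀ (T : Type u) [CommRing T] [Algebra A T] (x y : sp (algebraMap A T) ⟶ U), x ≫ f = y ≫ f → x = y)
    (hs : ∀ (T : Type u) [CommRing T] [Algebra A T] (y : sp (algebraMap A T) ⟶ V), ∃ x, x ≫ f = y) : IsIso f := by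
  obtain ⟨E, _, _, ⟨e⟩⟩ := exists_sp V
  obtain ⟨x, hx⟩ := hs E e.hom
  have h1 : (e.inv ≫ x) ≫ f = 𝟙 V := by rw [Category.assoc, hx, e.inv_hom_id]
  refine ⟨e.inv ≫ x, ?_, h1⟩
  apply ext_of_affine
  intro T _ _ y
  apply hi
  rw [Category.assoc, Category.assoc, h1, Category.comp_id, Category.comp_id]

instance isAffine_tensor {X Y : Over (Spec (CommRingCat.of A))} [IsAffine X.left] [IsAffine Y.left] :
    IsAffine (X ⊗ Y).left := inferInstanceAs (IsAffine (pullback X.hom Y.hom))

instance isAffine_unit : IsAffine (𝟙_ (Over (Spec (CommRingCat.of A)))).left :=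
  inferInstanceAs (IsAffine (Spec (CommRingCat.of A)))

instance isAffine_sp (T : Type u) [CommRing T] [Algebra A T] : IsAffine (sp (algebraMap A T)).left :=
  inferInstanceAs (IsAffine (Spec (CommRingCat.of T)))

/-- An action given on ring-valued points. -/
theorem exists_action {G X : Over (Spec (CommRingCat.of A))} [GrpObj G] [IsAffine G.left] [IsAffine X.left]
    (s : ∀ (T : Type u) [CommRing T] [Algebra A T], (sp (algebraMap A T) ⟶ G) → (sp (algebraMap A T) ⟶ X) →
      (sp (algebraMap A T) ⟶ X))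
    (hs : ∀ (T T' : Type u) [CommRing T] [Algebra A T] [CommRing T'] [Algebra A T'] (θ : T →ₐ[A] T')
      (g : sp (algebraMap A T) ⟶ G) (x : sp (algebraMap A T) ⟶ X), ap θ ≫ s T g x = s T' (ap θ ≫ g) (ap θ ≫ x))
    (h1 : ∀ (T : Type u) [CommRing T] [Algebra A T] (x : sp (algebraMap A T) ⟶ X), s T 1 x = x)
    (hm : ∀ (T : Type u) [CommRing T] [Algebra A T] (g h : sp (algebraMap A T) ⟶ G) (x : sp (algebraMap A T) ⟶ X),
      s T (g * h) x = s T g (s T h x)) :
    ∃ a : AlgGrp.Action G X, ∀ (T : Type u) [CommRing T] [Algebra A T] (g : sp (algebraMap A T) ⟶ G)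
      (x : sp (algebraMap A T) ⟶ X), K964.Pt.sm a g x = s T g x := by
  obtain ⟨f, hf⟩ := exists_hom (U := G ⊗ X) (X := X) (fun T _ _ x => s T (x ≫ fst G X) (x ≫ snd G X)) (by
    intro T T' _ _ _ _ θ x
    rw [hs, Category.assoc, Category.assoc])
  have hf' : ∀ (T : Type u) [CommRing T] [Algebra A T] (g : sp (algebraMap A T) ⟶ G)
      (x : sp (algebraMap A T) ⟶ X), CartesianMonoidalCategory.lift g x ≫ f = s T g x := by
    intro T _ _ g x
    rw [hf, lift_fst, lift_snd]
  have hpair : ∀ {U V : Over (Spec (CommRingCat.of A))} (T : Type u) [CommRing T] [Algebra A T]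
      (x : sp (algebraMap A T) ⟶ U ⊗ V), x = CartesianMonoidalCategory.lift (x ≫ fst U V) (x ≫ snd U V) := by
    intro U V T _ _ x
    ext1 <;> simp
  refine ⟨⟨f, ?_, ?_⟩, hf'⟩
  · apply ext_of_affine
    intro T _ _ x
    rw [hpair T x, ← Category.assoc, lift_whiskerRight, hf']
    have e1 : (x ≫ fst (𝟙_ (Over (Spec (CommRingCat.of A)))) X) ≫ η[G] = 1 := by
      rw [Hom.one_def]
      congr 1
      exact toUnit_unique _ _
    rw [e1, h1, leftUnitor_hom]
    simp
  · apply ext_of_affine
    intro T _ _ x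
    rw [hpair T x, hpair T (x ≫ fst (G ⊗ G) X)]
    rw [← Category.assoc, lift_whiskerRight, hf', ← Category.assoc, lift_lift_associator_hom, ← Category.assoc,
      lift_whiskerLeft, hf', hf', ← hm]
    rfl

end K964.AffYon
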