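import Groth.Agent.MultTori.K964.BcPt

/-!
# Cocycles of torsors over affine bases and the isomorphism criterion on rings

* `cocy ha x a b`: for a point `x` over `A'` of a torsor and `a b : A' →ₐ[A] T`, the difference of the two points of
  the torsor over `T`.
* `cl_eq_iff_ring`: criterion for the equality of two classes over `Spec A`.
* `cl_eq_iff_bc`: the same for torsors under the base change `M_R`, in terms of points of `M` over `A`-algebras.
* `exists_common_point`, `exists_point`.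
-/

set_option autoImplicit false
universe u

open CategoryTheory CategoryTheory.Limits MonoidalCategory CartesianMonoidalCategory MonObj GrpObj AlgebraicGeometry
open TensorProduct

namespace K964.Cocyc

open K965.Pts K964.Pt K964.AffPt K964.BcPt

section gen

lemma cl_eq_iff {S : Scheme.{u}} {G : Over S} [GrpObj G] {K : Precoverage Scheme.{u}} (P Q : NonAbH1.TorsorSch G K) :
    P.cl = Q.cl ↔ Nonempty (NonAbH1.EquivIso P.act Q.act) := by
  have hrefl : ∀ P : NonAbH1.TorsorSch G K, Nonempty (NonAbH1.EquivIso P.act P.act) :=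
    fun P => ⟨⟨Iso.refl _, by simp⟩⟩
  have hsymm : ∀ {P Q : NonAbH1.TorsorSch G K}, Nonempty (NonAbH1.EquivIso P.act Q.act) →
      Nonempty (NonAbH1.EquivIso Q.act P.act) := by
    rintro P Q ⟨e⟩
    refine ⟨⟨e.iso.symm, ?_⟩⟩
    change Q.act.act ≫ e.iso.inv = (G ◁ e.iso.inv) ≫ P.act.act
    rw [Iso.comp_inv_eq, Category.assoc, e.comm, ← MonoidalCategory.whiskerLeft_comp_assoc, Iso.inv_hom_id,
      MonoidalCategory.whiskerLeft_id, Category.id_comp]
  have htrans : ∀ {P Q R : NonAbH1.TorsorSch G K}, Nonempty (NonAbH1.EquivIso P.act Q.act) →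
      Nonempty (NonAbH1.EquivIso Q.act R.act) → Nonempty (NonAbH1.EquivIso P.act R.act) := by
    rintro P Q R ⟨e⟩ ⟨e'⟩
    refine ⟨⟨e.iso ≪≫ e'.iso, ?_⟩⟩
    rw [Iso.trans_hom, ← Category.assoc, e.comm, Category.assoc, e'.comm, MonoidalCategory.whiskerLeft_comp_assoc]
  let s : Setoid (NonAbH1.TorsorSch G K) :=
    { r := fun P Q => Nonempty (NonAbH1.EquivIso P.act Q.act)
      iseqv := ⟨hrefl, hsymm, htrans⟩ }
  exact ⟨fun h => Quotient.exact (s := s) h, fun h => Quot.sound h⟩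

lemma exists_cl {S : Scheme.{u}} {G : Over S} [GrpObj G] {K : Precoverage Scheme.{u}} (c : NonAbH1.H1Sch G K) :
    ∃ P : NonAbH1.TorsorSch G K, P.cl = c := Quot.exists_rep c

end gen

section ring

variable {A : Type u} [CommRing A] {G X : Over (Spec (CommRingCat.of A))} [GrpObj G] {a : AlgGrp.Action G X}
  (ha : NonAbH1.IsPseudoTorsorSch a) {A' : Type u} [CommRing A'] [Algebra A A']
  {T : Type u} [CommRing T] [Algebra A T] {T' : Type u} [CommRing T'] [Algebra A T']

/-- the difference cocycle of a point -/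
noncomputable def cocy (x : sp (algebraMap A A') ⟶ X) (φ ψ : A' →ₐ[A] T) : sp (algebraMap A T) ⟶ G :=
  df ha (ap φ ≫ x) (ap ψ ≫ x)

lemma ap_cocy (x : sp (algebraMap A A') ⟶ X) (φ ψ : A' →ₐ[A] T) (θ : T →ₐ[A] T') :
    ap θ ≫ cocy ha x φ ψ = cocy ha x (θ.comp φ) (θ.comp ψ) := by
  rw [cocy, cocy, comp_df, ap_comp, ap_comp, Category.assoc, Category.assoc]

lemma cocy_mul (x : sp (algebraMap A A') ⟶ X) (φ ψ θ : A' →ₐ[A] T) :
    cocy ha x ψ θ * cocy ha x φ ψ = cocy ha x φ θ := df_mul ha _ _ _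

lemma cocy_comp {A'' : Type u} [CommRing A''] [Algebra A A''] (x : sp (algebraMap A A') ⟶ X) (i : A' →ₐ[A] A'')
    (φ ψ : A'' →ₐ[A] T) : cocy ha (ap i ≫ x) φ ψ = cocy ha x (φ.comp i) (ψ.comp i) := by
  rw [cocy, cocy, ap_comp, ap_comp, Category.assoc, Category.assoc]

/-- Criterion over `A`: two torsors with points having the same cocycle have the same class. -/
theorem cl_eq_of_cocy {P Q : NonAbH1.TorsorSch G Scheme.fppfPrecoverage} [Module.FaithfullyFlat A A']
    [Algebra.FinitePresentation A A'] (x : sp (algebraMap A A') ⟶ P.X) (y : sp (algebraMap A A') ⟶ Q.X)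
    (h : cocy P.isTorsor.1 x (i1 A') (i2 A') = cocy Q.isTorsor.1 y (i1 A') (i2 A')) : P.cl = Q.cl := by
  rw [cl_eq_iff]
  obtain ⟨e, -⟩ := exists_equivIso Scheme.fppfPrecoverage_le_fpqcPrecoverage P.isTorsor.1 Q.isTorsor.1
    (locTriv_sp A') x y (by
      apply prod_ext
      rw [comp_df, comp_df]
      simp only [lift_fst_assoc, lift_snd_assoc]
      exact h)
  exact ⟨e⟩

/-- Criterion over `A` for commutative groups. -/
theorem cl_eq_iff_ring [IsCommMonObj G] {P Q : NonAbH1.TorsorSch G Scheme.fppfPrecoverage}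
    [Module.FaithfullyFlat A A'] [Algebra.FinitePresentation A A'] (x : sp (algebraMap A A') ⟶ P.X)
    (y : sp (algebraMap A A') ⟶ Q.X) :
    P.cl = Q.cl ↔ ∃ n : sp (algebraMap A A') ⟶ G,
      cocy P.isTorsor.1 x (i1 A') (i2 A') / cocy Q.isTorsor.1 y (i1 A') (i2 A') = (ap (i2 A') ≫ n) / (ap (i1 A') ≫ n) := by
  rw [cl_eq_iff, equivIso_iff Scheme.fppfPrecoverage_le_fpqcPrecoverage P.isTorsor.1 Q.isTorsor.1
    (locTriv_sp A') x y]
  refine exists_congr fun n => ⟨fun h => ?_, fun h => prod_ext ?_⟩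
  · have h1 := congrArg (CartesianMonoidalCategory.lift (ap (i1 (A := A) A')) (ap (i2 A')) ≫ ·) h
    simp only [comp_div, comp_df, lift_fst_assoc, lift_snd_assoc] at h1
    exact h1
  · simp only [comp_div, comp_df, lift_fst_assoc, lift_snd_assoc]
    exact h

omit [GrpObj G] in
/-- the ring form for all pairs of maps -/
lemma forall_of_i {A' : Type u} [CommRing A'] [Algebra A A'] {f g : ∀ (T : Type u) [CommRing T] [Algebra A T]
    (_ _ : A' →ₐ[A] T), sp (algebraMap A T) ⟶ G}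
    (hf : ∀ (T T' : Type u) [CommRing T] [Algebra A T] [CommRing T'] [Algebra A T'] (θ : T →ₐ[A] T')
      (φ ψ : A' →ₐ[A] T), ap θ ≫ f T φ ψ = f T' (θ.comp φ) (θ.comp ψ))
    (hg : ∀ (T T' : Type u) [CommRing T] [Algebra A T] [CommRing T'] [Algebra A T'] (θ : T →ₐ[A] T')
      (φ ψ : A' →ₐ[A] T), ap θ ≫ g T φ ψ = g T' (θ.comp φ) (θ.comp ψ))
    (h : f (A' ⊗[A] A') (i1 A') (i2 A') = g (A' ⊗[A] A') (i1 A') (i2 A'))
    (T : Type u) [CommRing T] [Algebra A T] (φ ψ : A' →ₐ[A] T) : f T φ ψ = g T φ ψ := by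
  let θ : A' ⊗[A] A' →ₐ[A] T := Algebra.TensorProduct.lift φ ψ (fun _ _ => Commute.all _ _)
  have h1 : θ.comp (i1 A') = φ := by ext x; simp [θ]
  have h2 : θ.comp (i2 A') = ψ := by ext x; simp [θ]
  rw [← h1, ← h2, ← hf _ _ θ, ← hg _ _ θ, h]

end ring

section bc

variable {A R : Type u} [CommRing A] [CommRing R] [Algebra A R] {G : Over (Spec (CommRingCat.of A))} [GrpObj G]

/-- Criterion over `R` for a base-changed group. -/
theorem cl_eq_of_cocy_bc {P Q : NonAbH1.TorsorSch (Red.bc (tb A R) G) Scheme.fppfPrecoverage}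
    {R' : Type u} [CommRing R'] [Algebra R R'] [Module.FaithfullyFlat R R']
    [Algebra.FinitePresentation R R'] (x : sp (algebraMap R R') ⟶ P.X) (y : sp (algebraMap R R') ⟶ Q.X)
    [Algebra A (R' ⊗[R] R')] [IsScalarTower A R (R' ⊗[R] R')]
    (h : ubp (cocy P.isTorsor.1 x (i1 R') (i2 R')) = ubp (cocy Q.isTorsor.1 y (i1 R') (i2 R'))) : P.cl = Q.cl :=
  cl_eq_of_cocy x y (ubp_injective h)

variable {X : Over (Spec (CommRingCat.of A))} {a : AlgGrp.Action G X} (ha : NonAbH1.IsPseudoTorsorSch a)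
  {R' : Type u} [CommRing R'] [Algebra R R'] [Algebra A R'] [IsScalarTower A R R']
  {T : Type u} [CommRing T] [Algebra R T] [Algebra A T] [IsScalarTower A R T]

/-- the cocycle of a base-changed point -/
lemma ubp_cocy (x : sp (algebraMap A R') ⟶ X) (φ ψ : R' →ₐ[R] T) :
    ubp (cocy (NonAbH1.isPseudoTorsorSch_bc (tb A R) ha) (bp x) φ ψ) =
      cocy ha x (φ.restrictScalars A) (ψ.restrictScalars A) := by
  rw [cocy, ap_bp, ap_bp, ubp_df, cocy]

end bc

section ex

variable {A : Type u} [CommRing A] {G : Over (Spec (CommRingCat.of A))} [GrpObj G]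

lemma exists_point (P : NonAbH1.TorsorSch G Scheme.fppfPrecoverage) :
    ∃ (A' : Type u) (_ : CommRing A') (_ : Algebra A A'), Module.FaithfullyFlat A A' ∧
      Algebra.FinitePresentation A A' ∧ Nonempty (sp (algebraMap A A') ⟶ P.X) :=
  exists_ring_cover P.isTorsor.2

lemma ff_tensor (A₁ A₂ : Type u) [CommRing A₁] [CommRing A₂] [Algebra A A₁] [Algebra A A₂]
    [Module.FaithfullyFlat A A₁] [Module.FaithfullyFlat A A₂] : Module.FaithfullyFlat A (A₁ ⊗[A] A₂) :=
  Module.FaithfullyFlat.trans A A₁ (A₁ ⊗[A] A₂)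

lemma fp_tensor (A₁ A₂ : Type u) [CommRing A₁] [CommRing A₂] [Algebra A A₁] [Algebra A A₂]
    [Algebra.FinitePresentation A A₁] [Algebra.FinitePresentation A A₂] :
    Algebra.FinitePresentation A (A₁ ⊗[A] A₂) :=
  Algebra.FinitePresentation.trans A A₁ (A₁ ⊗[A] A₂)

lemma exists_common_point (P Q : NonAbH1.TorsorSch G Scheme.fppfPrecoverage) :
    ∃ (A' : Type u) (_ : CommRing A') (_ : Algebra A A'), Module.FaithfullyFlat A A' ∧
      Algebra.FinitePresentation A A' ∧ Nonempty (sp (algebraMap A A') ⟶ P.X) ∧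
        Nonempty (sp (algebraMap A A') ⟶ Q.X) := by
  obtain ⟨A₁, _, _, _, _, ⟨x⟩⟩ := exists_point P
  obtain ⟨A₂, _, _, _, _, ⟨y⟩⟩ := exists_point Q
  exact ⟨A₁ ⊗[A] A₂, inferInstance, inferInstance, ff_tensor A₁ A₂, fp_tensor A₁ A₂,
    ⟨ap (Algebra.TensorProduct.includeLeft : A₁ →ₐ[A] A₁ ⊗[A] A₂) ≫ x⟩,
    ⟨ap (Algebra.TensorProduct.includeRight : A₂ →ₐ[A] A₁ ⊗[A] A₂) ≫ y⟩⟩

end ex

end K964.Cocyc
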