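import Groth.Agent.MultTori.K964.TorsY
import Groth.Agent.MultTori.K964.Cocyc
import Mathlib.RingTheory.Flat.Basic

/-!
# The extension attached to a cocycle

`Fam`: natural multiplicative families `c T φ ψ ∈ M (T)`, `φ ψ : A' →ₐ[A] T` (cocycles on `A'`).
`E D c`: pairs `(λ, d)`, `λ : Λ`, `d ∈ (A' ⊗[A] B)ˣ` with `λ (c φ ψ) = ψ d / φ d`.
* `exists_mem`: surjectivity on `Λ` when `Pic B = 0`;
* `exists_point_of_retraction`: an equivariant retraction `E → Bˣ` makes `c` a coboundary.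
-/

set_option autoImplicit false
universe u

open CategoryTheory CategoryTheory.Limits MonoidalCategory CartesianMonoidalCategory AlgebraicGeometry
open TensorProduct

namespace K964.ExtE

open K965.Gal K964.UC K964.CharExt K964.AffPt K964.AffYon K964.Pt K964.TorsY K964.Cocyc
open K965.Pts (sp mp)
open scoped MonObj GrpObj

/-- A natural multiplicative family of points of `M` indexed by pairs of maps from `A'`. -/
structure Fam {A : Type u} [CommRing A] (M : Over (Spec (CommRingCat.of A))) [GrpObj M] (A' : Type u) [CommRing A']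
    [Algebra A A'] where
  /-- the value of the family -/
  c : ∀ (T : Type u) [CommRing T] [Algebra A T], (A' →ₐ[A] T) → (A' →ₐ[A] T) → (sp (algebraMap A T) ⟶ M)
  nat : ∀ (T T' : Type u) [CommRing T] [Algebra A T] [CommRing T'] [Algebra A T'] (θ : T →ₐ[A] T')
    (φ ψ : A' →ₐ[A] T), ap θ ≫ c T φ ψ = c T' (θ.comp φ) (θ.comp ψ)
  mul : ∀ (T : Type u) [CommRing T] [Algebra A T] (φ ψ χ : A' →ₐ[A] T), c T ψ χ * c T φ ψ = c T φ χ

variable {A B : Type u} [CommRing A] [CommRing B] [Algebra A B] {G : Type} [Group G]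
    [MulSemiringAction G B] [SMulCommClass G A B]
    {M : Over (Spec (CommRingCat.of A))} [GrpObj M] {Λ : Type} [AddCommGroup Λ] [DistribMulAction G Λ]

/-- Points with values in rings commute. -/
lemma comm_pt (D : K965.Dict A B G M Λ) {T : Type u} [CommRing T] [Algebra A T] (x y : sp (algebraMap A T) ⟶ M) :
    x * y = y * x := by
  apply D.ch_inj
  rw [D.ch_mul, D.ch_mul]
  ext1 m
  exact _root_.add_comm _ _

/-- A group with a dictionary is commutative. -/
theorem isCommMonObj_of_dict (D : K965.Dict A B G M Λ) [IsAffine M.left] : IsCommMonObj M := by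
  constructor
  apply ext_of_affine
  intro T _ _ x
  have h1 : x ≫ μ[M] = (x ≫ fst M M) * (x ≫ snd M M) := by
    rw [Hom.mul_def, ← comp_lift, lift_fst_snd, Category.comp_id]
  have h2 : x ≫ (β_ M M).hom ≫ μ[M] = (x ≫ snd M M) * (x ≫ fst M M) := by
    rw [Hom.mul_def, ← Category.assoc]
    congr 1
    ext1 <;> simp
  rw [h1, h2, comm_pt D]

lemma ch_div (D : K965.Dict A B G M Λ) {T : Type u} [CommRing T] [Algebra A T] (x y : sp (algebraMap A T) ⟶ M)
    (m : Λ) : D.ch T (x / y) m = D.ch T x m - D.ch T y m := by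
  have h := D.ch_mul T (x / y) y
  rw [div_mul_cancel] at h
  rw [h, AddMonoidHom.add_apply, add_sub_cancel_right]

/-- the family of a point of a torsor -/
noncomputable def famOf {X : Over (Spec (CommRingCat.of A))} {a : AlgGrp.Action M X}
    (ha : NonAbH1.IsPseudoTorsorSch a) {A' : Type u} [CommRing A'] [Algebra A A'] (x : sp (algebraMap A A') ⟶ X) :
    Fam M A' where
  c _ _ _ φ ψ := cocy ha x φ ψ
  nat _ _ _ _ _ _ θ φ ψ := ap_cocy ha x φ ψ θ
  mul _ _ _ φ ψ χ := cocy_mul ha x φ ψ χ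

variable {A' : Type u} [CommRing A'] [Algebra A A']

/-- the quotient of two families for a commutative group -/
noncomputable def Fam.div (D : K965.Dict A B G M Λ) (c c' : Fam M A') : Fam M A' where
  c T _ _ φ ψ := c.c T φ ψ / c'.c T φ ψ
  nat _ _ _ _ _ _ θ φ ψ := by rw [GrpObj.comp_div, c.nat, c'.nat]
  mul T _ _ φ ψ χ := by
    apply D.ch_inj
    ext1 m
    rw [D.ch_mul, AddMonoidHom.add_apply, ch_div, ch_div, ch_div, ← c.mul T φ ψ χ, ← c'.mul T φ ψ χ, D.ch_mul,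
      D.ch_mul, AddMonoidHom.add_apply, AddMonoidHom.add_apply]
    abel

/-- The extension of `Λ` by `Bˣ` attached to a family. -/
noncomputable def E (D : K965.Dict A B G M Λ) (c : Fam M A') : AddSubgroup (Λ × Additive (A' ⊗[A] B)ˣ) where
  carrier := {z | ∀ (T : Type u) [CommRing T] [Algebra A T] (φ ψ : A' →ₐ[A] T),
    vl (D.ch T (c.c T φ ψ) z.1) * mB B φ (vl z.2) = mB B ψ (vl z.2)}
  add_mem' {z z'} h h' := by
    intro T _ _ φ ψ
    rw [Prod.fst_add, Prod.snd_add, map_add, vl_add, vl_add, map_mul, map_mul, ← h T φ ψ, ← h' T φ ψ]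
    ring
  zero_mem' := by
    intro T _ _ φ ψ
    rw [Prod.fst_zero, Prod.snd_zero, map_zero, vl_zero, vl_zero, map_one, map_one, one_mul]
  neg_mem' {z} h := by
    intro T _ _ φ ψ
    have h1 : ∀ {R : Type u} [CommRing R] (u : Additive Rˣ), vl u * vl (-u) = 1 := by
      intro R _ u
      rw [← vl_add, add_neg_cancel, vl_zero]
    have e1 := h T φ ψ
    rw [Prod.fst_neg, Prod.snd_neg, map_neg]
    have e2 : mB B ψ (vl z.2) * mB B ψ (vl (-z.2)) = 1 := by rw [← map_mul, h1, map_one]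
    have e3 : mB B φ (vl z.2) * mB B φ (vl (-z.2)) = 1 := by rw [← map_mul, h1, map_one]
    have e4 := h1 (D.ch T (c.c T φ ψ) z.1)
    rw [← e1] at e2
    calc vl (-D.ch T (c.c T φ ψ) z.1) * mB B φ (vl (-z.2))
        = vl (-D.ch T (c.c T φ ψ) z.1) * mB B φ (vl (-z.2)) * ((vl (D.ch T (c.c T φ ψ) z.1) * mB B φ (vl z.2)) *
          mB B ψ (vl (-z.2))) := by rw [e2, mul_one]
      _ = (vl (D.ch T (c.c T φ ψ) z.1) * vl (-D.ch T (c.c T φ ψ) z.1)) * (mB B φ (vl z.2) * mB B φ (vl (-z.2))) *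
          mB B ψ (vl (-z.2)) := by ring
      _ = mB B ψ (vl (-z.2)) := by rw [e3, e4, one_mul, one_mul]

lemma mem_E {D : K965.Dict A B G M Λ} {c : Fam M A'} {z : Λ × Additive (A' ⊗[A] B)ˣ} : z ∈ E D c ↔
    ∀ (T : Type u) [CommRing T] [Algebra A T] (φ ψ : A' →ₐ[A] T),
      vl (D.ch T (c.c T φ ψ) z.1) * mB B φ (vl z.2) = mB B ψ (vl z.2) := Iff.rfl

/-- the action of `G` on units of `T ⊗ B` -/
noncomputable def ua (A B : Type u) [CommRing A] [CommRing B] [Algebra A B] {G : Type} [Group G]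
    [MulSemiringAction G B] [SMulCommClass G A B] (T : Type u) [CommRing T] [Algebra A T] (g : G) :
    Additive (T ⊗[A] B)ˣ →+ Additive (T ⊗[A] B)ˣ := um (act A B T g : T ⊗[A] B →+* T ⊗[A] B)

@[simp] lemma vl_ua (T : Type u) [CommRing T] [Algebra A T] (g : G) (u : Additive (T ⊗[A] B)ˣ) :
    vl (ua A B T g u) = act A B T g (vl u) := rfl

lemma smul_mem_E {D : K965.Dict A B G M Λ} {c : Fam M A'} {z : Λ × Additive (A' ⊗[A] B)ˣ} (h : z ∈ E D c) (g : G) :
    (g • z.1, ua A B A' g z.2) ∈ E D c := by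
  intro T _ _ φ ψ
  have h1 := congrArg (act A B T g) (h T φ ψ)
  rw [map_mul] at h1
  have h2 := D.ch_smul T (c.c T φ ψ) g z.1
  change vl (D.ch T (c.c T φ ψ) (g • z.1)) * mB B φ (vl (ua A B A' g z.2)) = mB B ψ (vl (ua A B A' g z.2))
  rw [vl_ua, map_act, map_act, ← h1]
  congr 1

variable (A A') in
/-- the inclusion `Bˣ → (A' ⊗ B)ˣ` -/
noncomputable def ib : Additive Bˣ →+ Additive (A' ⊗[A] B)ˣ :=
  um (Algebra.TensorProduct.includeRight : B →ₐ[A] A' ⊗[A] B)

@[simp] lemma vl_ib (b : Additive Bˣ) : vl (ib A A' b) = 1 ⊗ₜ[A] vl b := rfl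

lemma ib_mem_E (D : K965.Dict A B G M Λ) (c : Fam M A') (b : Additive Bˣ) : ((0 : Λ), ib A A' b) ∈ E D c := by
  intro T _ _ φ ψ
  change vl (D.ch T (c.c T φ ψ) 0) * mB B φ (vl (ib A A' b)) = mB B ψ (vl (ib A A' b))
  rw [map_zero, vl_zero, one_mul, vl_ib]
  simp

/-- surjectivity on `Λ` -/
theorem exists_mem (D : K965.Dict A B G M Λ) (c : Fam M A') [Module.FaithfullyFlat A A']
    (hPic : Subsingleton (CommRing.Pic B)) (m : Λ) : ∃ d, (m, d) ∈ E D c := by
  obtain ⟨d, hd⟩ := exists_unit (B := B) (A' := A') hPic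
    (fun T _ _ φ ψ => (D.ch T (c.c T φ ψ) m).toMul)
    (by
      intro T T' _ _ _ _ θ φ ψ
      have h1 := ch_nat' D θ (c.c T φ ψ) m
      rw [c.nat] at h1
      exact h1.symm)
    (by
      intro T _ _ φ ψ χ
      have h1 := D.ch_mul T (c.c T ψ χ) (c.c T φ ψ)
      rw [c.mul] at h1
      have h2 := congrArg vl (DFunLike.congr_fun h1 m)
      rw [AddMonoidHom.add_apply, vl_add] at h2
      exact (mul_comm _ _).trans h2.symm)
  exact ⟨Additive.ofMul d, fun T _ _ φ ψ => hd T φ ψ⟩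

/-- the kernel of `E → Λ` -/
theorem exists_of_mem_zero {D : K965.Dict A B G M Λ} {c : Fam M A'} [Module.FaithfullyFlat A A']
    {d : Additive (A' ⊗[A] B)ˣ} (h : ((0 : Λ), d) ∈ E D c) : ∃ b : Additive Bˣ, d = ib A A' b := by
  obtain ⟨b, hb⟩ := exists_unit_of_eq (A := A) (B := B) (A' := A') d.toMul (by
    have h1 := h (A' ⊗[A] A') (i1 A') (i2 A')
    change vl (D.ch _ _ 0) * _ = _ at h1
    rw [map_zero, vl_zero, one_mul] at h1
    exact h1)
  exact ⟨Additive.ofMul b, addUnits_ext hb⟩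

/-- **Splitting criterion**: an equivariant retraction `E → Bˣ` makes the family a coboundary. -/
theorem exists_point_of_retraction (D : K965.Dict A B G M Λ) (c : Fam M A') [Module.FaithfullyFlat A A']
    (hPic : Subsingleton (CommRing.Pic B)) (ret : E D c →+ Additive Bˣ)
    (hret : ∀ b, ret ⟨(0, ib A A' b), ib_mem_E D c b⟩ = b)
    (heq : ∀ (g : G) (z : E D c), vl (ret ⟨_, smul_mem_E z.2 g⟩) = g • vl (ret z)) :
    ∃ n : sp (algebraMap A A') ⟶ M, ∀ (T : Type u) [CommRing T] [Algebra A T] (φ ψ : A' →ₐ[A] T),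
      c.c T φ ψ = (ap ψ ≫ n) / (ap φ ≫ n) := by
  choose d hd using exists_mem D c hPic
  let v : E D c →+ Additive (A' ⊗[A] B)ˣ :=
    ((AddMonoidHom.snd _ _).comp (E D c).subtype) - (ib A A').comp ret
  have hv : ∀ z : E D c, v z = z.1.2 - ib A A' (ret z) := fun z => rfl
  have hv0 : ∀ z : E D c, z.1.1 = 0 → v z = 0 := by
    rintro ⟨⟨m, d⟩, h⟩ hm
    change m = 0 at hm
    subst hm
    obtain ⟨b, rfl⟩ := exists_of_mem_zero h
    rw [hv, hret, sub_self]
  have hv1 : ∀ z z' : E D c, z.1.1 = z'.1.1 → v z = v z' := by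
    intro z z' h
    rw [← sub_eq_zero, ← map_sub]
    apply hv0
    rw [AddSubgroup.coe_sub, Prod.fst_sub, h, sub_self]
  let χ : Λ →+ Additive (A' ⊗[A] B)ˣ :=
    { toFun := fun m => v ⟨(m, d m), hd m⟩
      map_zero' := hv0 _ rfl
      map_add' := fun m m' => by
        rw [← map_add]
        exact hv1 _ _ rfl }
  have hχ : ∀ z : E D c, χ z.1.1 = v z := fun z => hv1 _ _ rfl
  obtain ⟨n, hn⟩ := D.ch_surj A' χ (by
    intro g m
    have h1 := hχ ⟨_, smul_mem_E (hd m) g⟩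
    change χ (g • m) = _ at h1
    change vl (χ (g • m)) = act A B A' g (vl (χ m))
    have h2 : act A B A' g (vl (χ m)) = vl (ua A B A' g (χ m)) := rfl
    rw [h2, h1]
    congr 1
    change v _ = ua A B A' g (v ⟨(m, d m), hd m⟩)
    rw [hv, hv, map_sub]
    congr 1
    apply addUnits_ext
    rw [vl_ua, vl_ib, vl_ib, act_tmul, heq g ⟨(m, d m), hd m⟩])
  refine ⟨n, fun T _ _ φ ψ => ?_⟩
  apply D.ch_inj
  ext1 m
  rw [ch_div]
  apply addUnits_ext
  have h1 := hd m T φ ψ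
  change vl (D.ch T (c.c T φ ψ) m) * mB B φ (vl (d m)) = mB B ψ (vl (d m)) at h1
  have h2 : D.ch A' n m = d m - ib A A' (ret ⟨(m, d m), hd m⟩) := by rw [hn]; rfl
  have h3 : ∀ φ : A' →ₐ[A] T, vl (D.ch T (ap φ ≫ n) m) * (1 ⊗ₜ[A] vl (ret ⟨(m, d m), hd m⟩)) =
      mB B φ (vl (d m)) := by
    intro φ
    rw [ch_nat']
    have h4 : (1 : T) ⊗ₜ[A] vl (ret ⟨(m, d m), hd m⟩) = mB B φ (vl (ib A A' (ret ⟨(m, d m), hd m⟩))) := by
      rw [vl_ib]; simp
    rw [h4, ← map_mul, ← vl_add, h2, sub_add_cancel]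
  have hu : IsUnit ((1 : T) ⊗ₜ[A] vl (ret ⟨(m, d m), hd m⟩)) :=
    (ib A T (ret ⟨(m, d m), hd m⟩)).toMul.isUnit
  have h5 : vl (D.ch T (c.c T φ ψ) m) * vl (D.ch T (ap φ ≫ n) m) = vl (D.ch T (ap ψ ≫ n) m) := by
    apply hu.mul_right_cancel
    rw [mul_assoc, h3, h3, h1]
  rw [← vl_add] at h5
  have h6 := addUnits_ext h5
  rw [← h6, add_sub_cancel_right]

end K964.ExtE
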