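import Groth.Agent.MultTori.K965.Dict

/-!
# The dictionary for isotrivial groups of multiplicative type over a connected ring
-/

set_option autoImplicit false
universe u
open CategoryTheory MonoidalCategory CartesianMonoidalCategory MonObj GrpObj AlgebraicGeometry
open TensorProduct

namespace K964.MDict

open K965.Pts K965.Gal K965.Dic Groth.Agent.Sga3B Groth.Agent.Sga3B.TorusAlgClosed

/-- isotrivial of type `Λ` -/
abbrev IsoT {S : Scheme.{u}} (M : Over S) [GrpObj M] (Λ : Type) [AddCommGroup Λ] : Prop :=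
  TwC.Locally S .finiteEtale (fun S' g => Nonempty (Grp.mk (Red.bc g M) ≅ Grp.mk (Red.DS S' Λ)))

theorem isAffineHom_of_isoT {S : Scheme.{u}} {M : Over S} [GrpObj M] {Λ : Type} [AddCommGroup Λ] (hM : IsoT M Λ) :
    IsAffineHom M.hom := by
  have := Groth.Agent.Etbase.FpqcDescent.descendsAlong_isAffineHom.{u}
  obtain ⟨S', f, hf1, hf2, hf3, h⟩ := hM
  refine FpqcLoc.of_fpqc_cover (P := @IsAffineHom) M.hom f ?_ fun s' => ?_
  · intro V hV
    refine ⟨f ⁻¹ᵁ V, (hV.preimage f).isCompact, ?_⟩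
    exact Set.image_preimage_eq _ f.surjective
  · obtain ⟨U, hU, -, ⟨e⟩⟩ := h s'
    refine ⟨U, hU, ?_⟩
    have h1 : IsAffineHom (Red.DS (U : Scheme.{u}) Λ).hom := by
      change IsAffineHom (Limits.pullback.snd _ _)
      exact MorphismProperty.pullback_snd (P := @IsAffineHom) _ _ (diag_isAffineHom Λ)
    exact prop_of_grp_iso (P := @IsAffineHom) e h1

/-- The dictionary for an isotrivial group of multiplicative type over a connected ring. -/
theorem exists_dict {A : Type u} [CommRing A] [ConnectedSpace (Spec (CommRingCat.of A))]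
    (M : Over (Spec (CommRingCat.of A))) [GrpObj M] {Λ : Type} [AddCommGroup Λ] (hM : IsoT M Λ) :
    ∃ (B : Type u) (_ : CommRing B) (_ : Algebra A B) (G : Type) (_ : Group G) (_ : Fintype G)
      (_ : MulSemiringAction G B) (_ : SMulCommClass G A B) (_ : DistribMulAction G Λ),
      IsGal A B G ∧ ConnectedSpace (Spec (CommRingCat.of B)) ∧ Nonempty (K965.Dict A B G M Λ) ∧ IsAffine M.left := by
  have haff : IsAffineHom M.hom := isAffineHom_of_isoT hM
  have haff' : IsAffine M.left := isAffine_of_isAffineHom M.hom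
  obtain ⟨S', f, hf1, hf2, hf3, h⟩ := hM
  obtain ⟨s⟩ := (inferInstance : Nonempty (Spec (CommRingCat.of A)))
  obtain ⟨s', -⟩ := f.surjective s
  obtain ⟨U, hU, hcl, ⟨e₀⟩⟩ := h s'
  have hfin : IsFinite U.ι := by
    have : IsClosedImmersion U.ι := IsClosedImmersion.of_isPreimmersion _ (by simpa using hcl)
    infer_instance
  obtain ⟨B, _, _, G, _, _, _, _, p, hp, hG, hconn⟩ := exists_isGal (U : Scheme.{u}) (U.ι ≫ f) ⟨s', hU⟩
  obtain ⟨x₀⟩ := (inferInstance : Nonempty (Spec (CommRingCat.of B)))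
  have hnt : Nontrivial B := PrimeSpectrum.nontrivial (show PrimeSpectrum B from x₀)
  have e : Grp.mk (Red.bc p (Red.bc (U.ι ≫ f) M)) ≅ Grp.mk (Red.DS (Spec (CommRingCat.of B)) Λ) :=
    BcIso.bcMapIso p e₀ ≪≫ dsBcIso p Λ
  have e' := BcIso.bcCongrIso hp.symm M ≪≫ BcIso.bcCompIso p (U.ι ≫ f) M ≪≫ e
  obtain ⟨hD, hd⟩ := exists_dict_of_split (G := G) e' hG (fun x hx => idem_trivial x hx)
  exact ⟨B, inferInstance, inferInstance, G, inferInstance, inferInstance, inferInstance, inferInstance, hD, hG,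
    hconn, hd, haff'⟩

end K964.MDict
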