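import Groth.Agent.S2821
import Groth.Agent.Ega4dA.LocPrincipal
import Groth.Agent.Sga4h.DivEq
import Mathlib.RingTheory.DedekindDomain.PID
import Mathlib.RingTheory.QuasiFinite.Basic
import Mathlib.RingTheory.PicardGroup

/-!
# Regular semilocal domains are factorial
-/

set_option autoImplicit false
universe u

open scoped nonZeroDivisors

namespace K964.SemiUFD

/-- A locally principal ideal of a domain is invertible. -/
theorem isUnit_of_locally_principal {B : Type u} [CommRing B] [IsDomain B] (I : Ideal B) (hI : I ≠ ⊥)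
    (h : ∀ q : Ideal B, q.IsMaximal → ∃ f ∉ q, ∃ a ∈ I, a ≠ 0 ∧ ∀ x ∈ I, ∃ r, f * x = r * a) :
    IsUnit (I : FractionalIdeal B⁰ (FractionRing B)) := by
  have hI' : (I : FractionalIdeal B⁰ (FractionRing B)) ≠ 0 := by
    rwa [Ne, FractionalIdeal.coeIdeal_eq_zero]
  have h1 : (I : FractionalIdeal B⁰ (FractionRing B)) * (I : FractionalIdeal B⁰ (FractionRing B))⁻¹ ≤ 1 := by
    rw [mul_comm]
    rw [mul_comm, FractionalIdeal.inv_eq]
    exact FractionalIdeal.mul_one_div_le_one
  obtain ⟨J, hJ⟩ := FractionalIdeal.le_one_iff_exists_coeIdeal.1 h1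
  have h2 : J = ⊤ := by
    by_contra hne
    obtain ⟨q, hq, hJq⟩ := Ideal.exists_le_maximal J hne
    obtain ⟨f, hf, a, ha, ha0, hx⟩ := h q hq
    apply hf
    apply hJq
    have ha0' : algebraMap B (FractionRing B) a ≠ 0 := by
      rwa [Ne, FaithfulSMul.algebraMap_eq_zero_iff]
    have h3 : algebraMap B (FractionRing B) f / algebraMap B (FractionRing B) a ∈
        (I : FractionalIdeal B⁰ (FractionRing B))⁻¹ := by
      rw [FractionalIdeal.mem_inv_iff hI']
      intro y hy
      obtain ⟨x, hxI, rfl⟩ := (FractionalIdeal.mem_coeIdeal B⁰).1 hy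
      obtain ⟨r, hr⟩ := hx x hxI
      rw [div_mul_eq_mul_div, ← map_mul, hr, map_mul, mul_div_assoc, div_self ha0', mul_one]
      exact FractionalIdeal.coe_mem_one _ _
    have h4 := FractionalIdeal.mul_mem_mul (FractionalIdeal.mem_coeIdeal_of_mem B⁰ ha) h3
    rw [mul_div_cancel₀ _ ha0', ← hJ, FractionalIdeal.mem_coeIdeal] at h4
    obtain ⟨x, hx, hx'⟩ := h4
    rwa [← FaithfulSMul.algebraMap_injective B (FractionRing B) hx']
  rw [h2, FractionalIdeal.coeIdeal_top] at hJ
  exact IsUnit.of_mul_eq_one _ hJ.symm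

theorem ufd_of_regular (B : Type u) [CommRing B] [IsDomain B] [IsRegularRing B] [Finite (MaximalSpectrum B)] :
    UniqueFactorizationMonoid B := by
  refine UniqueFactorizationMonoid.of_forall_isPrincipal_of_height_eq_one fun p hp hp1 => ?_
  apply Ideal.IsPrincipal.of_finite_maximals_of_isUnit
  · have : Finite {I : Ideal B | I.IsMaximal} :=
      Finite.of_injective (fun I => (⟨I.1, I.2⟩ : MaximalSpectrum B)) (fun I J h => Subtype.ext (congrArg MaximalSpectrum.asIdeal h))
    exact Set.toFinite _
  · refine isUnit_of_locally_principal p (p.ne_bot_of_height_eq_one hp1) fun q hq => ?_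
    have hr : IsRegularLocalRing (Localization.AtPrime q) := inferInstance
    have hufd := (Groth.Agent.S2821.result (Localization.AtPrime q)).2
    exact Groth.Agent.Ega4dA.LocPrincipal.exists_of_isPrincipal_map q (Localization.AtPrime q) p (p.ne_bot_of_height_eq_one hp1)
      (Groth.Agent.Ega4dA.LocPrincipal.isPrincipal_map_of_ufd q _ p hp1)

end K964.SemiUFD
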