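import Groth.Agent.MultTori.K964.Desc

/-!
# Classes which become equal after base change
-/

set_option autoImplicit false
universe u

open CategoryTheory CategoryTheory.Limits MonoidalCategory CartesianMonoidalCategory AlgebraicGeometry
open TensorProduct

namespace K964.BcCl

open K964.AffPt K964.AffYon K964.Pt K964.Cocyc K964.BcPt K964.Desc
open K965.Pts (sp mp)
open scoped MonObj GrpObj

instance isCommMonObj_bc {S S' : Scheme.{u}} (f : S' ⟶ S) (G : Over S) [GrpObj G] [IsCommMonObj G] :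
    IsCommMonObj (Red.bc f G) :=
  inferInstanceAs (IsCommMonObj ((Over.pullback f).obj G))

variable {A : Type u} [CommRing A] {G : Over (Spec (CommRingCat.of A))} [GrpObj G] [IsCommMonObj G]
  {P Q : NonAbH1.TorsorSch G Scheme.fppfPrecoverage} {A' : Type u} [CommRing A'] [Algebra A A']
  [Module.FaithfullyFlat A A'] [Algebra.FinitePresentation A A']
  (x : sp (algebraMap A A') ⟶ P.X) (y : sp (algebraMap A A') ⟶ Q.X)

theorem exists_of_bc (K : Type u) [CommRing K] [Algebra A K]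
    (h : NonAbH1.H1Sch.bcMap (tb A K) G Scheme.fppfPrecoverage P.cl =
      NonAbH1.H1Sch.bcMap (tb A K) G Scheme.fppfPrecoverage Q.cl) :
    ∃ n : sp (algebraMap A (K ⊗[A] A')) ⟶ G,
      cocy P.isTorsor.1 x ((t1 A K (K ⊗[A] A')).comp Algebra.TensorProduct.includeRight)
          ((t2 A K (K ⊗[A] A')).comp Algebra.TensorProduct.includeRight) /
        cocy Q.isTorsor.1 y ((t1 A K (K ⊗[A] A')).comp Algebra.TensorProduct.includeRight)
          ((t2 A K (K ⊗[A] A')).comp Algebra.TensorProduct.includeRight) =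
      (ap (t2 A K (K ⊗[A] A')) ≫ n) / (ap (t1 A K (K ⊗[A] A')) ≫ n) := by
  have h1 : (P.bc (tb A K)).cl = (Q.bc (tb A K)).cl := h
  let i : A' →ₐ[A] K ⊗[A] A' := Algebra.TensorProduct.includeRight
  rw [cl_eq_iff_ring (A' := K ⊗[A] A') (bp (R := K) (ap i ≫ x)) (bp (R := K) (ap i ≫ y))] at h1
  obtain ⟨n, hn⟩ := h1
  refine ⟨ubp n, ?_⟩
  have h2 := congrArg ubp hn
  rw [ubp_div, ubp_div] at h2
  have e1 := ubp_cocy (R := K) (T := (K ⊗[A] A') ⊗[K] (K ⊗[A] A')) P.isTorsor.1 (ap i ≫ x) (i1 _) (i2 _)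
  have e2 := ubp_cocy (R := K) (T := (K ⊗[A] A') ⊗[K] (K ⊗[A] A')) Q.isTorsor.1 (ap i ≫ y) (i1 _) (i2 _)
  rw [cocy_comp] at e1 e2
  rw [← ap_ubp, ← ap_ubp] at h2
  rw [← e1, ← e2]
  exact h2

end K964.BcCl
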