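import Groth.Agent.MultTori.K964.ExtE
import Mathlib.RingTheory.Flat.Stability

/-!
# Descent of elements along `R → R'` after tensoring, and the comparison with a base `K`

`exists_point_of_retr`: if a cocycle becomes a coboundary over the `A`-algebra `K` and there is an equivariant
retraction `(K ⊗ B)ˣ → Bˣ`, then it is a coboundary.
-/

set_option autoImplicit false
universe u

open CategoryTheory CategoryTheory.Limits MonoidalCategory CartesianMonoidalCategory AlgebraicGeometry
open TensorProduct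

namespace K964.Desc

open K965.Gal K964.UC K964.CharExt K964.AffPt K964.AffYon K964.Pt K964.TorsY K964.Cocyc K964.ExtE
open K965.Pts (sp mp)
open scoped MonObj GrpObj

section tower

variable {A B : Type u} [CommRing A] [CommRing B] [Algebra A B] {R R' : Type u} [CommRing R] [CommRing R']
  [Algebra A R] [Algebra R R'] [Algebra A R'] [IsScalarTower A R R']

variable (A R R') in
/-- the map `R' → R' ⊗[R] R'` on the left over `A` -/
noncomputable abbrev t1 : R' →ₐ[A] R' ⊗[R] R' := (i1 (A := R) R').restrictScalars A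

variable (A R R') in
/-- the map `R' → R' ⊗[R] R'` on the right over `A` -/
noncomputable abbrev t2 : R' →ₐ[A] R' ⊗[R] R' := (i2 (A := R) R').restrictScalars A

lemma exact_amitsur [Module.FaithfullyFlat R R'] :
    Function.Exact (IsScalarTower.toAlgHom A R R').toLinearMap
      ((t1 A R R').toLinearMap - (t2 A R R').toLinearMap) := by
  intro x
  constructor
  · intro h
    obtain ⟨a, ha⟩ := mem_range_of_tmul_eq (R := R) x (by
      rw [LinearMap.sub_apply, sub_eq_zero] at h
      exact h.symm)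
    exact ⟨a, ha⟩
  · rintro ⟨a, rfl⟩
    rw [LinearMap.sub_apply, sub_eq_zero]
    change (algebraMap R R' a) ⊗ₜ[R] (1 : R') = (1 : R') ⊗ₜ[R] (algebraMap R R' a)
    rw [Algebra.algebraMap_eq_smul_one, TensorProduct.smul_tmul]

/-- descent of elements -/
theorem exists_of_eq_tower [Module.Flat A B] [Module.FaithfullyFlat R R'] (z : R' ⊗[A] B)
    (h : mB B (t1 A R R') z = mB B (t2 A R R') z) :
    ∃ w : R ⊗[A] B, mB B (IsScalarTower.toAlgHom A R R') w = z := by
  have h1 := Module.Flat.rTensor_exact B (exact_amitsur (A := A) (R := R) (R' := R'))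
  obtain ⟨w, hw⟩ := (h1 z).1 (by
    rw [LinearMap.rTensor_sub, LinearMap.sub_apply, sub_eq_zero]
    exact h)
  exact ⟨w, hw⟩

theorem injective_tower [Module.Flat A B] [Module.FaithfullyFlat R R'] :
    Function.Injective (mB B (IsScalarTower.toAlgHom A R R')) := by
  have h1 : Function.Injective (IsScalarTower.toAlgHom A R R').toLinearMap := by
    change Function.Injective (algebraMap R R')
    exact FaithfulSMul.algebraMap_injective R R'
  exact Module.Flat.rTensor_preserves_injective_linearMap (M := B) _ h1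

/-- descent of units -/
theorem exists_unit_of_eq_tower [Module.Flat A B] [Module.FaithfullyFlat R R'] (z : Additive (R' ⊗[A] B)ˣ)
    (h : mB B (t1 A R R') (vl z) = mB B (t2 A R R') (vl z)) :
    ∃ w : Additive (R ⊗[A] B)ˣ, um (mB B (IsScalarTower.toAlgHom A R R') : R ⊗[A] B →+* R' ⊗[A] B) w = z := by
  obtain ⟨w, hw⟩ := exists_of_eq_tower (vl z) h
  obtain ⟨w', hw'⟩ := exists_of_eq_tower (A := A) (R := R) (vl (-z)) (by
    have h1 : um (mB B (t1 A R R') : R' ⊗[A] B →+* (R' ⊗[R] R') ⊗[A] B) z =
      um (mB B (t2 A R R') : R' ⊗[A] B →+* (R' ⊗[R] R') ⊗[A] B) z := addUnits_ext h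
    have h2 := congrArg (fun t => vl (-t)) h1
    beta_reduce at h2
    rw [← map_neg, ← map_neg] at h2
    exact h2)
  have h1 : w * w' = 1 := by
    apply injective_tower (A := A) (R := R) (R' := R')
    rw [map_mul, hw, hw', map_one, ← vl_add, add_neg_cancel, vl_zero]
  exact ⟨Additive.ofMul (Units.mkOfMulEqOne w w' h1), addUnits_ext hw⟩

end tower

section retr

variable {A B : Type u} [CommRing A] [CommRing B] [Algebra A B] {G : Type} [Group G]
    [MulSemiringAction G B] [SMulCommClass G A B]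
    {M : Over (Spec (CommRingCat.of A))} [GrpObj M] {Λ : Type} [AddCommGroup Λ] [DistribMulAction G Λ]
    {A' : Type u} [CommRing A'] [Algebra A A']

/-- Comparison with the `A`-algebra `K`: `c` becomes a coboundary over `K`. -/
theorem exists_point_of_retr (D : K965.Dict A B G M Λ) (c : Fam M A') [Module.FaithfullyFlat A A'] [Module.Flat A B]
    (hPic : Subsingleton (CommRing.Pic B)) (K : Type u) [CommRing K] [Algebra A K] (R' : Type u) [CommRing R']
    [Algebra K R'] [Algebra A R'] [IsScalarTower A K R'] [Module.FaithfullyFlat K R'] (i : A' →ₐ[A] R')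
    (n : sp (algebraMap A R') ⟶ M)
    (hn : c.c (R' ⊗[K] R') ((t1 A K R').comp i) ((t2 A K R').comp i) = (ap (t2 A K R') ≫ n) / (ap (t1 A K R') ≫ n))
    (r : Additive (K ⊗[A] B)ˣ →+ Additive Bˣ) (hr : ∀ b, r (ib A K b) = b)
    (hr' : ∀ (g : G) (z : Additive (K ⊗[A] B)ˣ), vl (r (ua A B K g z)) = g • vl (r z)) :
    ∃ n : sp (algebraMap A A') ⟶ M, ∀ (T : Type u) [CommRing T] [Algebra A T] (φ ψ : A' →ₐ[A] T),
      c.c T φ ψ = (ap ψ ≫ n) / (ap φ ≫ n) := by
  let j : K ⊗[A] B →+* R' ⊗[A] B := mB B (IsScalarTower.toAlgHom A K R')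
  have hj : Function.Injective (um j) := by
    intro x y hxy
    apply addUnits_ext
    exact injective_tower (A := A) (B := B) (R := K) (R' := R') (congrArg vl hxy)
  let e : E D c →+ Additive (R' ⊗[A] B)ˣ :=
    (um (mB B i : A' ⊗[A] B →+* R' ⊗[A] B)).comp ((AddMonoidHom.snd _ _).comp (E D c).subtype) -
      (D.ch R' n).comp ((AddMonoidHom.fst _ _).comp (E D c).subtype)
  have he : ∀ z : E D c, e z = um (mB B i : A' ⊗[A] B →+* R' ⊗[A] B) z.1.2 - D.ch R' n z.1.1 := fun z => rfl
  have he' : ∀ z : E D c, vl (e z) * vl (D.ch R' n z.1.1) = mB B i (vl z.1.2) := by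
    intro z
    rw [← vl_add, he, sub_add_cancel, vl_um]
    rfl
  have hl : ∀ z : E D c, ∃ w : Additive (K ⊗[A] B)ˣ, um j w = e z := by
    intro z
    apply exists_unit_of_eq_tower
    have h1 := z.2 (R' ⊗[K] R') ((t1 A K R').comp i) ((t2 A K R').comp i)
    rw [hn, ch_div] at h1
    have h2 : vl (D.ch (R' ⊗[K] R') (ap (t2 A K R') ≫ n) z.1.1 - D.ch (R' ⊗[K] R') (ap (t1 A K R') ≫ n) z.1.1) *
        mB B (t1 A K R') (vl (D.ch R' n z.1.1)) = mB B (t2 A K R') (vl (D.ch R' n z.1.1)) := by
      rw [← ch_nat', ← ch_nat', ← vl_add, sub_add_cancel]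
    rw [← mB_comp, ← mB_comp, ← he', map_mul, map_mul, ← h2] at h1
    have hu1 : IsUnit (mB B (t1 A K R') (vl (D.ch R' n z.1.1))) := (D.ch R' n z.1.1).toMul.isUnit.map _
    have hu2 : IsUnit (vl (D.ch (R' ⊗[K] R') (ap (t2 A K R') ≫ n) z.1.1 -
        D.ch (R' ⊗[K] R') (ap (t1 A K R') ≫ n) z.1.1)) := Units.isUnit _
    apply (hu2.mul hu1).mul_right_cancel
    rw [← h1]
    ring
  choose l hl using hl
  let L : E D c →+ Additive (K ⊗[A] B)ˣ :=
    { toFun := l
      map_zero' := hj (by rw [hl, map_zero, map_zero])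
      map_add' := fun x y => hj (by rw [hl, map_add, map_add, hl, hl]) }
  have hL : ∀ z, um j (L z) = e z := hl
  refine exists_point_of_retraction D c hPic (r.comp L) ?_ ?_
  · intro b
    rw [AddMonoidHom.comp_apply]
    have h1 : L ⟨(0, ib A A' b), ib_mem_E D c b⟩ = ib A K b := by
      apply hj
      rw [hL, he]
      apply addUnits_ext
      change vl (_ - D.ch R' n 0) = _
      rw [map_zero, sub_zero]
      change mB B i (1 ⊗ₜ[A] vl b) = mB B _ (1 ⊗ₜ[A] vl b)
      simp
    rw [h1, hr]
  · intro g z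
    rw [AddMonoidHom.comp_apply, AddMonoidHom.comp_apply, ← hr']
    congr 2
    apply hj
    rw [hL]
    have h1 : um j (ua A B K g (L z)) = ua A B R' g (um j (L z)) := addUnits_ext (by
      rw [vl_um, vl_ua, vl_ua, vl_um]
      exact map_act _ g _)
    rw [h1, hL, he, he, map_sub]
    congr 1
    · apply addUnits_ext
      rw [vl_um]
      exact map_act i g _
    · apply addUnits_ext
      rw [vl_ua]
      exact D.ch_smul R' n g z.1.1

end retr

end K964.Desc
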