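import Groth.Agent.MultTori.K964.CharLift

/-!
# Surjectivity of `H¹(A, M) → H¹(R, M_R)` and lifting of characters of the kernel of a free presentation
-/

set_option autoImplicit false
universe u

open CategoryTheory CategoryTheory.Limits MonoidalCategory CartesianMonoidalCategory AlgebraicGeometry
open TensorProduct

namespace K964.CharSurj

open K965.Gal K964.UC K964.CharExt K964.AffPt K964.AffYon K964.Pt K964.TorsY K964.Cocyc K964.ExtE K964.BcPt
open K964.DictBc K964.Desc K964.LiftL K964.FreeG K964.CharLift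
open K965.Pts (sp mp)
open scoped MonObj GrpObj

attribute [local instance] actBc commBc

variable {A B : Type u} [CommRing A] [CommRing B] [Algebra A B] {G : Type} [Group G]
    [MulSemiringAction G B] [SMulCommClass G A B]
    {M : Over (Spec (CommRingCat.of A))} [GrpObj M] {Λ : Type} [AddCommGroup Λ] [DistribMulAction G Λ]

lemma ib_injective {A' : Type u} [CommRing A'] [Algebra A A'] [Module.FaithfullyFlat A A'] :
    Function.Injective (ib A A' : Additive Bˣ → Additive (A' ⊗[A] B)ˣ) := by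
  intro x y hxy
  apply addUnits_ext
  have h1 := congrArg vl hxy
  rw [vl_ib, vl_ib] at h1
  exact Module.FaithfullyFlat.tensorProduct_mk_injective (A := A) (B := A') B h1

lemma fg_finsupp {J : Type} [Finite J] : AddGroup.FG (J →₀ ℤ) := by
  rw [← Module.Finite.iff_addGroup_fg]
  infer_instance

omit [GrpObj M] in
lemma isAffine_bc [IsAffine M.left] (R : Type u) [CommRing R] [Algebra A R] : IsAffine (Red.bc (tb A R) M).left :=
  inferInstanceAs (IsAffine (pullback _ _))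

/-- equivariant characters of the kernel lift ⟹ classes lift -/
theorem surjective_of_char_lift [Fintype G] (hG : IsGal A B G) (D : K965.Dict A B G M Λ) [IsAffine M.left]
    {I : Type} [Finite I] (q : ((G × I) →₀ ℤ) →+ Λ) (hq : Function.Surjective q)
    (hqe : ∀ g x, q (reg G I g x) = g • q x)
    (R : Type u) [CommRing R] [Algebra A R] (hPic : Subsingleton (CommRing.Pic (R ⊗[A] B)))
    (h : ∀ pR : q.ker →+ Additive (R ⊗[A] B)ˣ,
      (∀ (g : G) (x : q.ker) (h : reg G I g x ∈ q.ker), pR ⟨_, h⟩ = ua A B R g (pR x)) →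
        ∃ p : q.ker →+ Additive Bˣ, (∀ (g : G) (x : q.ker) (h : reg G I g x ∈ q.ker), p ⟨_, h⟩ = ug g (p x)) ∧
          ∀ x, ib A R (p x) = pR x) :
    Function.Surjective (NonAbH1.H1Sch.bcMap (tb A R) M Scheme.fppfPrecoverage) := by
  have := hG.ff
  intro c
  obtain ⟨Z, rfl⟩ := exists_cl c
  obtain ⟨R', _, _, hff, hfp, ⟨z⟩⟩ := exists_point Z
  obtain ⟨e, he⟩ := exists_lift_free (I := I) (DictBc.bc D R) (famOf Z.isTorsor.1 z) hPic q hqe
  obtain ⟨pR, hpR, hpR'⟩ := exists_ker_char he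
  obtain ⟨p, hp, hp'⟩ := h pR (fun g x h => hpR' g x h)
  have hfg : AddGroup.FG ((G × I) →₀ ℤ) := fg_finsupp
  obtain ⟨Y, hY⟩ := exists_lift_class (ρ := reg G I) hG D q hq hqe R Z z e he p
    (fun g x h => congrArg vl (hp g x h)) (fun x => by
      rw [hpR, ← hp']
      rfl)
  exact ⟨Y.cl, hY⟩

/-- classes lift ⟹ equivariant characters of the kernel lift -/
theorem char_lift_of_surjective [Fintype G] (hG : IsGal A B G) (D : K965.Dict A B G M Λ) [IsAffine M.left]
    {I : Type} [Finite I] (q : ((G × I) →₀ ℤ) →+ Λ) (hq : Function.Surjective q)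
    (hqe : ∀ g x, q (reg G I g x) = g • q x) (hPic : Subsingleton (CommRing.Pic B))
    (R : Type u) [CommRing R] [Algebra A R]
    (hlift : ∀ u : Additive (R ⊗[A] B)ˣ, ∃ b, ib A R b = u)
    (h : Function.Surjective (NonAbH1.H1Sch.bcMap (tb A R) M Scheme.fppfPrecoverage))
    (pR : q.ker →+ Additive (R ⊗[A] B)ˣ)
    (hpR : ∀ (g : G) (x : q.ker) (h : reg G I g x ∈ q.ker), pR ⟨_, h⟩ = ua A B R g (pR x)) :
    ∃ p : q.ker →+ Additive Bˣ, (∀ (g : G) (x : q.ker) (h : reg G I g x ∈ q.ker), p ⟨_, h⟩ = ug g (p x)) ∧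
      ∀ x, ib A R (p x) = pR x := by
  have := hG.ff
  have hfg : AddGroup.FG ((G × I) →₀ ℤ) := fg_finsupp
  have haff : IsAffine (Red.bc (tb A R) M).left := isAffine_bc R
  obtain ⟨Y, pt, hpt, -, -, hnat, hact⟩ := exists_torsor (ρ := reg G I) (isGal_bc A B R G hG) (DictBc.bc D R) q hq hqe
    pR (fun g x h => congrArg vl (hpR g x h))
  obtain ⟨c, hc⟩ := h Y.cl
  obtain ⟨Z, rfl⟩ := exists_cl c
  obtain ⟨A', _, _, hff, hfp, ⟨z⟩⟩ := exists_point Z
  obtain ⟨e, he⟩ := exists_lift_free (I := I) D (famOf Z.isTorsor.1 z) hPic q hqe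
  obtain ⟨pZ, hpZ, hpZ'⟩ := exists_ker_char he
  rw [← NonAbH1.TorsorSch.cl_bc, cl_eq_iff] at hc
  obtain ⟨E⟩ := hc
  let R' := R ⊗[A] A'
  let i : A' →ₐ[A] R' := Algebra.TensorProduct.includeRight
  let zR : sp (algebraMap R R') ⟶ (Z.bc (tb A R)).X := bp (R := R) (ap i ≫ z)
  let y : sp (algebraMap R R') ⟶ Y.X := zR ≫ E.iso.hom
  let eR : ((G × I) →₀ ℤ) →+ Additive (R' ⊗[R] (R ⊗[A] B))ˣ :=
    (ku A B R R' : _ →+ _).comp ((um (mB B i : A' ⊗[A] B →+* R' ⊗[A] B)).comp e)
  have heR : ∀ x, vl (eR x) = kap A B R R' (mB B i (vl (e x))) := fun x => rfl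
  have hcoc : ∀ x, D.ch (R' ⊗[R] R') (cocy Z.isTorsor.1 z (((i1 (A := R) R').restrictScalars A).comp i)
      (((i2 (A := R) R').restrictScalars A).comp i)) x =
      (ku A B R (R' ⊗[R] R')).symm ((DictBc.bc D R).ch (R' ⊗[R] R') (cocy Y.isTorsor.1 y (i1 R') (i2 R')) x) := by
    intro x
    rw [bc_ch, AddEquiv.symm_apply_apply]
    congr 2
    have h1 : cocy Y.isTorsor.1 y (i1 R') (i2 R') = cocy (Z.bc (tb A R)).isTorsor.1 zR (i1 R') (i2 R') := by
      rw [cocy, cocy, ← df_comp (Z.bc (tb A R)).isTorsor.1 Y.isTorsor.1 E.iso.hom E.comm, Category.assoc, Category.assoc]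
    rw [h1]
    have h2 := ubp_cocy (R := R) (T := R' ⊗[R] R') Z.isTorsor.1 (ap i ≫ z) (i1 R') (i2 R')
    rw [cocy_comp] at h2
    exact h2.symm
  let s : ((G × I) →₀ ℤ) →+ Additive (R' ⊗[R] (R ⊗[A] B))ˣ :=
    AddMonoidHom.mk' (fun x => eR x - pt R' y x) (fun a b => by rw [map_add, map_add]; abel)
  have hs : ∀ x, s x + pt R' y x = eR x := fun x => sub_add_cancel _ _
  have hs' : ∀ x, mB (R ⊗[A] B) (i1 R') (vl (s x)) = mB (R ⊗[A] B) (i2 R') (vl (s x)) := by
    intro x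
    have e1 := he.mem x (R' ⊗[R] R') (((i1 (A := R) R').restrictScalars A).comp i)
      (((i2 (A := R) R').restrictScalars A).comp i)
    change vl (D.ch _ (cocy Z.isTorsor.1 z _ _) (q x)) * mB B _ (vl (e x)) = mB B _ (vl (e x)) at e1
    rw [hcoc, ← mB_comp, ← mB_comp, vl_ku_symm] at e1
    have e2 := congrArg (kap A B R (R' ⊗[R] R')) e1
    rw [map_mul, AlgEquiv.apply_symm_apply, ← mB_kap, ← mB_kap, ← heR, ← hs, vl_add, map_mul, map_mul] at e2
    have e3 := congrArg (fun h => vl (h x)) (hact (R' ⊗[R] R') (cocy Y.isTorsor.1 y (i1 R') (i2 R'))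
      (ap (i1 R') ≫ y))
    beta_reduce at e3
    rw [cocy, sm_df, AddMonoidHom.add_apply, vl_add, AddMonoidHom.comp_apply, hnat, hnat] at e3
    rw [e3, cocy] at e2
    have hu1 : IsUnit (vl ((DictBc.bc D R).ch (R' ⊗[R] R') (df Y.isTorsor.1 (ap (i1 R') ≫ y) (ap (i2 R') ≫ y)) (q x))) :=
      Units.isUnit _
    have hu2 : IsUnit (mB (R ⊗[A] B) (i1 R') (vl (pt R' y x))) := (pt R' y x).toMul.isUnit.map _
    apply (hu1.mul hu2).mul_right_cancel
    rw [← e2]
    ring
  have hs'' : ∀ x, ∃ b : Additive (R ⊗[A] B)ˣ, ib R R' b = s x := by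
    intro x
    obtain ⟨b, hb⟩ := exists_unit_of_eq (A := R) (B := R ⊗[A] B) (A' := R') (s x).toMul (hs' x)
    exact ⟨Additive.ofMul b, addUnits_ext hb.symm⟩
  choose σ hσ using hs''
  have hinj := ib_injective (A := R) (B := R ⊗[A] B) (A' := R')
  let Sg : ((G × I) →₀ ℤ) →+ Additive (R ⊗[A] B)ˣ :=
    { toFun := σ
      map_zero' := hinj (by rw [hσ, map_zero, map_zero])
      map_add' := fun x y => hinj (by rw [hσ, map_add, map_add, hσ, hσ]) }
  have hSg : ∀ x, ib R R' (Sg x) = s x := hσ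
  have heqv : ∀ g x, Sg (reg G I g x) = ua A B R g (Sg x) := by
    intro g x
    apply hinj
    have h1 : ib R R' (ua A B R g (Sg x)) = ua R (R ⊗[A] B) R' g (ib R R' (Sg x)) := ib_ug R' g (Sg x)
    rw [h1, hSg, hSg]
    have h2 : eR (reg G I g x) = ua R (R ⊗[A] B) R' g (eR x) := by
      apply addUnits_ext
      rw [heR, he.eqv, vl_ua, heR, act_kap, map_act]
    have h3 : pt R' y (reg G I g x) = ua R (R ⊗[A] B) R' g (pt R' y x) :=
      addUnits_ext (by rw [vl_ua]; exact (hpt R' y).eqv g x)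
    change eR _ - pt R' y _ = ua R (R ⊗[A] B) R' g (eR _ - pt R' y _)
    rw [map_sub, h2, h3]
  choose t ht using fun j : I => hlift (Sg (Finsupp.single (1, j) 1))
  obtain ⟨τ, hτ, hτ'⟩ := exists_hom (G := G) (I := I) (W := Additive Bˣ) (fun g => ug g)
    (fun w => addUnits_ext (by simp)) (fun g h w => addUnits_ext (by simp [mul_smul])) t
  have hτS : (ib A R).comp τ = Sg := by
    refine FreeG.hom_ext (fun g => ua A B R g) (fun g x => ?_) heqv (fun j => ?_)
    · rw [AddMonoidHom.comp_apply, hτ', ib_ug, AddMonoidHom.comp_apply]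
    · rw [AddMonoidHom.comp_apply, hτ, ht]
  have hτSg : ∀ x, ib A R (τ x) = Sg x := fun x => DFunLike.congr_fun hτS x
  refine ⟨AddMonoidHom.mk' (fun x : q.ker => pZ x - τ x) (fun a b => by
    rw [map_add, AddSubgroup.coe_add, map_add]; abel), fun g x h => ?_, fun x => hinj ?_⟩
  · change pZ _ - τ (reg G I g x) = ug g (pZ x - τ x)
    rw [hpZ', hτ', map_sub]
  · change ib R R' (ib A R (pZ x - τ x)) = _
    rw [map_sub, hτSg, map_sub, hSg]
    have h2 : eR x = ib R R' (ib A R (pZ x)) := by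
      apply addUnits_ext
      rw [heR, hpZ, vl_ib, vl_ib, vl_ib]
      simp
    have h3 : pt R' y x = ib R R' (pR x) := addUnits_ext ((hpt R' y).ext x)
    change _ - (eR x - pt R' y x) = _
    rw [h2, h3]
    have h4 : ∀ (a b : Additive (R' ⊗[R] (R ⊗[A] B))ˣ), a - (a - b) = b := fun a b => sub_sub_cancel a b
    exact h4 _ _

end K964.CharSurj
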