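import Groth.Agent.PrincBund.K826.Tors
import Groth.Agent.PrincBund.K826.Descend

/-!
# Points of torsors and an isomorphism criterion

* `sm a g x`: the action on points; `df ha x y`: the unique `g` with `g x = y`.
* `exists_equivIso`: two pseudo-torsors with points over a common cover having the same difference cocycle are
  isomorphic.
* `equivIso_iff`: for a commutative group, the precise criterion.
-/

set_option autoImplicit false
universe u

open CategoryTheory CategoryTheory.Limits MonoidalCategory CartesianMonoidalCategory MonObj GrpObj AlgebraicGeometry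

namespace K964.Pt

variable {S : Scheme.{u}} {G X Y : Over S} [GrpObj G]

section sm

variable (a : AlgGrp.Action G X)

/-- the action on points -/
noncomputable def sm {T : Over S} (g : T ⟶ G) (x : T ⟶ X) : T ⟶ X := lift g x ≫ a.act

variable {a}

lemma comp_sm {T T' : Over S} (t : T' ⟶ T) (g : T ⟶ G) (x : T ⟶ X) : t ≫ sm a g x = sm a (t ≫ g) (t ≫ x) := by
  rw [sm, sm, comp_lift_assoc]

lemma mul_sm {T : Over S} (g h : T ⟶ G) (x : T ⟶ X) : sm a (g * h) x = sm a g (sm a h x) := by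
  have h1 := congrArg (lift (lift g h) x ≫ ·) a.mul_act
  simp only [← Category.assoc, lift_whiskerRight, lift_lift_associator_hom, lift_whiskerLeft] at h1
  rw [sm, sm, sm, Hom.mul_def]
  exact h1

lemma one_sm {T : Over S} (x : T ⟶ X) : sm a (1 : T ⟶ G) x = x := by
  have h1 := congrArg (lift (toUnit T) x ≫ ·) a.one_act
  simp only [← Category.assoc, lift_whiskerRight] at h1
  rw [sm, Hom.one_def]
  rw [h1]
  simp

end sm

section df

variable {a : AlgGrp.Action G X} (ha : NonAbH1.IsPseudoTorsorSch a)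

/-- the difference of two points -/
noncomputable def df {T : Over S} (x y : T ⟶ X) : T ⟶ G := (K826.Tors.existsUnique_of_pseudo ha x y).choose

lemma sm_df {T : Over S} (x y : T ⟶ X) : sm a (df ha x y) x = y :=
  (K826.Tors.existsUnique_of_pseudo ha x y).choose_spec.1

lemma eq_df {T : Over S} {x y : T ⟶ X} {g : T ⟶ G} (h : sm a g x = y) : g = df ha x y :=
  (K826.Tors.existsUnique_of_pseudo ha x y).choose_spec.2 g h

include ha in
lemma sm_inj {T : Over S} {x : T ⟶ X} {g h : T ⟶ G} (e : sm a g x = sm a h x) : g = h :=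
  (eq_df ha e).trans (eq_df ha rfl).symm

lemma comp_df {T T' : Over S} (t : T' ⟶ T) (x y : T ⟶ X) : t ≫ df ha x y = df ha (t ≫ x) (t ≫ y) :=
  eq_df ha (by rw [← comp_sm, sm_df])

lemma df_mul {T : Over S} (x y z : T ⟶ X) : df ha y z * df ha x y = df ha x z :=
  eq_df ha (by rw [mul_sm, sm_df, sm_df])

lemma df_self {T : Over S} (x : T ⟶ X) : df ha x x = 1 := (eq_df ha (one_sm x)).symm

lemma df_sm {T : Over S} (g : T ⟶ G) (x : T ⟶ X) : df ha x (sm a g x) = g := (eq_df ha rfl).symm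

lemma df_sm_sm {T : Over S} (g h : T ⟶ G) (x y : T ⟶ X) :
    df ha (sm a g x) (sm a h y) = h * df ha x y * g⁻¹ :=
  (eq_df ha (by rw [mul_sm, mul_sm, ← mul_sm g⁻¹, inv_mul_cancel, one_sm, sm_df])).symm

end df

section iso

variable {a : AlgGrp.Action G X} {b : AlgGrp.Action G Y}

/-- equivariance on points -/
lemma comm_iff (f : X ⟶ Y) : a.act ≫ f = (G ◁ f) ≫ b.act ↔
    ∀ (T : Over S) (g : T ⟶ G) (x : T ⟶ X), sm a g x ≫ f = sm b g (x ≫ f) := by
  constructor
  · intro h T g x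
    rw [sm, sm, Category.assoc, h, lift_whiskerLeft_assoc]
  · intro h
    have h1 := h (G ⊗ X) (fst G X) (snd G X)
    rw [sm, sm, lift_fst_snd, Category.id_comp] at h1
    rw [h1]
    congr 1

/-- an equivariant morphism preserves differences -/
lemma df_comp (ha : NonAbH1.IsPseudoTorsorSch a) (hb : NonAbH1.IsPseudoTorsorSch b) (f : X ⟶ Y)
    (hf : a.act ≫ f = (G ◁ f) ≫ b.act) {T : Over S} (x y : T ⟶ X) : df hb (x ≫ f) (y ≫ f) = df ha x y :=
  (eq_df hb (by rw [← (comm_iff f).1 hf, sm_df])).symm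

variable {K : Precoverage Scheme.{u}}

/-- the equivariant morphism attached to points with the same difference cocycle -/
theorem exists_hom (hK : K ≤ Scheme.fpqcPrecoverage) (ha : NonAbH1.IsPseudoTorsorSch a)
    (hb : NonAbH1.IsPseudoTorsorSch b) {Z : Over S} (hZ : NonAbH1.IsLocallyTrivialFor K Z) (x : Z ⟶ X) (y : Z ⟶ Y)
    (h : df ha (fst Z Z ≫ x) (snd Z Z ≫ x) = df hb (fst Z Z ≫ y) (snd Z Z ≫ y)) :
    ∃! f : X ⟶ Y, ∀ (T : Over S) (p : T ⟶ X) (z : T ⟶ Z), p ≫ f = sm b (df ha (z ≫ x) p) (z ≫ y) := by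
  have h' : ∀ (T : Over S) (z z' : T ⟶ Z), df ha (z ≫ x) (z' ≫ x) = df hb (z ≫ y) (z' ≫ y) := by
    intro T z z'
    have h1 := congrArg (lift z z' ≫ ·) h
    simpa only [comp_df, lift_fst_assoc, lift_snd_assoc] using h1
  refine K826.Descend.existsUnique_glue hK hZ (T := X) (fun T p z => sm b (df ha (z ≫ x) p) (z ≫ y)) ?_ ?_
  · intro T T' r p z
    simp only [comp_sm, comp_df, Category.assoc]
  · intro T p z z'
    rw [← df_mul ha (z ≫ x) (z' ≫ x) p, mul_sm, h', sm_df]

/-- Two pseudo-torsors with points over a common cover having the same difference cocycle are isomorphic. -/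
theorem exists_equivIso (hK : K ≤ Scheme.fpqcPrecoverage) (ha : NonAbH1.IsPseudoTorsorSch a)
    (hb : NonAbH1.IsPseudoTorsorSch b) {Z : Over S} (hZ : NonAbH1.IsLocallyTrivialFor K Z) (x : Z ⟶ X) (y : Z ⟶ Y)
    (h : df ha (fst Z Z ≫ x) (snd Z Z ≫ x) = df hb (fst Z Z ≫ y) (snd Z Z ≫ y)) :
    ∃ e : NonAbH1.EquivIso a b, x ≫ e.iso.hom = y := by
  obtain ⟨f, hf, -⟩ := exists_hom hK ha hb hZ x y h
  obtain ⟨f', hf', -⟩ := exists_hom hK hb ha hZ y x h.symm
  have h1 : f ≫ f' = 𝟙 X := by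
    refine K826.Descend.hom_ext_of_locTriv hK hZ fun T p z => ?_
    rw [← Category.assoc, hf T p z, hf' T _ z, df_sm, sm_df, Category.comp_id]
  have h2 : f' ≫ f = 𝟙 Y := by
    refine K826.Descend.hom_ext_of_locTriv hK hZ fun T p z => ?_
    rw [← Category.assoc, hf' T p z, hf T _ z, df_sm, sm_df, Category.comp_id]
  refine ⟨⟨⟨f, f', h1, h2⟩, ?_⟩, ?_⟩
  · change a.act ≫ f = (G ◁ f) ≫ b.act
    refine K826.Descend.hom_ext_of_locTriv hK hZ fun T p z => ?_
    have e1 : p = lift (p ≫ fst _ _) (p ≫ snd _ _) := by simp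
    have e2 : p ≫ a.act = sm a (p ≫ fst _ _) (p ≫ snd _ _) := by rw [sm, ← comp_lift, lift_fst_snd, Category.comp_id]
    rw [← Category.assoc, e2, hf T _ z, ← Category.assoc]
    have e3 : (p ≫ (G ◁ f)) ≫ b.act = sm b (p ≫ fst _ _) ((p ≫ snd _ _) ≫ f) := by
      rw [sm]
      congr 1
      ext1 <;> simp
    rw [e3, hf T _ z, ← mul_sm]
    congr 1
    rw [← df_mul ha (z ≫ x) (p ≫ snd _ _) _, df_sm]
  · change x ≫ f = y
    have := hf Z x (𝟙 Z)
    rw [this, Category.id_comp, Category.id_comp, df_self, one_sm]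

end iso

section comm

lemma cg1 {H : Type*} [CommGroup H] (a b c : H) : a * b * c⁻¹ / b = a / c := by
  rw [mul_right_comm, mul_div_cancel_right, div_eq_mul_inv]

lemma cg2 {H : Type*} [CommGroup H] {a b c d : H} (h : a / d = b / c) : a = b * d * c⁻¹ := by
  rw [div_eq_iff_eq_mul.1 h, div_eq_mul_inv, mul_right_comm]

variable [IsCommMonObj G] {a : AlgGrp.Action G X} {b : AlgGrp.Action G Y} {K : Precoverage Scheme.{u}}

/-- Isomorphism criterion for torsors under a commutative group. -/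
theorem equivIso_iff (hK : K ≤ Scheme.fpqcPrecoverage) (ha : NonAbH1.IsPseudoTorsorSch a)
    (hb : NonAbH1.IsPseudoTorsorSch b) {Z : Over S} (hZ : NonAbH1.IsLocallyTrivialFor K Z) (x : Z ⟶ X) (y : Z ⟶ Y) :
    Nonempty (NonAbH1.EquivIso a b) ↔ ∃ n : Z ⟶ G, df ha (fst Z Z ≫ x) (snd Z Z ≫ x) / df hb (fst Z Z ≫ y) (snd Z Z ≫ y)
      = (snd Z Z ≫ n) / (fst Z Z ≫ n) := by
  constructor
  · rintro ⟨e⟩
    let n : Z ⟶ G := df hb y (x ≫ e.iso.hom)
    refine ⟨n, ?_⟩
    rw [← df_comp ha hb e.iso.hom e.comm]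
    have h1 : ∀ (z : Z ⊗ Z ⟶ Z), (z ≫ x) ≫ e.iso.hom = sm b (z ≫ n) (z ≫ y) := by
      intro z
      rw [← comp_sm, sm_df, Category.assoc]
    rw [h1, h1, df_sm_sm]
    exact cg1 _ _ _
  · rintro ⟨n, hn⟩
    obtain ⟨e, -⟩ := exists_equivIso hK ha hb hZ x (sm b n y) (by
      rw [comp_sm, comp_sm, df_sm_sm]
      exact cg2 hn)
    exact ⟨e⟩

end comm

end K964.Pt
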