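import Groth.Agent.MultTori.K964.Pt
import Groth.Agent.MultTori.K965.Pts
import Mathlib.AlgebraicGeometry.Morphisms.FlatMono
import Mathlib.AlgebraicGeometry.Sites.Fpqc
import Mathlib.RingTheory.RingHom.FaithfullyFlat

/-!
# Torsors over affine bases: ring-valued points

* `exists_ring_cover`: an fppf-locally trivial scheme over `Spec A` has a point over a faithfully flat finitely
  presented `A`-algebra.
* `locTriv_sp`: conversely the spectrum of such an algebra is locally trivial.
* `prodIso`: `Spec A' ×_A Spec A'` and `Spec (A' ⊗[A] A')`.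
-/

set_option autoImplicit false
universe u

open CategoryTheory CategoryTheory.Limits MonoidalCategory CartesianMonoidalCategory MonObj GrpObj AlgebraicGeometry
open TensorProduct

namespace K964.AffPt

open K965.Pts K964.Pt

/-- An affine scheme covering a compact base in the fppf sense and mapping to an fppf-locally trivial scheme. -/
lemma exists_affine_cover {S : Scheme.{u}} [CompactSpace S] {X : Over S}
    (h : NonAbH1.IsLocallyTrivialFor Scheme.fppfPrecoverage X) :
    ∃ (Y : Scheme.{u}) (q : Y ⟶ S) (s : Y ⟶ X.left), IsAffine Y ∧ Flat q ∧ LocallyOfFinitePresentation q ∧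
      Surjective q ∧ s ≫ X.hom = q := by
  obtain ⟨R, hR, hsec⟩ := h
  have h1 : ∀ x : S, ∃ (U : Scheme.{u}) (f : U ⟶ S) (u : U) (W : U.Opens), R f ∧ f u = x ∧ u ∈ W ∧
      IsAffineOpen W := by
    intro x
    obtain ⟨U, g, hg, hs⟩ := hR.1 x
    obtain ⟨hg⟩ := hg
    obtain ⟨u, hu⟩ := hs
    obtain ⟨W, hW, hxW, -⟩ := exists_isAffineOpen_mem_and_subset (U := ⊤) (x := u) trivial
    exact ⟨_, _, u, W, hg, hu, hxW, hW⟩
  choose U f w W hf hw hwW hW using h1
  have hfl : ∀ x, Flat (f x) := fun x => (hR.2 (hf x)).1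
  have hfp : ∀ x, LocallyOfFinitePresentation (f x) := fun x => (hR.2 (hf x)).2
  obtain ⟨t, ht⟩ := isCompact_univ.elim_finite_subcover (fun x : S => f x '' (W x : Set (U x)))
    (fun x => (f x).isOpenMap _ (W x).2) (fun x _ => Set.mem_iUnion.2 ⟨x, w x, hwW x, hw x⟩)
  choose s hs using fun i => hsec (f i) (hf i)
  let Y : t → Scheme.{u} := fun x => (W x.1 : Scheme.{u})
  have hY : ∀ x, IsAffine (Y x) := fun x => hW x.1
  let q : (∐ Y) ⟶ S := Sigma.desc (fun x => (W x.1).ι ≫ f x.1)
  have hq1 : Flat q := IsZariskiLocalAtSource.sigmaDesc (P := (@Flat : MorphismProperty Scheme.{u})) fun x => inferInstance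
  have hq2 : LocallyOfFinitePresentation q :=
    IsZariskiLocalAtSource.sigmaDesc (P := (@LocallyOfFinitePresentation : MorphismProperty Scheme.{u})) fun x => inferInstance
  refine ⟨∐ Y, q, Sigma.desc (fun x => (W x.1).ι ≫ s x.1), inferInstance, hq1, hq2, ⟨fun x => ?_⟩, ?_⟩
  · obtain ⟨y, hy, hxy⟩ := Set.mem_iUnion₂.1 (ht (Set.mem_univ x))
    obtain ⟨u, hu, hux⟩ := hxy
    refine ⟨Sigma.ι Y ⟨y, hy⟩ ⟨u, hu⟩, ?_⟩
    have e : Sigma.ι Y ⟨y, hy⟩ ≫ q = (W y).ι ≫ f y := Sigma.ι_desc _ _
    have e'' := congrArg (fun z : (W y : Scheme.{u}) ⟶ S => z ⟨u, hu⟩) e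
    exact e''.trans hux
  · apply Sigma.hom_ext
    intro i
    rw [Sigma.ι_desc_assoc, Sigma.ι_desc, Category.assoc, hs]

/-- An fppf-locally trivial scheme over `Spec A` has a point over a faithfully flat finitely presented `A`-algebra. -/
theorem exists_ring_cover {A : Type u} [CommRing A] {X : Over (Spec (CommRingCat.of A))}
    (h : NonAbH1.IsLocallyTrivialFor Scheme.fppfPrecoverage X) :
    ∃ (A' : Type u) (_ : CommRing A') (_ : Algebra A A'), Module.FaithfullyFlat A A' ∧
      Algebra.FinitePresentation A A' ∧ Nonempty (sp (algebraMap A A') ⟶ X) := by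
  obtain ⟨Y, q, s, hY, hq1, hq2, hq3, hs⟩ := exists_affine_cover h
  let φ : CommRingCat.of A ⟶ Γ(Y, ⊤) := Spec.preimage (Y.isoSpec.inv ≫ q)
  have hφ : Spec.map φ = Y.isoSpec.inv ≫ q := Spec.map_preimage _
  let _ : Algebra A Γ(Y, ⊤) := φ.hom.toAlgebra
  have hφ' : Spec.map (CommRingCat.ofHom (algebraMap A Γ(Y, ⊤))) = Y.isoSpec.inv ≫ q := hφ
  refine ⟨Γ(Y, ⊤), inferInstance, inferInstance, ?_, ?_, ⟨Over.homMk (Y.isoSpec.inv ≫ s) ?_⟩⟩
  · have h1 : Flat (Spec.map φ) := by rw [hφ]; infer_instance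
    have h2 : Surjective (Spec.map φ) := by rw [hφ]; infer_instance
    have h3 : φ.hom.FaithfullyFlat := by
      rw [RingHom.FaithfullyFlat.iff_flat_and_comap_surjective]
      exact ⟨(HasRingHomProperty.Spec_iff (P := @Flat)).1 h1, h2.surj⟩
    exact h3
  · have h1 : LocallyOfFinitePresentation (Spec.map φ) := by rw [hφ]; infer_instance
    exact (HasRingHomProperty.Spec_iff (P := @LocallyOfFinitePresentation)).1 h1
  · change (Y.isoSpec.inv ≫ s) ≫ X.hom = Spec.map (CommRingCat.ofHom (algebraMap A Γ(Y, ⊤)))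
    rw [Category.assoc, hs, hφ']

section ring

variable {A : Type u} [CommRing A]

theorem locTriv_sp (A' : Type u) [CommRing A'] [Algebra A A'] [Module.FaithfullyFlat A A']
    [Algebra.FinitePresentation A A'] :
    NonAbH1.IsLocallyTrivialFor Scheme.fppfPrecoverage (sp (algebraMap A A')) := by
  have h3 : (algebraMap A A').FaithfullyFlat := by
    rw [RingHom.faithfullyFlat_algebraMap_iff]; infer_instance
  have h4 := RingHom.FaithfullyFlat.iff_flat_and_comap_surjective.1 h3
  have h1 : Flat (Spec.map (CommRingCat.ofHom (algebraMap A A'))) :=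
    (HasRingHomProperty.Spec_iff (P := @Flat)).2 h4.1
  have h2 : Surjective (Spec.map (CommRingCat.ofHom (algebraMap A A'))) := ⟨h4.2⟩
  have h5 : LocallyOfFinitePresentation (Spec.map (CommRingCat.ofHom (algebraMap A A'))) :=
    (HasRingHomProperty.Spec_iff (P := @LocallyOfFinitePresentation)).2
      (by
        change (algebraMap A A').FinitePresentation
        rw [RingHom.finitePresentation_algebraMap]; infer_instance)
  refine ⟨_, Scheme.Hom.singleton_mem_fppfPrecoverage (Spec.map (CommRingCat.ofHom (algebraMap A A'))), ?_⟩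
  rintro Y g ⟨⟩
  exact ⟨𝟙 _, Category.id_comp _⟩

variable (A' : Type u) [CommRing A'] [Algebra A A']

/-- `A' → A' ⊗ A'` on the left as algebra map -/
noncomputable abbrev i1 : A' →ₐ[A] A' ⊗[A] A' := Algebra.TensorProduct.includeLeft

/-- `A' → A' ⊗ A'` on the right as algebra map -/
noncomputable abbrev i2 : A' →ₐ[A] A' ⊗[A] A' := Algebra.TensorProduct.includeRight

variable {A'} in
/-- the morphism attached to an algebra map -/
noncomputable def ap {T T' : Type u} [CommRing T] [Algebra A T] [CommRing T'] [Algebra A T'] (a : T →ₐ[A] T') :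
    sp (algebraMap A T') ⟶ sp (algebraMap A T) := mp (a : T →+* T') a.comp_algebraMap

lemma ap_comp {T T' T'' : Type u} [CommRing T] [Algebra A T] [CommRing T'] [Algebra A T'] [CommRing T'']
    [Algebra A T''] (a : T →ₐ[A] T') (b : T' →ₐ[A] T'') : ap (b.comp a) = ap b ≫ ap a := by
  ext1
  exact Spec.map_comp (CommRingCat.ofHom (a : T →+* T')) (CommRingCat.ofHom (b : T' →+* T''))

lemma ap_id {T : Type u} [CommRing T] [Algebra A T] : ap (AlgHom.id A T) = 𝟙 _ := by
  ext1
  exact Spec.map_id _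

/-- every morphism is given by an algebra map -/
lemma exists_ap {T T' : Type u} [CommRing T] [Algebra A T] [CommRing T'] [Algebra A T']
    (f : sp (algebraMap A T') ⟶ sp (algebraMap A T)) : ∃ a : T →ₐ[A] T', f = ap a := by
  obtain ⟨ψ, h, rfl⟩ := exists_mp f
  exact ⟨⟨ψ, fun r => congr($h r)⟩, rfl⟩

lemma ap_injective {T T' : Type u} [CommRing T] [Algebra A T] [CommRing T'] [Algebra A T'] :
    Function.Injective (ap : (T →ₐ[A] T') → _) := by
  intro a b h
  have h1 := congrArg (fun f => f.left) h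
  have h2 := Spec.map_injective (show Spec.map (CommRingCat.ofHom (a : T →+* T')) =
    Spec.map (CommRingCat.ofHom (b : T →+* T')) from h1)
  ext x
  exact congr($(h2).hom x)

/-- `Spec A' ×_A Spec A' → Spec (A' ⊗ A')` -/
noncomputable def prodHom : sp (algebraMap A A') ⊗ sp (algebraMap A A') ⟶ sp (algebraMap A (A' ⊗[A] A')) :=
  Over.homMk (pullbackSpecIso A A' A').hom (pullbackSpecIso_hom_base A A' A')

lemma prodHom_i1 : prodHom A' ≫ ap (i1 (A := A) A') = fst _ _ := by
  ext1
  exact pullbackSpecIso_hom_fst A A' A'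

lemma prodHom_i2 : prodHom A' ≫ ap (i2 (A := A) A') = snd _ _ := by
  ext1
  exact pullbackSpecIso_hom_snd A A' A'

variable {A'} in
/-- Equality of two morphisms out of `Spec A' ×_A Spec A'` can be tested on `A' ⊗ A'`. -/
lemma prod_ext {X : Over (Spec (CommRingCat.of A))} {f g : sp (algebraMap A A') ⊗ sp (algebraMap A A') ⟶ X}
    (h : CartesianMonoidalCategory.lift (ap (i1 (A := A) A')) (ap (i2 A')) ≫ f =
      CartesianMonoidalCategory.lift (ap (i1 (A := A) A')) (ap (i2 A')) ≫ g) : f = g := by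
  have h1 : prodHom A' ≫ CartesianMonoidalCategory.lift (ap (i1 (A := A) A')) (ap (i2 A')) = 𝟙 _ := by
    ext1
    · rw [Category.assoc, lift_fst, prodHom_i1, Category.id_comp]
    · rw [Category.assoc, lift_snd, prodHom_i2, Category.id_comp]
  rw [← Category.id_comp f, ← Category.id_comp g, ← h1, Category.assoc, Category.assoc, h]

end ring

end K964.AffPt
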