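import Groth.Agent.MultTori.K965.IsGal
import Groth.Agent.MultTori.K964.UC

/-!
# Galois descent of algebras and representability

`A → B` Galois with group `G`, `C` a `B`-algebra with a semilinear action `σ` of `G`, `E = C^G`.
* `mE_bijective`: `E ⊗[A] B ≃ C`.
* `toT ψ : C →+* T ⊗[A] B` for `ψ : E →ₐ[A] T`, and `exists_toT`: every equivariant `B`-linear ring map comes from `E`.
* `exists_of_family`: `T ⊗[A] B ≃ ∏_G T` for a `B`-algebra `T`.
-/

set_option autoImplicit false
universe u
open TensorProduct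

namespace K964.GalRep

open K965.Gal K964.UC

variable {A B : Type u} [CommRing A] [CommRing B] [Algebra A B] {G : Type} [Group G] [Fintype G]
    [MulSemiringAction G B] [SMulCommClass G A B]

/-- dual bases -/
lemma exists_dual (hG : IsGal A B G) [DecidableEq G] : ∃ (n : ℕ) (x y : Fin n → B),
    ∀ g : G, ∑ i, x i * g • y i = if g = 1 then 1 else 0 := by
  obtain ⟨n, x, y, h1, h2⟩ := hG.dual
  refine ⟨n, x, y, fun g => ?_⟩
  split_ifs with hg
  · subst hg; simpa using h1
  · exact h2 g hg

section family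

variable {T : Type u} [CommRing T] [Algebra A T] [Algebra B T] [IsScalarTower A B T]

/-- elements of `T ⊗ B` are determined by the values of `ev ∘ act g` -/
lemma eq_of_ev (hG : IsGal A B G) {z z' : T ⊗[A] B} (h : ∀ g : G, ev T (act A B T g z) = ev T (act A B T g z')) :
    z = z' := by
  classical
  obtain ⟨n, x, y, hd⟩ := exists_dual hG
  have key : ∀ z : T ⊗[A] B, z = ∑ i, (∑ g : G, algebraMap B T (g • y i) * ev T (act A B T g z)) ⊗ₜ[A] x i := by
    intro z
    induction z using TensorProduct.induction_on with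
    | zero => simp
    | tmul t b =>
      have h1 : ∀ i, ∃ a, algebraMap A B a = ∑ g : G, g • (y i * b) := by
        intro i
        apply hG.inv
        intro g
        rw [Finset.smul_sum]
        simp only [← mul_smul]
        exact Fintype.sum_equiv (Equiv.mulLeft g) _ _ (fun h => rfl)
      choose a ha using h1
      have h2 : ∀ i, (∑ g : G, algebraMap B T (g • y i) * ev T (act A B T g (t ⊗ₜ[A] b))) = a i • t := by
        intro i
        rw [Algebra.smul_def, IsScalarTower.algebraMap_apply A B T, ha, map_sum, Finset.sum_mul]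
        refine Finset.sum_congr rfl fun g _ => ?_
        rw [act_tmul, ev_tmul, smul_mul', map_mul]
        ring
      simp only [h2]
      simp only [TensorProduct.smul_tmul, ← TensorProduct.tmul_sum]
      congr 1
      have h3 : ∀ i, a i • x i = ∑ g : G, (x i * g • y i) * g • b := by
        intro i
        rw [Algebra.smul_def, ha, Finset.sum_mul]
        refine Finset.sum_congr rfl fun g _ => ?_
        rw [smul_mul']
        ring
      simp only [h3]
      rw [Finset.sum_comm]
      simp only [← Finset.sum_mul, hd]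
      simp
    | add z z' hz hz' =>
      conv_lhs => rw [hz, hz']
      rw [← Finset.sum_add_distrib]
      refine Finset.sum_congr rfl fun i _ => ?_
      rw [← TensorProduct.add_tmul, ← Finset.sum_add_distrib]
      congr 1
      refine Finset.sum_congr rfl fun g _ => ?_
      rw [map_add, map_add, mul_add]
  rw [key z, key z']
  simp only [h]

/-- the element of `T ⊗ B` with given values -/
lemma exists_of_family (hG : IsGal A B G) (t : G → T) : ∃ z : T ⊗[A] B, ∀ g : G, ev T (act A B T g z) = t g := by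
  classical
  obtain ⟨n, x, y, hd⟩ := exists_dual hG
  refine ⟨∑ h : G, ∑ i, (t h * algebraMap B T (x i)) ⊗ₜ[A] (h⁻¹ • y i), fun g => ?_⟩
  simp only [map_sum, act_tmul, ev_tmul]
  have h1 : ∀ h : G, ∑ i, t h * algebraMap B T (x i) * algebraMap B T (g • h⁻¹ • y i) = if g = h then t h else 0 := by
    intro h
    have h2 : ∀ i, t h * algebraMap B T (x i) * algebraMap B T (g • h⁻¹ • y i) =
        t h * algebraMap B T (x i * (g * h⁻¹) • y i) := by
      intro i
      rw [map_mul, mul_assoc, mul_smul]
    simp only [h2]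
    rw [← Finset.mul_sum, ← map_sum, hd]
    by_cases hgh : g = h
    · subst hgh; simp
    · have : g * h⁻¹ ≠ 1 := fun h3 => hgh (mul_inv_eq_one.1 h3)
      simp [hgh, this]
  simp only [h1]
  simp

end family

section descent

variable {C : Type u} [CommRing C] [Algebra B C] [Algebra A C] [IsScalarTower A B C]
  (σ : G → C →+* C)

/-- the invariants -/
def Einv (hσb : ∀ (g : G) (b : B), σ g (algebraMap B C b) = algebraMap B C (g • b)) : Subalgebra A C where
  carrier := {c | ∀ g, σ g c = c}
  mul_mem' := fun {a b} ha hb g => by rw [map_mul, ha g, hb g]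
  one_mem' := fun g => map_one _
  add_mem' := fun {a b} ha hb g => by rw [map_add, ha g, hb g]
  zero_mem' := fun g => map_zero _
  algebraMap_mem' := fun r g => by
    rw [IsScalarTower.algebraMap_apply A B C, hσb, smul_algebraMap]

variable (hσb : ∀ (g : G) (b : B), σ g (algebraMap B C b) = algebraMap B C (g • b))

/-- `E ⊗ B → C` -/
noncomputable def mE : (Einv (A := A) σ hσb) ⊗[A] B →ₐ[A] C :=
  Algebra.TensorProduct.lift (Einv (A := A) σ hσb).val (IsScalarTower.toAlgHom A B C) (fun _ _ => Commute.all _ _)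

@[simp] lemma mE_tmul (e : Einv (A := A) σ hσb) (b : B) : mE σ hσb (e ⊗ₜ[A] b) = (e : C) * algebraMap B C b := by
  simp [mE]

variable (hσ1 : ∀ c, σ 1 c = c) (hσm : ∀ g h c, σ (g * h) c = σ g (σ h c))

include hσm in
lemma tr_mem (c : C) : ∑ g : G, σ g c ∈ Einv (A := A) σ hσb := by
  intro g
  rw [map_sum]
  simp only [← hσm]
  exact Fintype.sum_equiv (Equiv.mulLeft g) _ _ (fun h => rfl)

include hσ1 hσm in
theorem mE_bijective (hG : IsGal A B G) : Function.Bijective (mE (A := A) σ hσb) := by
  classical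
  obtain ⟨n, x, y, hd⟩ := exists_dual hG
  let k : C → (Einv (A := A) σ hσb) ⊗[A] B :=
    fun c => ∑ i, (⟨_, tr_mem σ hσb hσm (algebraMap B C (y i) * c)⟩ : Einv (A := A) σ hσb) ⊗ₜ[A] x i
  have hk : ∀ c c', k (c + c') = k c + k c' := by
    intro c c'
    simp only [k]
    rw [← Finset.sum_add_distrib]
    refine Finset.sum_congr rfl fun i _ => ?_
    rw [← TensorProduct.add_tmul]
    congr 1
    apply Subtype.ext
    simp only [Subalgebra.coe_add]
    rw [← Finset.sum_add_distrib]
    refine Finset.sum_congr rfl fun g _ => ?_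
    rw [mul_add, map_add]
  have hk0 : k 0 = 0 := by
    simp only [k, mul_zero, map_zero, Finset.sum_const_zero]
    refine Finset.sum_eq_zero fun i _ => ?_
    exact TensorProduct.zero_tmul _ _
  refine ⟨?_, ?_⟩
  · apply Function.LeftInverse.injective (g := k)
    intro z
    induction z using TensorProduct.induction_on with
    | zero => rw [map_zero, hk0]
    | tmul e b =>
      rw [mE_tmul]
      have h1 : ∀ i, ∃ a, algebraMap A B a = ∑ g : G, g • (y i * b) := by
        intro i
        apply hG.inv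
        intro g
        rw [Finset.smul_sum]
        simp only [← mul_smul]
        exact Fintype.sum_equiv (Equiv.mulLeft g) _ _ (fun h => rfl)
      choose a ha using h1
      have h2 : ∀ i, (⟨_, tr_mem σ hσb hσm (algebraMap B C (y i) * ((e : C) * algebraMap B C b))⟩ :
          Einv (A := A) σ hσb) = a i • e := by
        intro i
        apply Subtype.ext
        change ∑ g : G, σ g (algebraMap B C (y i) * ((e : C) * algebraMap B C b)) = a i • (e : C)
        rw [Algebra.smul_def, IsScalarTower.algebraMap_apply A B C, ha, map_sum, Finset.sum_mul]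
        refine Finset.sum_congr rfl fun g _ => ?_
        rw [map_mul, map_mul, hσb, hσb, e.2 g, smul_mul', map_mul]
        ring
      simp only [k, h2]
      simp only [TensorProduct.smul_tmul, ← TensorProduct.tmul_sum]
      congr 1
      have h3 : ∀ i, a i • x i = ∑ g : G, (x i * g • y i) * g • b := by
        intro i
        rw [Algebra.smul_def, ha, Finset.sum_mul]
        refine Finset.sum_congr rfl fun g _ => ?_
        rw [smul_mul']
        ring
      simp only [h3]
      rw [Finset.sum_comm]
      simp only [← Finset.sum_mul, hd]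
      simp
    | add z z' hz hz' => rw [map_add, hk, hz, hz']
  · intro c
    refine ⟨k c, ?_⟩
    simp only [k, map_sum, mE_tmul]
    simp only [Finset.sum_mul, map_mul, hσb]
    rw [Finset.sum_comm]
    have h1 : ∀ g : G, ∑ i, algebraMap B C (g • y i) * σ g c * algebraMap B C (x i) =
        (if g = 1 then 1 else 0) * σ g c := by
      intro g
      have h2 : (if g = 1 then (1 : C) else 0) = algebraMap B C (if g = 1 then 1 else 0) := by
        split_ifs <;> simp
      rw [h2, ← hd g, map_sum, Finset.sum_mul]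
      refine Finset.sum_congr rfl fun i _ => ?_
      rw [map_mul]
      ring
    simp only [h1]
    simp [hσ1]

/-- the isomorphism `E ⊗ B ≃ C` -/
noncomputable def mEquiv (hG : IsGal A B G) : (Einv (A := A) σ hσb) ⊗[A] B ≃ₐ[A] C :=
  AlgEquiv.ofBijective (mE σ hσb) (mE_bijective σ hσb hσ1 hσm hG)

lemma mE_act (g : G) (z : (Einv (A := A) σ hσb) ⊗[A] B) :
    mE σ hσb (act A B _ g z) = σ g (mE σ hσb z) := by
  induction z using TensorProduct.induction_on with
  | zero => simp
  | tmul e b => rw [act_tmul, mE_tmul, mE_tmul, map_mul, hσb, e.2 g]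
  | add x y hx hy => simp only [map_add, hx, hy]

section toT

variable {T : Type u} [CommRing T] [Algebra A T] (hG : IsGal A B G)

/-- the ring map attached to an algebra map on invariants -/
noncomputable def toT (ψ : Einv (A := A) σ hσb →ₐ[A] T) : C →ₐ[A] T ⊗[A] B :=
  (mB B ψ).comp (mEquiv σ hσb hσ1 hσm hG).symm.toAlgHom

lemma toT_mE (ψ : Einv (A := A) σ hσb →ₐ[A] T) (z : (Einv (A := A) σ hσb) ⊗[A] B) :
    toT σ hσb hσ1 hσm hG ψ (mE σ hσb z) = mB B ψ z := by
  change mB B ψ ((mEquiv σ hσb hσ1 hσm hG).symm (mEquiv σ hσb hσ1 hσm hG z)) = _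
  rw [AlgEquiv.symm_apply_apply]

lemma toT_algebraMap (ψ : Einv (A := A) σ hσb →ₐ[A] T) (b : B) :
    toT σ hσb hσ1 hσm hG ψ (algebraMap B C b) = 1 ⊗ₜ[A] b := by
  have h := toT_mE σ hσb hσ1 hσm hG ψ (1 ⊗ₜ[A] b)
  simpa using h

lemma toT_coe (ψ : Einv (A := A) σ hσb →ₐ[A] T) (e : Einv (A := A) σ hσb) :
    toT σ hσb hσ1 hσm hG ψ (e : C) = ψ e ⊗ₜ[A] 1 := by
  have h := toT_mE σ hσb hσ1 hσm hG ψ (e ⊗ₜ[A] 1)
  simpa using h

lemma toT_equivariant (ψ : Einv (A := A) σ hσb →ₐ[A] T) (g : G) (c : C) :
    toT σ hσb hσ1 hσm hG ψ (σ g c) = act A B T g (toT σ hσb hσ1 hσm hG ψ c) := by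
  obtain ⟨z, rfl⟩ := (mE_bijective σ hσb hσ1 hσm hG).2 c
  rw [← mE_act, toT_mE, toT_mE, mB, map_act]

lemma toT_injective {ψ ψ' : Einv (A := A) σ hσb →ₐ[A] T}
    (h : ∀ c, toT σ hσb hσ1 hσm hG ψ c = toT σ hσb hσ1 hσm hG ψ' c) : ψ = ψ' := by
  have := hG.ff
  ext e
  apply includeLeft_injective (A := A) (B := B) (R := T)
  have h1 := h (e : C)
  rw [toT_coe, toT_coe] at h1
  exact h1

lemma exists_toT (f : C →+* T ⊗[A] B) (hfb : ∀ b, f (algebraMap B C b) = 1 ⊗ₜ[A] b)
    (hfe : ∀ (g : G) (c : C), f (σ g c) = act A B T g (f c)) :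
    ∃ ψ : Einv (A := A) σ hσb →ₐ[A] T, ∀ c, toT σ hσb hσ1 hσm hG ψ c = f c := by
  have := hG.ff
  have h1 : ∀ e : Einv (A := A) σ hσb, ∃ t : T, f (e : C) = t ⊗ₜ[A] 1 := by
    intro e
    apply exists_of_act_eq hG
    intro g
    rw [← hfe, e.2 g]
  choose t ht using h1
  have hinj : ∀ s s' : T, s ⊗ₜ[A] (1 : B) = s' ⊗ₜ[A] (1 : B) → s = s' :=
    fun s s' h => includeLeft_injective (A := A) (B := B) (R := T) h
  let ψ : Einv (A := A) σ hσb →ₐ[A] T :=
    { toFun := t
      map_one' := hinj _ _ (by rw [← ht]; exact map_one f)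
      map_mul' := fun a b => hinj _ _ (by
        rw [← ht, Subalgebra.coe_mul, map_mul, ht, ht, Algebra.TensorProduct.tmul_mul_tmul, mul_one])
      map_zero' := hinj _ _ (by rw [← ht, Subalgebra.coe_zero, map_zero, TensorProduct.zero_tmul])
      map_add' := fun a b => hinj _ _ (by rw [← ht, Subalgebra.coe_add, map_add, ht, ht, TensorProduct.add_tmul])
      commutes' := fun r => hinj _ _ (by
        rw [← ht]
        change f (algebraMap A C r) = _
        rw [IsScalarTower.algebraMap_apply A B C, hfb, Algebra.algebraMap_eq_smul_one,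
          Algebra.algebraMap_eq_smul_one, TensorProduct.smul_tmul]) }
  refine ⟨ψ, fun c => ?_⟩
  obtain ⟨z, rfl⟩ := (mE_bijective σ hσb hσ1 hσm hG).2 c
  rw [toT_mE]
  induction z using TensorProduct.induction_on with
  | zero => simp
  | tmul e b =>
    rw [mE_tmul, map_mul, hfb, ht]
    simp [ψ]
  | add x y hx hy => rw [map_add, map_add, map_add, hx, hy]

lemma mB_toT {T' : Type u} [CommRing T'] [Algebra A T'] (θ : T →ₐ[A] T') (ψ : Einv (A := A) σ hσb →ₐ[A] T) (c : C) :
    mB B θ (toT σ hσb hσ1 hσm hG ψ c) = toT σ hσb hσ1 hσm hG (θ.comp ψ) c := by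
  obtain ⟨z, rfl⟩ := (mE_bijective σ hσb hσ1 hσm hG).2 c
  rw [toT_mE, toT_mE, mB_comp]

end toT

end descent

end K964.GalRep
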