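import Groth.Agent.MultTori.K965.Dict
import Groth.Agent.MultTori.K964.AffYon
import Groth.Agent.MultTori.K964.GalRep
import Groth.Agent.MultTori.K964.CharExt
import Mathlib.RepresentationTheory.Basic

/-!
# The torsor attached to a partial character

`M` over `Spec A` with dictionary `D` (characters `Λ`), `q : F → Λ` an equivariant surjection of `G`-modules and
`p : ker q → Bˣ` an equivariant character.  The functor of equivariant characters `n : F → (T ⊗[A] B)ˣ` extending `p`
is an `M`-torsor (`exists_torsor`).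
-/

set_option autoImplicit false
universe u

open CategoryTheory CategoryTheory.Limits MonoidalCategory CartesianMonoidalCategory AlgebraicGeometry
open TensorProduct

namespace K964.TorsY

open K965.Gal K964.UC K964.GalRep K964.CharExt K964.AffPt K964.AffYon K964.Pt
open K965.Pts (sp mp)
open scoped MonObj GrpObj

variable {A B : Type u} [CommRing A] [CommRing B] [Algebra A B] {G : Type} [Group G] [Fintype G]
    [MulSemiringAction G B] [SMulCommClass G A B] {F : Type} [AddCommGroup F] (ρ : Representation ℤ G F)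

/-- Equivariant characters of `F` extending a character of the subgroup `P`. -/
structure IsCh {P : AddSubgroup F} (p : P →+ Additive Bˣ) (T : Type u) [CommRing T] [Algebra A T]
    (n : F →+ Additive (T ⊗[A] B)ˣ) : Prop where
  eqv : ∀ (g : G) (x : F), vl (n (ρ g x)) = act A B T g (vl (n x))
  ext : ∀ x : P, vl (n x) = 1 ⊗ₜ[A] vl (p x)

/-- There is a cover over which an equivariant character extending `p` exists. -/
theorem exists_cover (hG : IsGal A B G) [AddGroup.FG F] {P : AddSubgroup F} (hP : ∀ g, ∀ x ∈ P, ρ g x ∈ P)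
    (p : P →+ Additive Bˣ) (hp : ∀ (g : G) (x : P), vl (p ⟨ρ g x, hP g x x.2⟩) = g • vl (p x)) :
    ∃ (T : Type u) (_ : CommRing T) (_ : Algebra A T), Module.FaithfullyFlat A T ∧ Algebra.FinitePresentation A T ∧
      ∃ n : F →+ Additive (T ⊗[A] B)ˣ, IsCh ρ p T n := by
  obtain ⟨T, _, _, hfin, hfp, hff, n₀, hn₀⟩ := exists_extend P B p
  let _ : Algebra A T := ((algebraMap B T).comp (algebraMap A B)).toAlgebra
  have : IsScalarTower A B T := IsScalarTower.of_algebraMap_eq (fun _ => rfl)
  have := hG.ff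
  have := hG.et
  refine ⟨T, inferInstance, inferInstance, Module.FaithfullyFlat.trans A B T,
    Algebra.FinitePresentation.trans A B T, ?_⟩
  choose z hz using fun x : F => exists_of_family (T := T) hG (fun g => vl (n₀ (ρ g x)))
  have hz0 : z 0 = 1 := by
    apply eq_of_ev hG
    intro g
    rw [hz, map_zero, map_zero, vl_zero, map_one, map_one]
  have hzadd : ∀ x y, z (x + y) = z x * z y := by
    intro x y
    apply eq_of_ev hG
    intro g
    rw [hz, map_add, map_add, vl_add, map_mul, map_mul, hz, hz]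
  let n : F →+ Additive (T ⊗[A] B)ˣ :=
    { toFun := fun x => Additive.ofMul ⟨z x, z (-x), by rw [← hzadd, add_neg_cancel, hz0],
        by rw [← hzadd, neg_add_cancel, hz0]⟩
      map_zero' := addUnits_ext hz0
      map_add' := fun x y => addUnits_ext (hzadd x y) }
  have hn : ∀ x, vl (n x) = z x := fun x => rfl
  refine ⟨n, ⟨fun g x => ?_, fun x => ?_⟩⟩
  · rw [hn, hn]
    apply eq_of_ev hG
    intro h
    rw [hz, act_act, hz, map_mul, Module.End.mul_apply]
  · rw [hn]
    apply eq_of_ev hG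
    intro h
    rw [hz, act_tmul, ev_tmul, one_mul, ← hp]
    exact congrArg vl (hn₀ ⟨ρ h x, hP h x x.2⟩)

/-- Representability of the functor of equivariant characters extending `p`. -/
theorem exists_rep (hG : IsGal A B G) {P : AddSubgroup F} (hP : ∀ g, ∀ x ∈ P, ρ g x ∈ P)
    (p : P →+ Additive Bˣ) (hp : ∀ (g : G) (x : P), vl (p ⟨ρ g x, hP g x x.2⟩) = g • vl (p x)) :
    ∃ (E : Type u) (_ : CommRing E) (_ : Algebra A E)
      (pt : ∀ (T : Type u) [CommRing T] [Algebra A T], (sp (algebraMap A T) ⟶ sp (algebraMap A E)) →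
        (F →+ Additive (T ⊗[A] B)ˣ)),
      (∀ (T : Type u) [CommRing T] [Algebra A T] (y : sp (algebraMap A T) ⟶ sp (algebraMap A E)),
        IsCh ρ p T (pt T y)) ∧
      (∀ (T : Type u) [CommRing T] [Algebra A T] (n : F →+ Additive (T ⊗[A] B)ˣ), IsCh ρ p T n →
        ∃ y, pt T y = n) ∧
      (∀ (T : Type u) [CommRing T] [Algebra A T], Function.Injective (pt T)) ∧
      (∀ (T T' : Type u) [CommRing T] [Algebra A T] [CommRing T'] [Algebra A T'] (θ : T →ₐ[A] T')
        (y : sp (algebraMap A T) ⟶ sp (algebraMap A E)) (x : F),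
        vl (pt T' (ap θ ≫ y) x) = mB B θ (vl (pt T y x))) := by
  obtain ⟨C, _, _, κ, hκ, hex, hun⟩ := exists_univ P p
  let _ : Algebra A C := ((algebraMap B C).comp (algebraMap A B)).toAlgebra
  have : IsScalarTower A B C := IsScalarTower.of_algebraMap_eq (fun _ => rfl)
  have h1 : ∀ g : G, ∃ h : C →+* C, (∀ b, h (algebraMap B C b) = algebraMap B C (g • b)) ∧
      ∀ x, um h (κ x) = κ (ρ g x) := by
    intro g
    obtain ⟨h, hb, hx⟩ := hex C ((algebraMap B C).comp (MulSemiringAction.toRingHom G B g))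
      (κ.comp (ρ g).toAddMonoidHom) (by
        intro x
        apply addUnits_ext
        have h2 := congrArg vl (hκ ⟨ρ g x, hP g x x.2⟩)
        rw [vl_um, hp] at h2
        exact h2)
    exact ⟨h, hb, hx⟩
  choose σ hσb hσκ using h1
  have hσκ' : ∀ g x, σ g (vl (κ x)) = vl (κ (ρ g x)) := fun g x => congrArg vl (hσκ g x)
  have hσ1 : ∀ c, σ 1 c = c := by
    have h2 : σ 1 = RingHom.id C := hun C _ _ (fun b => by rw [hσb, one_smul]; rfl) (fun x => by
      apply addUnits_ext
      rw [vl_um, vl_um, hσκ', map_one]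
      rfl)
    intro c
    rw [h2]; rfl
  have hσm : ∀ g h c, σ (g * h) c = σ g (σ h c) := by
    intro g h
    have h2 : σ (g * h) = (σ g).comp (σ h) := hun C _ _ (fun b => by
      rw [hσb, RingHom.comp_apply, hσb, hσb, mul_smul]) (fun x => by
      apply addUnits_ext
      rw [vl_um, vl_um, hσκ', RingHom.comp_apply, hσκ', hσκ', map_mul]
      rfl)
    intro c
    rw [h2]; rfl
  let ptψ : ∀ (T : Type u) [CommRing T] [Algebra A T], (Einv (A := A) σ hσb →ₐ[A] T) → (F →+ Additive (T ⊗[A] B)ˣ) :=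
    fun T _ _ ψ => (um (toT σ hσb hσ1 hσm hG ψ : C →+* T ⊗[A] B)).comp κ
  have hptψ : ∀ (T : Type u) [CommRing T] [Algebra A T] (ψ : Einv (A := A) σ hσb →ₐ[A] T) (x : F),
      vl (ptψ T ψ x) = toT σ hσb hσ1 hσm hG ψ (vl (κ x)) := fun T _ _ ψ x => rfl
  let ψy : ∀ (T : Type u) [CommRing T] [Algebra A T],
      (sp (algebraMap A T) ⟶ sp (algebraMap A (Einv (A := A) σ hσb))) → (Einv (A := A) σ hσb →ₐ[A] T) :=
    fun T _ _ y => (exists_ap y).choose
  have hψy : ∀ (T : Type u) [CommRing T] [Algebra A T]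
      (y : sp (algebraMap A T) ⟶ sp (algebraMap A (Einv (A := A) σ hσb))), y = ap (ψy T y) :=
    fun T _ _ y => (exists_ap y).choose_spec
  have hψy' : ∀ (T : Type u) [CommRing T] [Algebra A T] (ψ : Einv (A := A) σ hσb →ₐ[A] T), ψy T (ap ψ) = ψ :=
    fun T _ _ ψ => ap_injective (hψy T (ap ψ)).symm
  refine ⟨Einv (A := A) σ hσb, inferInstance, inferInstance, fun T _ _ y => ptψ T (ψy T y), ?_, ?_, ?_, ?_⟩
  · intro T _ _ y
    refine ⟨fun g x => ?_, fun x => ?_⟩
    · rw [hptψ, hptψ, ← hσκ', toT_equivariant]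
    · rw [hptψ]
      have h2 := congrArg vl (hκ x)
      rw [vl_um] at h2
      rw [h2, toT_algebraMap]
  · intro T _ _ n hn
    obtain ⟨h, hb, hx⟩ := hex (T ⊗[A] B) (Algebra.TensorProduct.includeRight : B →ₐ[A] T ⊗[A] B) n (fun x => by
      apply addUnits_ext
      rw [hn.ext]
      rfl)
    have hx' : ∀ x, h (vl (κ x)) = vl (n x) := fun x => congrArg vl (hx x)
    obtain ⟨ψ, hψ⟩ := exists_toT σ hσb hσ1 hσm hG h hb (by
      intro g
      have h2 : h.comp (σ g) = (act A B T g : T ⊗[A] B →+* T ⊗[A] B).comp h := hun (T ⊗[A] B) _ _ (fun b => by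
        rw [RingHom.comp_apply, hσb, hb, RingHom.comp_apply, hb]
        exact (act_tmul g 1 b).symm) (fun x => by
        apply addUnits_ext
        rw [vl_um, vl_um, RingHom.comp_apply, hσκ', hx', RingHom.comp_apply, hx']
        exact hn.eqv g x)
      intro c
      exact congr($h2 c))
    refine ⟨ap ψ, ?_⟩
    ext1 x
    apply addUnits_ext
    change vl (ptψ T (ψy T (ap ψ)) x) = _
    rw [hψy', hptψ, hψ, hx']
  · intro T _ _ y y' hyy
    rw [hψy T y, hψy T y']
    congr 1
    apply toT_injective σ hσb hσ1 hσm hG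
    have h2 : (toT σ hσb hσ1 hσm hG (ψy T y) : C →+* T ⊗[A] B) = toT σ hσb hσ1 hσm hG (ψy T y') :=
      hun _ _ _ (fun b => by
        exact (toT_algebraMap σ hσb hσ1 hσm hG (ψy T y) b).trans (toT_algebraMap σ hσb hσ1 hσm hG (ψy T y') b).symm)
        (fun x => DFunLike.congr_fun hyy x)
    intro c
    exact congr($h2 c)
  · intro T T' _ _ _ _ θ y x
    rw [hptψ, hptψ, mB_toT]
    have h2 : ap θ ≫ y = ap (θ.comp (ψy T y)) := by
      rw [ap_comp, ← hψy]
    rw [h2, hψy']

variable {M : Over (Spec (CommRingCat.of A))} [GrpObj M] {Λ : Type} [AddCommGroup Λ] [DistribMulAction G Λ]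

omit [Fintype G] in
lemma ch_one (D : K965.Dict A B G M Λ) (T : Type u) [CommRing T] [Algebra A T] :
    D.ch T (1 : sp (algebraMap A T) ⟶ M) = 0 := by
  have h := D.ch_mul T 1 1
  rw [mul_one] at h
  ext1 m
  have h1 := DFunLike.congr_fun h m
  rw [AddMonoidHom.add_apply] at h1
  exact (left_eq_add.1 h1)

omit [Fintype G] in
lemma ch_nat' (D : K965.Dict A B G M Λ) {T T' : Type u} [CommRing T] [Algebra A T] [CommRing T'] [Algebra A T']
    (θ : T →ₐ[A] T') (x : sp (algebraMap A T) ⟶ M) (m : Λ) :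
    vl (D.ch T' (ap θ ≫ x) m) = mB B θ (vl (D.ch T x m)) :=
  congrArg Units.val (D.ch_nat T T' θ x m)

/-- **The torsor attached to a partial character.** -/
theorem exists_torsor (hG : IsGal A B G) (D : K965.Dict A B G M Λ) [IsAffine M.left] [AddGroup.FG F]
    (q : F →+ Λ) (hq : Function.Surjective q) (hqe : ∀ g x, q (ρ g x) = g • q x)
    (p : q.ker →+ Additive Bˣ)
    (hp : ∀ (g : G) (x : q.ker) (h : ρ g x ∈ q.ker), vl (p ⟨ρ g x, h⟩) = g • vl (p x)) :
    ∃ (Y : NonAbH1.TorsorSch M Scheme.fppfPrecoverage)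
      (pt : ∀ (T : Type u) [CommRing T] [Algebra A T], (sp (algebraMap A T) ⟶ Y.X) → (F →+ Additive (T ⊗[A] B)ˣ)),
      (∀ (T : Type u) [CommRing T] [Algebra A T] (y : sp (algebraMap A T) ⟶ Y.X), IsCh ρ p T (pt T y)) ∧
      (∀ (T : Type u) [CommRing T] [Algebra A T] (n : F →+ Additive (T ⊗[A] B)ˣ), IsCh ρ p T n →
        ∃ y, pt T y = n) ∧
      (∀ (T : Type u) [CommRing T] [Algebra A T], Function.Injective (pt T)) ∧
      (∀ (T T' : Type u) [CommRing T] [Algebra A T] [CommRing T'] [Algebra A T'] (θ : T →ₐ[A] T')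
        (y : sp (algebraMap A T) ⟶ Y.X) (x : F), vl (pt T' (ap θ ≫ y) x) = mB B θ (vl (pt T y x))) ∧
      (∀ (T : Type u) [CommRing T] [Algebra A T] (m : sp (algebraMap A T) ⟶ M) (y : sp (algebraMap A T) ⟶ Y.X),
        pt T (sm Y.act m y) = (D.ch T m).comp q + pt T y) := by
  have hP : ∀ g, ∀ x ∈ q.ker, ρ g x ∈ q.ker := by
    intro g x hx
    rw [AddMonoidHom.mem_ker] at hx ⊢
    rw [hqe, hx, smul_zero]
  have hp' : ∀ (g : G) (x : q.ker), vl (p ⟨ρ g x, hP g x x.2⟩) = g • vl (p x) := fun g x => hp g x _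
  obtain ⟨E, _, _, pt, hpt, hsurj, hinj, hnat⟩ := exists_rep ρ hG hP p hp'
  have hch : ∀ (T : Type u) [CommRing T] [Algebra A T] (m : sp (algebraMap A T) ⟶ M)
      (n : F →+ Additive (T ⊗[A] B)ˣ), IsCh ρ p T n → IsCh ρ p T ((D.ch T m).comp q + n) := by
    intro T _ _ m n hn
    refine ⟨fun g x => ?_, fun x => ?_⟩
    · rw [AddMonoidHom.add_apply, AddMonoidHom.add_apply, vl_add, vl_add, map_mul, hn.eqv, AddMonoidHom.comp_apply,
        AddMonoidHom.comp_apply, hqe]
      congr 1
      exact D.ch_smul T m g (q x)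
    · have hx : q x = 0 := x.2
      rw [AddMonoidHom.add_apply, vl_add, hn.ext, AddMonoidHom.comp_apply, hx, map_zero, vl_zero, one_mul]
  choose s hs using fun (T : Type u) (_ : CommRing T) (_ : Algebra A T) (m : sp (algebraMap A T) ⟶ M)
    (y : sp (algebraMap A T) ⟶ sp (algebraMap A E)) => hsurj T _ (hch T m _ (hpt T y))
  obtain ⟨a, ha⟩ := exists_action (G := M) (X := sp (algebraMap A E)) (fun T _ _ m y => s T _ _ m y) (by
      intro T T' _ _ _ _ θ m y
      apply hinj
      ext1 x
      apply addUnits_ext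
      rw [hnat, hs, hs, AddMonoidHom.add_apply, AddMonoidHom.add_apply, vl_add, vl_add, map_mul, hnat,
        AddMonoidHom.comp_apply, AddMonoidHom.comp_apply, ch_nat']) (by
      intro T _ _ y
      apply hinj
      rw [hs, ch_one, AddMonoidHom.zero_comp]
      ext1 x
      exact zero_add _) (by
      intro T _ _ m m' y
      apply hinj
      rw [hs, hs, hs, D.ch_mul, AddMonoidHom.add_comp]
      ext1 x
      exact _root_.add_assoc _ _ _)
  have hact : ∀ (T : Type u) [CommRing T] [Algebra A T] (m : sp (algebraMap A T) ⟶ M)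
      (y : sp (algebraMap A T) ⟶ sp (algebraMap A E)), pt T (sm a m y) = (D.ch T m).comp q + pt T y := by
    intro T _ _ m y
    rw [ha, hs]
  have hpair : ∀ {U V : Over (Spec (CommRingCat.of A))} (T : Type u) [CommRing T] [Algebra A T]
      (x : sp (algebraMap A T) ⟶ U ⊗ V), x = CartesianMonoidalCategory.lift (x ≫ fst U V) (x ≫ snd U V) := by
    intro U V T _ _ x
    ext1 <;> simp
  have hps : NonAbH1.IsPseudoTorsorSch a := by
    have hl : ∀ (T : Type u) [CommRing T] [Algebra A T] (m : sp (algebraMap A T) ⟶ M)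
        (y : sp (algebraMap A T) ⟶ sp (algebraMap A E)),
        CartesianMonoidalCategory.lift m y ≫ CartesianMonoidalCategory.lift a.act (snd M (sp (algebraMap A E))) =
          CartesianMonoidalCategory.lift (sm a m y) y := by
      intro T _ _ m y
      rw [comp_lift, lift_snd]
      rfl
    refine isIso_of_pts _ ?_ ?_
    · intro T _ _ x y hxy
      rw [hpair T x, hpair T y, hl, hl] at hxy
      rw [hpair T x, hpair T y]
      have h1 := congrArg (fun z => z ≫ fst _ _) hxy
      have h2 := congrArg (fun z => z ≫ snd _ _) hxy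
      simp only [lift_fst, lift_snd] at h1 h2
      rw [h2]
      congr 1
      rw [h2] at h1
      have h3 := congrArg (pt T) h1
      rw [hact, hact, add_left_inj] at h3
      apply D.ch_inj
      ext1 m
      obtain ⟨x', rfl⟩ := hq m
      exact DFunLike.congr_fun h3 x'
    · intro T _ _ y
      let y₁ := y ≫ fst _ _
      let y₂ := y ≫ snd _ _
      have h1 : ∀ x ∈ q.ker, (pt T y₁ - pt T y₂) x = 0 := by
        intro x hx
        rw [AddMonoidHom.sub_apply, sub_eq_zero]
        apply addUnits_ext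
        exact ((hpt T y₁).ext ⟨x, hx⟩).trans ((hpt T y₂).ext ⟨x, hx⟩).symm
      let χ : Λ →+ Additive (T ⊗[A] B)ˣ :=
        { toFun := fun m => (pt T y₁ - pt T y₂) (hq m).choose
          map_zero' := h1 _ (hq 0).choose_spec
          map_add' := fun m m' => by
            rw [← sub_eq_zero, ← map_add, ← map_sub]
            apply h1
            rw [AddMonoidHom.mem_ker, map_sub, map_add, (hq _).choose_spec, (hq _).choose_spec,
              (hq _).choose_spec, sub_self] }
      have hχ : ∀ x, χ (q x) = (pt T y₁ - pt T y₂) x := by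
        intro x
        change (pt T y₁ - pt T y₂) (hq (q x)).choose = _
        rw [← sub_eq_zero, ← map_sub]
        apply h1
        rw [AddMonoidHom.mem_ker, map_sub, (hq _).choose_spec, sub_self]
      have hχ' : ∀ x, χ (q x) + pt T y₂ x = pt T y₁ x := by
        intro x
        rw [hχ, AddMonoidHom.sub_apply, sub_add_cancel]
      obtain ⟨m, hm⟩ := D.ch_surj T χ (by
        intro g m
        obtain ⟨x, rfl⟩ := hq m
        rw [← hqe]
        have e1 := congrArg vl (hχ' (ρ g x))
        have e2 := congrArg (fun z => act A B T g (vl z)) (hχ' x)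
        beta_reduce at e2
        rw [vl_add, (hpt T y₁).eqv, (hpt T y₂).eqv] at e1
        rw [vl_add, map_mul, ← e1] at e2
        have hu : IsUnit (act A B T g (vl (pt T y₂ x))) := ((pt T y₂ x).toMul.isUnit).map _
        exact (hu.mul_right_cancel e2).symm)
      refine ⟨CartesianMonoidalCategory.lift m y₂, ?_⟩
      rw [hl, hpair T y]
      congr 1
      apply hinj
      rw [hact, hm]
      ext1 x
      exact hχ' x
  obtain ⟨T, _, _, hff, hfp, n, hn⟩ := exists_cover ρ hG hP p hp'
  obtain ⟨y, hy⟩ := hsurj T n hn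
  have hlt : NonAbH1.IsLocallyTrivialFor Scheme.fppfPrecoverage (sp (algebraMap A E)) := by
    obtain ⟨R, hR, hsec⟩ := locTriv_sp (A := A) T
    refine ⟨R, hR, fun S' g hg => ?_⟩
    obtain ⟨t, ht⟩ := hsec g hg
    refine ⟨t ≫ y.left, ?_⟩
    rw [Category.assoc]
    have := Over.w y
    rw [this]
    exact ht
  exact ⟨⟨sp (algebraMap A E), a, hps, hlt⟩, pt, hpt, hsurj, hinj, hnat, hact⟩

end K964.TorsY
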