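import Groth.Agent.MultTori.K965.EqRep
import Groth.Agent.MultTori.K965.Alpha
import Groth.Agent.MultTori.K964.TorsY

/-!
# Characters of points from a dictionary, over rings under `C`

`chD`: for `s : C →+* R`, the character `Λ →+ Rˣ` of a point with values in `R`.
`trivial_of_fix`: an element of `G` which is induced by an automorphism fixing another splitting acts trivially.
-/

set_option autoImplicit false
universe u

open CategoryTheory CategoryTheory.Limits MonoidalCategory CartesianMonoidalCategory AlgebraicGeometry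
open TensorProduct

namespace K964.ChD

open K965.Gal K965.EqRep K965.Pts K965.Alpha K965.Dic
open scoped MonObj GrpObj

variable {k C : Type u} [CommRing k] [CommRing C] [Algebra k C] {G : Type} [Group G]
  [MulSemiringAction G C] [SMulCommClass G k C]
  {M : Over (Spec (CommRingCat.of k))} [GrpObj M] {Λ : Type} [AddCommGroup Λ] [DistribMulAction G Λ]
  (D : K965.Dict k C G M Λ) {R : Type u} [CommRing R]

/-- the character of a point, over a ring under `C` -/
noncomputable def chD (s : C →+* R) {φ : k →+* R} (h : s.comp (algebraMap k C) = φ) (x : sp φ ⟶ M) :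
    Λ →+ Additive Rˣ :=
  letI : Algebra k R := φ.toAlgebra
  (K965.Pts.um (evs s h : R ⊗[k] C →+* R)).comp (D.ch R x)

lemma chD_mul (s : C →+* R) {φ : k →+* R} (h : s.comp (algebraMap k C) = φ) (x y : sp φ ⟶ M) :
    chD D s h (x * y) = chD D s h x + chD D s h y := by
  let _ : Algebra k R := φ.toAlgebra
  ext1 m
  change K965.Pts.um _ (D.ch R (x * y) m) = K965.Pts.um _ (D.ch R x m) + K965.Pts.um _ (D.ch R y m)
  rw [D.ch_mul, ← map_add]
  rfl

lemma chD_inj [Fintype G] (hG : IsGal k C G) (s : C →+* R) {φ : k →+* R} (h : s.comp (algebraMap k C) = φ) :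
    Function.Injective (chD D s h) := by
  let _ : Algebra k R := φ.toAlgebra
  intro x y hxy
  apply D.ch_inj
  have h1 := (crHom_bijective (G := G) (N := Λ) hG s h).1
    (a₁ := ⟨D.ch R x, fun g m => addUnits_ext (D.ch_smul R x g m)⟩)
    (a₂ := ⟨D.ch R y, fun g m => addUnits_ext (D.ch_smul R y g m)⟩) hxy
  exact congrArg Subtype.val h1

lemma chD_surj [Fintype G] (hG : IsGal k C G) (s : C →+* R) {φ : k →+* R} (h : s.comp (algebraMap k C) = φ) :
    Function.Surjective (chD D s h) := by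
  let _ : Algebra k R := φ.toAlgebra
  intro χ
  obtain ⟨⟨χ', hχ'⟩, h1⟩ := (crHom_bijective (G := G) (N := Λ) hG s h).2 χ
  obtain ⟨x, hx⟩ := D.ch_surj R χ' (fun g m => by rw [hχ' g m]; rfl)
  refine ⟨x, ?_⟩
  rw [← h1]
  change (K965.Pts.um _).comp (D.ch R x) = (K965.Pts.um _).comp χ'
  rw [hx]

lemma chD_mp {R' : Type u} [CommRing R'] (s : C →+* R) {φ : k →+* R} (h : s.comp (algebraMap k C) = φ)
    {s' : C →+* R'} {φ' : k →+* R'} (ψ : R →+* R') (hs : ψ.comp s = s') (h' : s'.comp (algebraMap k C) = φ')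
    (hφ : ψ.comp φ = φ') (x : sp φ ⟶ M) :
    chD D s' h' (mp ψ hφ ≫ x) = (K965.Pts.um ψ).comp (chD D s h x) := by
  subst hs hφ
  let _ : Algebra k R := φ.toAlgebra
  let _ : Algebra k R' := (ψ.comp φ).toAlgebra
  let ψ' : R →ₐ[k] R' := { ψ with commutes' := fun a => rfl }
  ext1 m
  apply addUnits_ext
  have h1 := congrArg Units.val (D.ch_nat R R' ψ' x m)
  change evs (ψ.comp s) h' ((D.ch R' (mp ψ _ ≫ x) m).toMul : R' ⊗[k] C) = ψ (evs s h ((D.ch R x m).toMul : R ⊗[k] C))
  have h2 := evs_mB (R := R) (R' := R') s h ψ' (ψ.comp s) h' rfl ((D.ch R x m).toMul : R ⊗[k] C)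
  exact (congrArg (evs (ψ.comp s) h') h1).trans h2

lemma chD_smul (s : C →+* R) {φ : k →+* R} (h : s.comp (algebraMap k C) = φ) (g : G)
    (h' : (s.comp (gr k g)).comp (algebraMap k C) = φ) (x : sp φ ⟶ M) (m : Λ) :
    chD D (s.comp (gr k g)) h' x m = chD D s h x (g • m) := by
  let _ : Algebra k R := φ.toAlgebra
  apply addUnits_ext
  change evs (s.comp (gr k g)) h' ((D.ch R x m).toMul : R ⊗[k] C) = evs s h ((D.ch R x (g • m)).toMul : R ⊗[k] C)
  rw [D.ch_smul]
  generalize ((D.ch R x m).toMul : R ⊗[k] C) = z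
  induction z using TensorProduct.induction_on with
  | zero => simp
  | tmul r c =>
    rw [act_tmul, evs_tmul, evs_tmul]
    rfl
  | add x y hx hy => simp only [map_add, hx, hy]

include D in
/-- **Two splittings.** An element of `G` induced by an endomorphism of `Ω` fixing the second splitting acts trivially. -/
theorem trivial_of_fix [Fintype G] (hG : IsGal k C G) {Ω : Type u} [CommRing Ω] [Nontrivial Ω]
    (hΩ : ∀ x : Ω, x * x = x → x = 0 ∨ x = 1) {φ : k →+* Ω} (s : C →+* Ω) (hs : s.comp (algebraMap k C) = φ)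
    {L' : Type u} [CommRing L'] (a : k →+* L') {Λ' : Type} [AddCommGroup Λ']
    (e : Grp.mk (Red.bc (Spec.map (CommRingCat.ofHom a)) M) ≅ Grp.mk (Red.DS (Spec (CommRingCat.of L')) Λ'))
    (s' : L' →+* Ω) (hs' : s'.comp a = φ) (g : G) (γ : Ω →+* Ω) (hγ : γ.comp s = s.comp (gr k g))
    (hγ' : γ.comp s' = s') (m : Λ) : g • m = m := by
  have hsj : ∀ {R : Type u} [CommRing R] (j : Ω →+* R), (j.comp s).comp (algebraMap k C) = j.comp φ := fun j => by
    rw [RingHom.comp_assoc, hs]
  have hsj' : ∀ {R : Type u} [CommRing R] (j : Ω →+* R), (j.comp s').comp a = j.comp φ := fun j => by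
    rw [RingHom.comp_assoc, hs']
  obtain ⟨β, hβ⟩ := exists_of_natural (B := Ω) (M := Λ') (N := Λ) hΩ
    (fun {R} _ j χ' => chD D (j.comp s) (hsj j)
      (Function.surjInv (ch_surjective a e (j.comp s') (hsj' j)) χ'))
    (by
      intro R _ j χ χ'
      rw [← chD_mul]
      congr 1
      apply ch_injective a e (j.comp s') (hsj' j)
      rw [K965.Pts.ch_mul]
      simp only [Function.surjInv_eq])
    (by
      intro R R' _ _ j ψ χ
      have h0 := chD_mp D (j.comp s) (hsj j) (s' := (ψ.comp j).comp s) ψ rfl (hsj (ψ.comp j)) rfl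
        (Function.surjInv (ch_surjective a e (j.comp s') (hsj' j)) χ)
      beta_reduce
      rw [← h0]
      congr 1
      apply ch_injective a e ((ψ.comp j).comp s') (hsj' (ψ.comp j))
      have h1 := ch_mp a e (j.comp s') (hsj' j) ψ
        (s' := (ψ.comp j).comp s') rfl (hsj' (ψ.comp j)) rfl
        (Function.surjInv (ch_surjective a e (j.comp s') (hsj' j)) χ)
      refine (Function.surjInv_eq (ch_surjective a e ((ψ.comp j).comp s') (hsj' (ψ.comp j))) _).trans ?_
      refine Eq.trans ?_ h1.symm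
      exact congrArg ((K965.Pts.um ψ).comp) (Function.surjInv_eq (ch_surjective a e (j.comp s') (hsj' j)) χ).symm)
  have hβ' : ∀ {R : Type u} [CommRing R] (j : Ω →+* R) {φ₁ : k →+* R} {s₁ : C →+* R} {s'₁ : L' →+* R}
      (e₁ : j.comp s = s₁) (e₂ : j.comp s' = s'₁) (h₁ : s₁.comp (algebraMap k C) = φ₁) (h₂ : s'₁.comp a = φ₁)
      (x : sp φ₁ ⟶ M), chD D s₁ h₁ x = (ch a e s'₁ h₂ x).comp β := by
    intro R _ j φ₁ s₁ s'₁ e₁ e₂ h₁ h₂ x
    subst e₁ e₂
    obtain rfl : j.comp φ = φ₁ := by rw [← h₁, hsj]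
    rw [← hβ j]
    congr 1
    apply ch_injective a e (j.comp s') (hsj' j)
    simp only [Function.surjInv_eq]
  -- compare over `Ω` twisted by `γ`
  have key : ∀ {R : Type u} [CommRing R] (j : Ω →+* R) (x : sp (j.comp φ) ⟶ M) (m : Λ),
      chD D (j.comp s) (hsj j) x (g • m) = chD D (j.comp s) (hsj j) x m := by
    intro R _ j x m
    have e1 : (j.comp γ).comp s = (j.comp s).comp (gr k g) := by
      rw [RingHom.comp_assoc, hγ, RingHom.comp_assoc]
    have e2 : (j.comp γ).comp s' = j.comp s' := by rw [RingHom.comp_assoc, hγ']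
    have hg : ((j.comp s).comp (gr k g)).comp (algebraMap k C) = j.comp φ := by
      rw [← e1, hsj, RingHom.comp_assoc, ← hs']
      congr 1
      rw [← RingHom.comp_assoc, hγ']
    rw [← chD_smul D (j.comp s) (hsj j) g hg, hβ' (j.comp γ) e1 e2 hg (hsj' j) x, hβ' j rfl rfl (hsj j) (hsj' j) x]
  obtain ⟨x, hx⟩ := chD_surj D hG ((MonoidAlgebra.singleOneRingHom : Ω →+* MonoidAlgebra Ω (Multiplicative Λ)).comp s)
    (hsj _) (uc Ω Λ)
  have h4 := key (MonoidAlgebra.singleOneRingHom : Ω →+* MonoidAlgebra Ω (Multiplicative Λ)) x m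
  rw [hx] at h4
  exact uc_injective h4

end K964.ChD
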