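import Mathlib.RepresentationTheory.Basic
import Mathlib.GroupTheory.Finiteness
import Mathlib.RingTheory.Finiteness.Finsupp

/-!
# Free `ℤ[G]`-modules
-/

set_option autoImplicit false
universe u

namespace K964.FreeG

variable {G : Type} [Group G] {I : Type}

/-- the free module on `I` -/
noncomputable def reg (G I : Type) [Group G] : Representation ℤ G ((G × I) →₀ ℤ) where
  toFun g := Finsupp.lmapDomain ℤ ℤ (fun x => (g * x.1, x.2))
  map_one' := by
    ext1 x
    ext1
    change Finsupp.mapDomain _ (Finsupp.single _ _) = Finsupp.single _ _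
    rw [Finsupp.mapDomain_single, one_mul]
  map_mul' g h := by
    ext1 x
    rw [Module.End.mul_eq_comp, LinearMap.comp_assoc, LinearMap.ext_iff]
    intro n
    simp [Finsupp.lmapDomain_apply, Finsupp.mapDomain_single, mul_assoc]

@[simp] lemma reg_single (g h : G) (i : I) (n : ℤ) :
    reg G I g (Finsupp.single (h, i) n) = Finsupp.single (g * h, i) n := by
  change Finsupp.mapDomain _ _ = _
  rw [Finsupp.mapDomain_single]

omit [Group G] in
lemma addHom_ext' {W : Type u} [AddCommGroup W] {f f' : ((G × I) →₀ ℤ) →+ W}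
    (h : ∀ g i, f (Finsupp.single (g, i) 1) = f' (Finsupp.single (g, i) 1)) : f = f' := by
  refine Finsupp.addHom_ext fun x n => ?_
  have h1 : Finsupp.single x n = n • Finsupp.single x (1 : ℤ) := by
    rw [Finsupp.smul_single, smul_eq_mul, mul_one]
  rw [h1, map_zsmul, map_zsmul, h]

theorem exists_hom {W : Type u} [AddCommGroup W] (α : G → W →+ W) (h1 : ∀ w, α 1 w = w)
    (hm : ∀ g h w, α (g * h) w = α g (α h w)) (w : I → W) :
    ∃ f : ((G × I) →₀ ℤ) →+ W, (∀ i, f (Finsupp.single (1, i) 1) = w i) ∧ ∀ g x, f (reg G I g x) = α g (f x) := by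
  let f : ((G × I) →₀ ℤ) →+ W := Finsupp.liftAddHom (fun x => zmultiplesHom W (α x.1 (w x.2)))
  have hf : ∀ g i, f (Finsupp.single (g, i) 1) = α g (w i) := fun g i => by simp [f]
  refine ⟨f, fun i => by rw [hf, h1], fun g x => ?_⟩
  have h2 : f.comp (reg G I g).toAddMonoidHom = (α g).comp f := by
    apply addHom_ext'
    intro h i
    change f (reg G I g _) = α g (f _)
    rw [reg_single, hf, hf, hm]
  exact DFunLike.congr_fun h2 x


theorem hom_ext {W : Type u} [AddCommGroup W] (α : G → W →+ W) {f f' : ((G × I) →₀ ℤ) →+ W}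
    (hf : ∀ g x, f (reg G I g x) = α g (f x)) (hf' : ∀ g x, f' (reg G I g x) = α g (f' x))
    (h : ∀ i, f (Finsupp.single (1, i) 1) = f' (Finsupp.single (1, i) 1)) : f = f' := by
  apply addHom_ext'
  intro g i
  have h1 : (Finsupp.single (g, i) 1 : (G × I) →₀ ℤ) = reg G I g (Finsupp.single (1, i) 1) := by
    rw [reg_single, mul_one]
  rw [h1, hf, hf', h]

/-- every finitely generated module is a quotient of a free module of finite rank -/
theorem exists_surj (Λ : Type) [AddCommGroup Λ] [DistribMulAction G Λ] [h : AddGroup.FG Λ] :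
    ∃ (I : Type) (_ : Finite I) (q : ((G × I) →₀ ℤ) →+ Λ), Function.Surjective q ∧
      ∀ g x, q (reg G I g x) = g • q x := by
  obtain ⟨S, hS⟩ := AddGroup.fg_iff'.1 h |>.imp fun n hn => hn
  obtain ⟨s, hs, hs'⟩ := hS
  obtain ⟨q, hq, hq'⟩ := exists_hom (G := G) (I := s) (W := Λ) (fun g => DistribSMul.toAddMonoidHom Λ g)
    (fun w => one_smul G w) (fun g h w => mul_smul g h w) (fun i => i.1)
  refine ⟨s, inferInstance, q, ?_, hq'⟩
  rw [← AddMonoidHom.range_eq_top, eq_top_iff, ← hs', AddSubgroup.closure_le]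
  intro x hx
  exact ⟨Finsupp.single (1, ⟨x, hx⟩) 1, hq ⟨x, hx⟩⟩

end K964.FreeG
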