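import Groth.Agent.MultTori.K964.LiftL
import Groth.Agent.MultTori.K964.FreeG

/-!
# Torsor classes and characters of the kernel of a free presentation

For a free presentation `q : ℤ[G]^I → Λ` (surjective): torsors under `M` over `A` with `Pic B = 0` correspond to
equivariant characters `ker q → Bˣ`. Surjectivity of `H¹(A, M) → H¹(R, M_R)` versus lifting of such characters.
-/

set_option autoImplicit false
universe u

open CategoryTheory CategoryTheory.Limits MonoidalCategory CartesianMonoidalCategory AlgebraicGeometry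
open TensorProduct

namespace K964.CharLift

open K965.Gal K964.UC K964.CharExt K964.AffPt K964.AffYon K964.Pt K964.TorsY K964.Cocyc K964.ExtE K964.BcPt
open K964.DictBc K964.Desc K964.LiftL K964.FreeG
open K965.Pts (sp mp)
open scoped MonObj GrpObj

attribute [local instance] actBc commBc

section units

variable {A B R : Type u} [CommRing A] [CommRing B] [Algebra A B] [CommRing R] [Algebra A R]

lemma isLocalHom_includeRight [Algebra.IsIntegral A B] (hf : Function.Surjective (algebraMap A R))
    (hker : RingHom.ker (algebraMap A R) ≤ Ideal.jacobson ⊥) (b : B)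
    (hb : IsUnit ((1 : R) ⊗ₜ[A] b)) : IsUnit b := by
  by_contra hn
  obtain ⟨n, hn, hbn⟩ := exists_max_ideal_of_mem_nonunits hn
  have hm : (n.under A).IsMaximal := Ideal.isMaximal_comap_of_isIntegral_of_isMaximal n
  have h1 : ∀ a ∈ RingHom.ker (Algebra.ofId A R), Algebra.ofId A (B ⧸ n) a = 0 := by
    intro a ha
    have h2 : a ∈ n.under A := by
      have h3 := hker ha
      rw [Ideal.jacobson, Ideal.mem_sInf] at h3
      exact h3 ⟨bot_le, hm⟩
    change algebraMap A (B ⧸ n) a = 0
    rw [IsScalarTower.algebraMap_apply A B (B ⧸ n)]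
    exact Ideal.Quotient.eq_zero_iff_mem.2 h2
  let e := Ideal.quotientKerAlgEquivOfSurjective (f := Algebra.ofId A R) hf
  let φ : R →ₐ[A] B ⧸ n := (Ideal.Quotient.liftₐ _ (Algebra.ofId A (B ⧸ n)) h1).comp e.symm.toAlgHom
  let Φ : R ⊗[A] B →ₐ[A] B ⧸ n := Algebra.TensorProduct.lift φ (Ideal.Quotient.mkₐ A n) (fun _ _ => Commute.all _ _)
  have h2 : Φ (1 ⊗ₜ b) = Ideal.Quotient.mk n b := by simp [Φ]
  have h3 := hb.map Φ
  rw [h2, Ideal.Quotient.eq_zero_iff_mem.2 hbn] at h3
  exact not_isUnit_zero h3

lemma exists_unit_lift [Algebra.IsIntegral A B] (hf : Function.Surjective (algebraMap A R))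
    (hker : RingHom.ker (algebraMap A R) ≤ Ideal.jacobson ⊥) (u : Additive (R ⊗[A] B)ˣ) :
    ∃ b : Additive Bˣ, ib A R b = u := by
  have h1 : ∀ z : R ⊗[A] B, ∃ b : B, (1 : R) ⊗ₜ[A] b = z := by
    intro z
    induction z using TensorProduct.induction_on with
    | zero => exact ⟨0, by simp⟩
    | tmul r b =>
      obtain ⟨a, rfl⟩ := hf r
      exact ⟨a • b, by rw [Algebra.algebraMap_eq_smul_one, TensorProduct.smul_tmul]⟩
    | add x y hx hy =>
      obtain ⟨b, hb⟩ := hx
      obtain ⟨b', hb'⟩ := hy
      exact ⟨b + b', by rw [TensorProduct.tmul_add, hb, hb']⟩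
  obtain ⟨b, hb⟩ := h1 (vl u)
  have h2 : IsUnit b := isLocalHom_includeRight hf hker b (by rw [hb]; exact Units.isUnit _)
  exact ⟨Additive.ofMul h2.unit, addUnits_ext (by rw [vl_ib]; exact hb)⟩

end units

variable {A B : Type u} [CommRing A] [CommRing B] [Algebra A B] {G : Type} [Group G]
    [MulSemiringAction G B] [SMulCommClass G A B]
    {M : Over (Spec (CommRingCat.of A))} [GrpObj M] {Λ : Type} [AddCommGroup Λ] [DistribMulAction G Λ]

lemma ua_one (T : Type u) [CommRing T] [Algebra A T] (w : Additive (T ⊗[A] B)ˣ) : ua A B T (1 : G) w = w :=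
  addUnits_ext (by rw [vl_ua, act_one])

lemma ua_mul (T : Type u) [CommRing T] [Algebra A T] (g h : G) (w : Additive (T ⊗[A] B)ˣ) :
    ua A B T (g * h) w = ua A B T g (ua A B T h w) :=
  addUnits_ext (by rw [vl_ua, vl_ua, vl_ua, act_act])

/-- the action on `Additive Bˣ` -/
noncomputable def ug (g : G) : Additive Bˣ →+ Additive Bˣ := um (MulSemiringAction.toRingHom G B g)

@[simp] lemma vl_ug (g : G) (b : Additive Bˣ) : vl (ug g b) = g • vl b := rfl

lemma ib_ug (T : Type u) [CommRing T] [Algebra A T] (g : G) (b : Additive Bˣ) :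
    ib A T (ug g b) = ua A B T g (ib A T b) := addUnits_ext (by simp)

/-- lifts of a free module -/
theorem exists_lift_free {I : Type} (D : K965.Dict A B G M Λ) {A' : Type u} [CommRing A'] [Algebra A A']
    (c : Fam M A') [Module.FaithfullyFlat A A'] (hPic : Subsingleton (CommRing.Pic B))
    (q : ((G × I) →₀ ℤ) →+ Λ) (hqe : ∀ g x, q (reg G I g x) = g • q x) :
    ∃ e, Lift D (reg G I) q c e := by
  choose d hd using exists_mem D c hPic
  obtain ⟨e, he, he'⟩ := exists_hom (G := G) (I := I) (fun g => ua A B A' g) (ua_one A') (ua_mul A')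
    (fun i => d (q (Finsupp.single (1, i) 1)))
  refine ⟨e, ⟨fun g x => by rw [he', vl_ua], fun x => ?_⟩⟩
  have h1 : (q.prod e) x ∈ E D c := by
    induction x using Finsupp.induction_linear with
    | zero => rw [map_zero]; exact zero_mem _
    | add x y hx hy => rw [map_add]; exact add_mem hx hy
    | single a n =>
      obtain ⟨g, i⟩ := a
      have h2 : (Finsupp.single (g, i) n : (G × I) →₀ ℤ) = n • reg G I g (Finsupp.single (1, i) 1) := by
        rw [reg_single, mul_one, Finsupp.smul_single, smul_eq_mul, mul_one]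
      rw [h2, map_zsmul]
      refine zsmul_mem ?_ n
      have h3 : (q.prod e) (reg G I g (Finsupp.single (1, i) 1)) =
          (g • q (Finsupp.single (1, i) 1), ua A B A' g (d (q (Finsupp.single (1, i) 1)))) := by
        rw [AddMonoidHom.prod_apply, hqe, he', he]
      rw [h3]
      exact smul_mem_E (hd _) g
  exact h1

/-- the character of the kernel -/
theorem exists_ker_char {F : Type} [AddCommGroup F] {ρ : Representation ℤ G F} {D : K965.Dict A B G M Λ}
    {A' : Type u} [CommRing A'] [Algebra A A'] {c : Fam M A'} [Module.FaithfullyFlat A A'] {q : F →+ Λ}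
    [Module.Flat A B] {e : F →+ Additive (A' ⊗[A] B)ˣ} (he : Lift D ρ q c e) :
    ∃ p : q.ker →+ Additive Bˣ, (∀ x : q.ker, e x = ib A A' (p x)) ∧
      ∀ (g : G) (x : q.ker) (h : ρ g x ∈ q.ker), p ⟨ρ g x, h⟩ = ug g (p x) := by
  have hinj : Function.Injective (ib A A' : Additive Bˣ → Additive (A' ⊗[A] B)ˣ) := by
    intro x y hxy
    apply addUnits_ext
    have h1 := congrArg vl hxy
    rw [vl_ib, vl_ib] at h1
    have h2 := Module.FaithfullyFlat.tensorProduct_mk_injective (A := A) (B := A') B
    exact h2 h1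
  have h1 : ∀ x : q.ker, ∃ b, e x = ib A A' b := by
    intro x
    apply exists_of_mem_zero (D := D) (c := c)
    have h2 := he.mem x
    rwa [(x.2 : q x = 0)] at h2
  choose p hp using h1
  let P : q.ker →+ Additive Bˣ :=
    { toFun := p
      map_zero' := hinj (by rw [← hp, map_zero]; exact map_zero e)
      map_add' := fun x y => hinj (by rw [← hp, map_add, ← hp, ← hp]; exact map_add e _ _) }
  refine ⟨P, hp, fun g x h => hinj ?_⟩
  rw [ib_ug]
  have h3 : e (ρ g x) = ua A B A' g (e x) := addUnits_ext (by rw [vl_ua]; exact he.eqv g x)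
  change ib A A' (p _) = ua A B A' g (ib A A' (p x))
  rw [← hp, ← hp, ← h3]

end K964.CharLift
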