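import Mathlib.GroupTheory.Sylow
import Mathlib.GroupTheory.SpecificGroups.Cyclic

/-!
# Cyclic Sylow subgroups of quotients
-/

set_option autoImplicit false

namespace K964.CycGrp

theorem exists_gen {Γ Γ' G W : Type*} [Group Γ] [Group Γ'] [Finite Γ'] [Group G] [Group W]
    (p : ℕ) [Fact p.Prime] (hcyc : ∀ P : Sylow p Γ', IsCyclic P) (r : Γ →* G) (r' : Γ →* Γ')
    (hr' : Function.Surjective r') (α : G →* W) (hker : ∀ γ, r' γ = 1 → α (r γ) = 1)
    (H : Subgroup G) (hH : IsPGroup p H) (hHr : H ≤ r.range) :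
    ∃ h₀ ∈ H, ∀ h ∈ H, ∃ n : ℕ, α h = α h₀ ^ n := by
  classical
  let τ : Γ' →* W := (MonoidHom.liftOfSurjective r' hr') ⟨α.comp r, fun γ hγ => hker γ hγ⟩
  have hτ : ∀ γ, τ (r' γ) = α (r γ) := fun γ => MonoidHom.liftOfRightInverse_comp_apply _ _ _ _ _
  let T : Γ' →* τ.range := τ.rangeRestrict
  have hT : Function.Surjective T := τ.rangeRestrict_surjective
  have hfin : Finite τ.range := Finite.of_surjective T hT
  have hle : H.map α ≤ τ.range := by
    rintro _ ⟨h, hh, rfl⟩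
    obtain ⟨γ, rfl⟩ := hHr hh
    exact ⟨r' γ, hτ γ⟩
  let Hb : Subgroup τ.range := (H.map α).subgroupOf τ.range
  have hHb : IsPGroup p Hb := (hH.map α).comap_subtype
  obtain ⟨Q, hQ⟩ := hHb.exists_le_sylow
  obtain ⟨P', rfl⟩ := Sylow.mapSurjective_surjective hT p Q
  have hP' := hcyc P'
  have h1 : IsCyclic ((P'.mapSurjective hT : Sylow p τ.range) : Subgroup τ.range) := by
    rw [Sylow.coe_mapSurjective]
    exact isCyclic_of_surjective (T.subgroupMap (P' : Subgroup Γ')) (T.subgroupMap_surjective _)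
  have h2 : IsCyclic Hb := Subgroup.isCyclic_of_le hQ
  obtain ⟨g, hg⟩ := h2.exists_generator
  obtain ⟨h₀, hh₀, hg₀⟩ := (g.2 : ((g : τ.range) : W) ∈ H.map α)
  refine ⟨h₀, hh₀, fun h hh => ?_⟩
  let x : Hb := ⟨⟨α h, hle ⟨h, hh, rfl⟩⟩, ⟨h, hh, rfl⟩⟩
  have h3 := hg x
  rw [← mem_powers_iff_mem_zpowers] at h3
  obtain ⟨n, hn⟩ := h3
  refine ⟨n, ?_⟩
  have h4 := congrArg (fun z : Hb => ((z : τ.range) : W)) hn
  beta_reduce at h4
  rw [hg₀]
  exact h4.symm

end K964.CycGrp
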