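import Groth.Agent.MultTori.K964.SimP
import Groth.Agent.MultTori.K964.CharExt
import Mathlib.Algebra.Ring.Action.Basic

/-!
# Shapiro's lemma for the units of a coinduced ring
-/

set_option autoImplicit false
universe u v w

namespace K964.Shap

open K964.Coh K964.CharExt

section rep

variable (G : Type v) [Group G] (C : Type u) [CommRing C] [MulSemiringAction G C]

/-- the representation on the units -/
noncomputable def uRep : Representation ℤ G (Additive Cˣ) where
  toFun g := (um (MulSemiringAction.toRingHom G C g)).toIntLinearMap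
  map_one' := by
    refine LinearMap.ext fun x => addUnits_ext ?_
    change (1 : G) • vl x = vl x
    rw [one_smul]
  map_mul' g h := by
    refine LinearMap.ext fun x => addUnits_ext ?_
    change (g * h) • vl x = g • h • vl x
    rw [mul_smul]

variable {G C}

@[simp] lemma vl_uRep (g : G) (x : Additive Cˣ) : vl (uRep G C g x) = g • vl x := rfl

end rep

variable {G : Type v} [Group G] {C : Type u} [CommRing C] [MulSemiringAction G C] {D : Subgroup G}
  {L : Type w} [CommRing L] [MulSemiringAction D L] (π : C →+* L)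

lemma um_uRep (hπ : ∀ (d : D) (c : C), π ((d : G) • c) = d • π c) (d : D) (x : Additive Cˣ) :
    um π (uRep G C (d : G) x) = uRep D L d (um π x) := addUnits_ext (hπ d (vl x))

/-- the coinduced property for units -/
lemma exists_unit (hπ : ∀ (d : D) (c : C), π ((d : G) • c) = d • π c)
    (hinj : ∀ c : C, (∀ g : G, π (g⁻¹ • c) = 0) → c = 0)
    (hex : ∀ f : G → L, (∀ (g : G) (d : D), f (g * d) = d⁻¹ • f g) → ∃ c : C, ∀ g, π (g⁻¹ • c) = f g)
    (f : G → Additive Lˣ) (hf : ∀ (g : G) (d : D), f (g * d) = uRep D L d⁻¹ (f g)) :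
    ∃ c : Additive Cˣ, ∀ g, um π (uRep G C g⁻¹ c) = f g := by
  obtain ⟨c, hc⟩ := hex (fun g => vl (f g)) (fun g d => by rw [hf]; rfl)
  obtain ⟨c', hc'⟩ := hex (fun g => vl (-f g)) (fun g d => by rw [hf, ← map_neg]; rfl)
  have h1 : c * c' = 1 := by
    rw [← sub_eq_zero]
    apply hinj
    intro g
    rw [smul_sub, smul_mul', smul_one, map_sub, map_mul, hc, hc', ← vl_add, add_neg_cancel, vl_zero, map_one, sub_self]
  refine ⟨Additive.ofMul (Units.mkOfMulEqOne c c' h1), fun g => addUnits_ext ?_⟩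
  exact hc g

/-- **Shapiro's lemma.** -/
theorem shapiro {F : Type*} [AddCommGroup F] (ρ : Representation ℤ G F)
    (hπ : ∀ (d : D) (c : C), π ((d : G) • c) = d • π c)
    (hinj : ∀ c : C, (∀ g : G, π (g⁻¹ • c) = 0) → c = 0)
    (hex : ∀ f : G → L, (∀ (g : G) (d : D), f (g * d) = d⁻¹ • f g) → ∃ c : C, ∀ g, π (g⁻¹ • c) = f g)
    (h1 : H1Z (Representation.linHom (ρ.comp D.subtype : Representation ℤ D F) (uRep D L))) :
    H1Z (Representation.linHom ρ (uRep G C)) := by
  intro a ha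
  have ha' : ∀ (g h : G) (x : F), a (g * h) x = a g x + uRep G C g (a h (ρ g⁻¹ x)) := by
    intro g h x
    rw [ha, LinearMap.add_apply, linHom_apply]
  have hρ : ∀ (g : G) (x : F), ρ g⁻¹ (ρ g x) = x := fun g x => by
    rw [← Module.End.mul_apply, ← map_mul, inv_mul_cancel, map_one, Module.End.one_apply]
  have hρ' : ∀ (g : G) (x : F), ρ g (ρ g⁻¹ x) = x := fun g x => by
    rw [← Module.End.mul_apply, ← map_mul, mul_inv_cancel, map_one, Module.End.one_apply]
  obtain ⟨b, hb⟩ := h1 (fun d => ((um π).toIntLinearMap).comp (a (d : G))) (by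
    intro d e
    refine LinearMap.ext fun x => ?_
    rw [LinearMap.add_apply, linHom_apply]
    change um π (a ((d : G) * (e : G)) x) = um π (a (d : G) x) + uRep D L d (um π (a (e : G) (ρ (d : G)⁻¹ x)))
    rw [ha', map_add, um_uRep π hπ])
  have hb' : ∀ (d : D) (x : F), um π (a (d : G) x) = uRep D L d (b (ρ (d : G)⁻¹ x)) - b x := by
    intro d x
    have := congr($(hb d) x)
    rw [LinearMap.sub_apply, linHom_apply] at this
    exact this
  have key : ∀ x : F, ∃ c : Additive Cˣ, ∀ g : G, um π (uRep G C g⁻¹ c) =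
      b (ρ g⁻¹ x) - um π (uRep G C g⁻¹ (a g x)) := by
    intro x
    apply exists_unit π hπ hinj hex
    intro g d
    have e1 := hb' d (ρ g⁻¹ x)
    have e2 : um π (uRep G C ((d : G)⁻¹) (a (d : G) (ρ g⁻¹ x))) = b (ρ (d : G)⁻¹ (ρ g⁻¹ x)) - uRep D L d⁻¹ (b (ρ g⁻¹ x)) := by
      have e3 := um_uRep π hπ d⁻¹ (a (d : G) (ρ g⁻¹ x))
      rw [Subgroup.coe_inv] at e3
      rw [e3, e1, map_sub, ← Module.End.mul_apply (uRep D L d⁻¹), ← map_mul, inv_mul_cancel, map_one,
        Module.End.one_apply]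
    have e4 : um π (uRep G C ((d : G)⁻¹) (uRep G C g⁻¹ (a g x))) = uRep D L d⁻¹ (um π (uRep G C g⁻¹ (a g x))) := by
      have e3 := um_uRep π hπ d⁻¹ (uRep G C g⁻¹ (a g x))
      rw [Subgroup.coe_inv] at e3
      exact e3
    have e5 : uRep G C g⁻¹ (uRep G C g (a (d : G) (ρ g⁻¹ x))) = a (d : G) (ρ g⁻¹ x) := by
      rw [← Module.End.mul_apply, ← map_mul, inv_mul_cancel, map_one, Module.End.one_apply]
    rw [mul_inv_rev, map_mul, map_mul, Module.End.mul_apply, Module.End.mul_apply, ha', map_add, map_add, map_add,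
      e5, e4, e2, map_sub]
    abel
  choose B hB using key
  have hext : ∀ c c' : Additive Cˣ, (∀ g : G, um π (uRep G C g⁻¹ c) = um π (uRep G C g⁻¹ c')) → c = c' := by
    intro c c' h
    apply addUnits_ext
    rw [← sub_eq_zero]
    apply hinj
    intro g
    rw [smul_sub, map_sub, sub_eq_zero]
    exact congrArg vl (h g)
  let B' : F →ₗ[ℤ] Additive Cˣ :=
    (AddMonoidHom.mk' B (fun x y => hext _ _ fun g => by
      rw [map_add, map_add, hB, hB, hB]
      simp only [map_add]
      abel)).toIntLinearMap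
  have hB' : ∀ x (g : G), um π (uRep G C g⁻¹ (B' x)) = b (ρ g⁻¹ x) - um π (uRep G C g⁻¹ (a g x)) := hB
  refine ⟨B', fun g => LinearMap.ext fun x => hext _ _ fun h => ?_⟩
  rw [LinearMap.sub_apply, linHom_apply, map_sub, map_sub, hB']
  have e1 : uRep G C h⁻¹ (uRep G C g (B' (ρ g⁻¹ x))) = uRep G C (g⁻¹ * h)⁻¹ (B' (ρ g⁻¹ x)) := by
    rw [← Module.End.mul_apply, ← map_mul]
    congr 3
    group
  rw [e1, hB']
  have e2 : ρ (g⁻¹ * h)⁻¹ (ρ g⁻¹ x) = ρ h⁻¹ x := by
    rw [← Module.End.mul_apply, ← map_mul]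
    congr 2
    group
  have e3 : uRep G C (g⁻¹ * h)⁻¹ (a (g⁻¹ * h) (ρ g⁻¹ x)) = uRep G C h⁻¹ (a h x) - uRep G C h⁻¹ (a g x) := by
    have e4 := ha' g (g⁻¹ * h) x
    rw [mul_inv_cancel_left] at e4
    rw [e4, map_add, add_sub_cancel_left, ← Module.End.mul_apply, ← map_mul]
    congr 2
    group
  rw [e2, e3, map_sub]
  abel

end K964.Shap
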