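import Groth.Agent.MultTori.K964.GalHom
import Groth.Agent.MultTori.K964.Shap
import Groth.Agent.MultTori.K964.SemiGal

/-!
# The residue field of a Galois algebra over a field: Hilbert 90 and Shapiro
-/

set_option autoImplicit false
universe u v

open TensorProduct

namespace K964.ResL

open K965.Gal K964.GalHom K964.Shap K964.Coh K964.CharExt

variable {k C : Type u} [Field k] [CommRing C] [Algebra k C] {G : Type} [Group G] [Fintype G]
  [MulSemiringAction G C] [SMulCommClass G k C] {Ω : Type u} [Field Ω] [Algebra k Ω] (s : C →ₐ[k] Ω)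

include k in
omit [Fintype G] [SMulCommClass G k C] in
lemma ker_max [Module.Finite k C] : (RingHom.ker (s : C →+* Ω)).IsMaximal := by
  have hp : (RingHom.ker (s : C →+* Ω)).IsPrime := RingHom.ker_isPrime _
  have h1 : Ideal.IsMaximal ((RingHom.ker (s : C →+* Ω)).comap (algebraMap k C)) := by
    have h2 : (RingHom.ker (s : C →+* Ω)).comap (algebraMap k C) = ⊥ := by
      have := hp.comap (algebraMap k C)
      exact Ideal.eq_bot_of_prime _
    rw [h2]
    exact Ideal.bot_isMaximal
  exact Ideal.isMaximal_of_isIntegral_of_isMaximal_comap _ h1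

theorem shapiro' [Module.Finite k C] (hG : IsGal k C G) {F : Type*} [AddCommGroup F] (ρ : Representation ℤ G F)
    (h1 : H1Z (Representation.linHom (ρ.comp (dec G s).subtype : Representation ℤ (dec G s) F)
      (uRep (dec G s) (Lq s)))) :
    H1Z (Representation.linHom ρ (uRep G C)) := by
  refine shapiro (Ideal.Quotient.mk (RingHom.ker (s : C →+* Ω))) ρ (fun d c => mk_smul s d c) ?_ ?_ h1
  · intro c hc
    apply eq_zero_of_forall s hG (algebraMap k Ω).injective
    intro g
    rw [← mk_eq_zero]
    exact hc g
  · exact exists_coind s (ker_max s)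

theorem coflasque_Lq [Module.Finite k C] (hG : IsGal k C G) : GLat.IsCoflasque (uRep (dec G s) (Lq s)) := by
  classical
  intro H f hf
  have hmax := ker_max s
  let _ : Field (Lq s) := Ideal.Quotient.field _
  have hfin : Finite (MaximalSpectrum (Lq s)) := inferInstance
  obtain ⟨t, ht⟩ := hG.tr
  obtain ⟨n, x, y, h1, h2⟩ := hG.dual
  let K : Subgroup G := H.map (dec G s).subtype
  obtain ⟨t1, ht1⟩ := SemiGal.exists_trace t ht K
  let mk := Ideal.Quotient.mk (RingHom.ker (s : C →+* Ω))
  have hK : ∑ h : H, h • mk t1 = 1 := by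
    let e : H ≃ K := (H.equivMapOfInjective _ (dec G s).subtype_injective).toEquiv
    have h3 := congrArg mk ht1
    rw [map_sum, map_one] at h3
    rw [← h3]
    refine Fintype.sum_equiv e _ _ fun h => ?_
    rfl
  obtain ⟨u, hu⟩ := K964.H90.exists_unit (B := Lq s) (D := H) ⟨n, fun i => mk (x i), fun i => mk (y i), by
      rw [← map_one mk, ← h1, map_sum]
      simp only [map_mul], fun d hd => by
      have h3 := congrArg mk (h2 ((d : dec G s) : G) (fun h => hd (Subtype.ext (Subtype.ext h))))
      rw [map_sum, map_zero] at h3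
      rw [← h3]
      refine Finset.sum_congr rfl fun i _ => ?_
      rw [map_mul]
      rfl⟩
    ⟨_, hK⟩ (fun h => (f h).toMul) (fun a b => congrArg vl (hf a b))
  refine ⟨-Additive.ofMul u, fun a => ?_⟩
  have h4 : f a + uRep (dec G s) (Lq s) (a : dec G s) (Additive.ofMul u) = Additive.ofMul u := addUnits_ext (hu a)
  rw [map_neg, sub_neg_eq_add, neg_add_eq_sub, eq_sub_iff_add_eq]
  exact h4

end K964.ResL
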