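import Groth.Agent.MultTori.K964.ChD
import Groth.Agent.MultTori.K964.CycGrp
import Groth.Agent.MultTori.K964.ResL
import Groth.Agent.MultTori.K964.BcPt
import Mathlib.FieldTheory.Normal.Basic
import Mathlib.FieldTheory.Galois.Basic
import Mathlib.FieldTheory.IsAlgClosed.AlgebraicClosure

/-!
# `p`-subgroups of the decomposition group act on the characters through cyclic groups
-/

set_option autoImplicit false
universe u

open CategoryTheory CategoryTheory.Limits MonoidalCategory CartesianMonoidalCategory AlgebraicGeometry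
open TensorProduct

namespace K964.CycAct

open K965.Gal K965.Dic K964.GalHom K964.BcPt K964.ChD K964.ResL
open K965.Pts (sp mp)
open scoped MonObj GrpObj

variable {k C : Type u} [Field k] [CommRing C] [Algebra k C] {G : Type} [Group G] [Fintype G]
  [MulSemiringAction G C] [SMulCommClass G k C] {Ω : Type u} [Field Ω] [Algebra k Ω] (s : C →ₐ[k] Ω)

include s in
/-- automorphisms of `Ω` give elements of `G` -/
lemma exists_r (hG : IsGal k C G) : ∃ r : (Ω ≃ₐ[k] Ω) →* G, ∀ γ c, γ (s c) = s (r γ • c) := by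
  choose r hr using fun γ : Ω ≃ₐ[k] Ω => trans s hG (γ.toAlgHom.comp s)
  have hr' : ∀ γ c, γ (s c) = s (r γ • c) := hr
  refine ⟨MonoidHom.mk' r fun γ γ' => free s hG fun c => ?_, hr'⟩
  rw [← hr', mul_smul, ← hr', ← hr']
  rfl

omit [Fintype G] in
/-- every element of the decomposition group comes from an automorphism -/
lemma exists_lift [Module.Finite k C] [Normal k Ω] (d : dec G s) : ∃ γ : Ω ≃ₐ[k] Ω, ∀ c, γ (s c) = s ((d : G) • c) := by
  have hmax := ker_max s
  let _ : Field (Lq s) := Ideal.Quotient.field _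
  let sb : Lq s →ₐ[k] Ω := Ideal.Quotient.liftₐ (RingHom.ker (s : C →+* Ω)) s (fun a ha => ha)
  have hsb : ∀ c, sb (Ideal.Quotient.mk _ c) = s c := fun c => rfl
  let _ : Algebra (Lq s) Ω := sb.toRingHom.toAlgebra
  have : IsScalarTower k (Lq s) Ω := IsScalarTower.of_algebraMap_eq (fun a => (sb.commutes a).symm)
  let db : Lq s ≃ₐ[k] Lq s := AlgEquiv.ofAlgHom
    { toFun := fun x => d • x
      map_one' := smul_one d
      map_mul' := fun x y => smul_mul' d x y
      map_zero' := smul_zero d
      map_add' := fun x y => smul_add d x y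
      commutes' := fun a => by
        change d • Ideal.Quotient.mk _ (algebraMap k C a) = _
        rw [← mk_smul, Algebra.algebraMap_eq_smul_one, smul_comm, smul_one, ← Algebra.algebraMap_eq_smul_one]
        rfl }
    { toFun := fun x => d⁻¹ • x
      map_one' := smul_one _
      map_mul' := fun x y => smul_mul' _ x y
      map_zero' := smul_zero _
      map_add' := fun x y => smul_add _ x y
      commutes' := fun a => by
        change d⁻¹ • Ideal.Quotient.mk _ (algebraMap k C a) = _
        rw [← mk_smul, Algebra.algebraMap_eq_smul_one, smul_comm, smul_one, ← Algebra.algebraMap_eq_smul_one]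
        rfl }
    (by ext x; exact smul_inv_smul d x) (by ext x; exact inv_smul_smul d x)
  refine ⟨db.liftNormal Ω, fun c => ?_⟩
  have h1 := AlgEquiv.liftNormal_commutes db Ω (Ideal.Quotient.mk _ c)
  exact h1

theorem exists_gen [Module.Finite k C] [IsAlgClosed Ω] [Algebra.IsAlgebraic k Ω] (hG : IsGal k C G)
    {M : Over (Spec (CommRingCat.of k))} [GrpObj M] {Λ : Type} [AddCommGroup Λ] [DistribMulAction G Λ]
    (D : K965.Dict k C G M Λ) {L' : Type u} [Field L'] [Algebra k L'] [FiniteDimensional k L'] [IsGalois k L']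
    {Λ' : Type} [AddCommGroup Λ']
    (e : Grp.mk (Red.bc (tb k L') M) ≅ Grp.mk (Red.DS (Spec (CommRingCat.of L')) Λ'))
    (p : ℕ) [Fact p.Prime] (hcyc : ∀ P : Sylow p (L' ≃ₐ[k] L'), IsCyclic P)
    (H : Subgroup (dec G s)) (hH : IsPGroup p H) :
    ∃ h₀ ∈ H, ∀ h ∈ H, ∃ n : ℕ, ∀ m : Λ, (h : G) • m = (h₀ : G) ^ n • m := by
  classical
  let s' : L' →ₐ[k] Ω := IsAlgClosed.lift
  let _ : Algebra L' Ω := s'.toRingHom.toAlgebra
  have : IsScalarTower k L' Ω := IsScalarTower.of_algebraMap_eq (fun a => (s'.commutes a).symm)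
  have hnorm : Normal k Ω := ⟨fun x => IsAlgClosed.splits _⟩
  obtain ⟨r, hr⟩ := exists_r s hG
  let r' : (Ω ≃ₐ[k] Ω) →* (L' ≃ₐ[k] L') := AlgEquiv.restrictNormalHom L'
  have hr' : Function.Surjective r' := AlgEquiv.restrictNormalHom_surjective Ω
  have hidem : ∀ x : Ω, x * x = x → x = 0 ∨ x = 1 := fun x hx => by
    rcases eq_or_ne x 0 with h | h
    · exact Or.inl h
    · exact Or.inr (mul_right_cancel₀ h (by rw [hx, one_mul]))
  obtain ⟨_, ⟨h₀, hh₀, rfl⟩, h1⟩ := K964.CycGrp.exists_gen p hcyc r r' hr' (DistribMulAction.toAddAut G Λ)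
    (fun γ hγ => by
      ext m
      refine trivial_of_fix D hG hidem (φ := algebraMap k Ω) (s : C →+* Ω) s.comp_algebraMap
        (algebraMap k L') e (s' : L' →+* Ω) s'.comp_algebraMap (r γ) (γ : Ω →+* Ω) ?_ ?_ m
      · ext c
        exact hr γ c
      · ext c
        have h2 := AlgEquiv.restrictNormal_commutes γ L' c
        have h3 : γ.restrictNormal L' = 1 := hγ
        rw [h3] at h2
        exact h2.symm)
    (H.map (dec G s).subtype) (hH.map _) (by
      rintro _ ⟨d, hd, rfl⟩
      obtain ⟨γ, hγ⟩ := exists_lift s d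
      refine ⟨γ, free s hG fun c => ?_⟩
      rw [← hr, hγ]
      rfl)
  refine ⟨h₀, hh₀, fun h hh => ?_⟩
  obtain ⟨n, hn⟩ := h1 (h : G) ⟨h, hh, rfl⟩
  refine ⟨n, fun m => ?_⟩
  rw [← map_pow] at hn
  exact DFunLike.congr_fun (congrArg Multiplicative.toAdd hn) m

end K964.CycAct
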