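import Mathlib.LinearAlgebra.FreeModule.PID
import Mathlib.LinearAlgebra.FreeModule.Finite.Basic
import Mathlib.RingTheory.Nakayama
import Mathlib.RingTheory.Finiteness.Nakayama
import Mathlib.Algebra.CharP.Lemmas
import Mathlib.Algebra.Module.ZMod
import Mathlib.LinearAlgebra.Dimension.Free
import Mathlib.LinearAlgebra.Pi
import Mathlib.Algebra.Ring.GeomSum
import Mathlib.Tactic.Module
import Mathlib.RingTheory.Int.Basic
import Mathlib.Algebra.Field.ZMod
import Mathlib.LinearAlgebra.Basis.VectorSpace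
import Mathlib.LinearAlgebra.Dimension.Constructions
import Mathlib.Tactic.LinearCombination
import Mathlib.LinearAlgebra.FiniteDimensional.Basic
import Mathlib.LinearAlgebra.FreeModule.Finite.Matrix
import Mathlib.Tactic.NoncommRing

/-!
# Lattices with an automorphism of `p`-power order: flasque implies `p`-locally invertible

`T` is an endomorphism of a finitely generated free abelian group `F` with `T ^ p ^ k = 1`.  `Fl p k T` is
flasqueness (vanishing of `Ĥ⁻¹` of all subgroups of `⟨T⟩`), `PInv` says that multiplication by some integer prime to `p`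
factors equivariantly through a permutation lattice.
-/

set_option autoImplicit false

namespace K964.CycLat

variable {F : Type*} [AddCommGroup F]

/-- `∑_{i < n} g ^ i` -/
def nrm (g : Module.End ℤ F) (n : ℕ) : Module.End ℤ F := ∑ i ∈ Finset.range n, g ^ i

lemma nrm_mul_sub (g : Module.End ℤ F) (n : ℕ) : nrm g n * (g - 1) = g ^ n - 1 := geom_sum_mul g n

lemma sub_mul_nrm (g : Module.End ℤ F) (n : ℕ) : (g - 1) * nrm g n = g ^ n - 1 := mul_geom_sum g n

lemma pow_apply_of_fixed (g : Module.End ℤ F) {x : F} (h : g x = x) (i : ℕ) : (g ^ i) x = x := by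
  induction i with
  | zero => simp
  | succ i ih => rw [pow_succ, Module.End.mul_apply, h, ih]

lemma nrm_apply_of_fixed (g : Module.End ℤ F) (n : ℕ) {x : F} (h : g x = x) : nrm g n x = (n : ℤ) • x := by
  simp [nrm, LinearMap.sum_apply, pow_apply_of_fixed g h]

lemma nrm_add (g : Module.End ℤ F) (m n : ℕ) : nrm g (m + n) = nrm g m + g ^ m * nrm g n := by
  rw [nrm, Finset.sum_range_add, nrm, nrm, Finset.mul_sum]
  congr 1
  exact Finset.sum_congr rfl fun i _ => by rw [pow_add]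

lemma nrm_mul (g : Module.End ℤ F) (a b : ℕ) : nrm g (a * b) = nrm (g ^ a) b * nrm g a := by
  induction b with
  | zero => simp [nrm]
  | succ b ih =>
    rw [mul_add, mul_one, nrm_add, ih, nrm_add, add_mul]
    congr 1
    simp [nrm, ← pow_mul]

/-- Flasqueness of `(F, T)` for the group generated by `T`, of order dividing `p ^ k`. -/
def Fl (p k : ℕ) (T : Module.End ℤ F) : Prop :=
  ∀ j ≤ k, ∀ x : F, nrm (T ^ p ^ (k - j)) (p ^ j) x = 0 → ∃ y : F, (T ^ p ^ (k - j)) y - y = x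

/-- permutation of coordinates -/
def shift {ι : Type*} (t : Equiv.Perm ι) : (ι → ℤ) →ₗ[ℤ] (ι → ℤ) := LinearMap.funLeft ℤ ℤ (t⁻¹ : Equiv.Perm ι)

@[simp] lemma shift_apply {ι : Type*} (t : Equiv.Perm ι) (y : ι → ℤ) (i : ι) : shift t y i = y (t⁻¹ i) := rfl

/-- `p`-local invertibility. -/
def PInv (p n : ℕ) (T : Module.End ℤ F) : Prop :=
  ∃ (ι : Type) (_ : Fintype ι) (t : Equiv.Perm ι) (i : F →ₗ[ℤ] (ι → ℤ)) (π : (ι → ℤ) →ₗ[ℤ] F) (m : ℤ),
    t ^ n = 1 ∧ (∀ x, i (T x) = shift t (i x)) ∧ (∀ y, π (shift t y) = T (π y)) ∧ (∀ x, π (i x) = m • x) ∧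
    ¬ (p : ℤ) ∣ m

/-- `(T - 1) ^ p ^ n` is divisible by `p` when `T ^ p ^ n = 1`. -/
lemma sub_one_pow_eq {p : ℕ} (hp : p.Prime) (n : ℕ) (T : Module.End ℤ F) (hT : T ^ p ^ n = 1) :
    ∃ r : Module.End ℤ F, (T - 1) ^ p ^ n = (p : ℤ) • r := by
  obtain ⟨r, hr⟩ := (Commute.one_right (T - 1)).exists_add_pow_prime_pow_eq hp n
  rw [sub_add_cancel, hT, one_pow] at hr
  refine ⟨-((T - 1) * r), ?_⟩
  have h1 : (T - 1) ^ p ^ n = -((p : Module.End ℤ F) * (T - 1) * 1 * r) := by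
    rw [mul_one] at hr ⊢
    have h2 := congrArg (fun z => z - 1 - (p : Module.End ℤ F) * (T - 1) * r) hr
    simp only [sub_self, zero_sub] at h2
    rw [h2]
    abel
  rw [h1, smul_neg, mul_one, mul_assoc, Nat.cast_smul_eq_nsmul, nsmul_eq_mul]

lemma exists_modp_basis_aux {V : Type*} [AddCommGroup V] [Module.Finite ℤ V] (p : ℕ) [Fact p.Prime]
    [Module (ZMod p) V] : ∃ (r : ℕ) (b : Fin r → V), (∀ v : V, ∃ a : Fin r → ℤ, v = ∑ i, a i • b i) ∧
      ∀ a : Fin r → ℤ, ∑ i, a i • b i = 0 → ∀ i, (p : ℤ) ∣ a i := by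
  have hcast : ∀ (a : ℤ) (v : V), a • v = (a : ZMod p) • v := by
    intro a v
    exact (Int.cast_smul_eq_zsmul (ZMod p) a v).symm
  have hfin : Module.Finite (ZMod p) V := by
    have h0 : Module.Finite ℤ V := inferInstance
    obtain ⟨s, hs⟩ := h0
    refine ⟨s, ?_⟩
    refine SetLike.ext fun v => ⟨fun _ => trivial, fun _ => ?_⟩
    have hv : v ∈ Submodule.span ℤ (s : Set V) := by rw [hs]; trivial
    refine Submodule.span_induction (fun x hx => Submodule.subset_span hx) (Submodule.zero_mem _)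
      (fun x y _ _ hx hy => Submodule.add_mem _ hx hy) (fun a x _ hx => ?_) hv
    rw [hcast]
    exact Submodule.smul_mem _ _ hx
  let b := Module.finBasis (ZMod p) V
  refine ⟨_, fun i => b i, ?_, ?_⟩
  · intro v
    refine ⟨fun i => ((b.repr v i).val : ℤ), ?_⟩
    conv_lhs => rw [← b.sum_repr v]
    refine Finset.sum_congr rfl fun i _ => ?_
    rw [hcast]
    congr 1
    simp
  · intro a h i
    have h1 : ∑ i, (a i : ZMod p) • b i = 0 := by
      rw [← h]
      exact Finset.sum_congr rfl fun i _ => (hcast _ _).symm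
    have h3 := Fintype.linearIndependent_iff.1 b.linearIndependent (fun i => (a i : ZMod p)) h1 i
    exact (ZMod.intCast_zmod_eq_zero_iff_dvd _ _).1 h3

/-- A finitely generated abelian group killed by `p` has an `𝔽_p`-basis. -/
lemma exists_modp_basis {V : Type*} [AddCommGroup V] [Module.Finite ℤ V] (p : ℕ) [Fact p.Prime]
    (hpV : ∀ v : V, p • v = 0) : ∃ (r : ℕ) (b : Fin r → V), (∀ v : V, ∃ a : Fin r → ℤ, v = ∑ i, a i • b i) ∧
      ∀ a : Fin r → ℤ, ∑ i, a i • b i = 0 → ∀ i, (p : ℤ) ∣ a i :=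
  @exists_modp_basis_aux V _ _ p _ (AddCommGroup.zmodModule hpV)

section Sub

variable {p : ℕ} (q : ℕ) (T τ : Module.End ℤ F)

/-- On the range of `τ - 1` (`τ` a power of `T`, `τ ^ p = 1`), multiplication by `p` is divisible by `T - 1`. -/
lemma smul_mem (hτ : τ = T ^ q) (hp : τ ^ p = 1) {x : F} (hx : x ∈ LinearMap.range (τ - 1)) :
    ∃ z ∈ LinearMap.range (τ - 1), (p : ℤ) • x = T z - z := by
  obtain ⟨y, rfl⟩ := hx
  have h1 : (p : Module.End ℤ F) * (τ - 1) = (T - 1) * ((τ - 1) *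
      (-(∑ i ∈ Finset.range p, nrm T (q * i)))) := by
    have h2 : nrm τ p * (τ - 1) = 0 := by rw [nrm_mul_sub, hp, sub_self]
    have h3 : nrm τ p = p + ∑ i ∈ Finset.range p, (τ ^ i - 1) := by
      rw [Finset.sum_sub_distrib]
      simp [nrm]
    have h4 : ∀ i : ℕ, τ ^ i - 1 = (T - 1) * nrm T (q * i) := by
      intro i
      rw [sub_mul_nrm, hτ, ← pow_mul]
    have h5 : ∀ i : ℕ, Commute (τ - 1) (nrm T (q * i)) := by
      intro i
      rw [hτ, nrm]
      refine Commute.sum_right _ _ _ fun j _ => ?_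
      exact ((Commute.refl T).pow_pow q j).sub_left (Commute.one_left _)
    have h6 : (∑ i ∈ Finset.range p, (τ ^ i - 1)) = (T - 1) * ∑ i ∈ Finset.range p, nrm T (q * i) := by
      rw [Finset.mul_sum]
      exact Finset.sum_congr rfl fun i _ => h4 i
    rw [h3, h6, add_mul] at h2
    have h7 : (∑ i ∈ Finset.range p, nrm T (q * i)) * (τ - 1) = (τ - 1) * ∑ i ∈ Finset.range p, nrm T (q * i) :=
      (Commute.sum_left _ _ _ fun i _ => (h5 i).symm)
    rw [mul_assoc, h7] at h2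
    rw [mul_neg, mul_neg]
    exact eq_neg_of_add_eq_zero_left h2
  refine ⟨(τ - 1) ((-(∑ i ∈ Finset.range p, nrm T (q * i))) y), ⟨_, rfl⟩, ?_⟩
  have h8 := congrArg (fun f : Module.End ℤ F => f y) h1
  simp only [Module.End.mul_apply] at h8
  have h9 : (p : ℤ) • (τ - 1) y = (p : Module.End ℤ F) ((τ - 1) y) := by
    simp
  rw [h9, h8]
  rfl

/-- `T - 1` is injective on the range of `τ - 1`. -/
lemma eq_zero_of_fixed [Module.IsTorsionFree ℤ F] (hp0 : p ≠ 0) (hτ : τ = T ^ q) (hp : τ ^ p = 1) {x : F}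
    (hx : x ∈ LinearMap.range (τ - 1)) (h : T x = x) : x = 0 := by
  have h1 : τ x = x := by rw [hτ]; exact pow_apply_of_fixed T h q
  have h2 := nrm_apply_of_fixed τ p h1
  obtain ⟨y, rfl⟩ := hx
  have h3 : nrm τ p ((τ - 1) y) = 0 := by
    rw [← Module.End.mul_apply, nrm_mul_sub, hp, sub_self, LinearMap.zero_apply]
  rw [h3] at h2
  have h4 := h2.symm
  rw [smul_eq_zero] at h4
  rcases h4 with h4 | h4
  · exact absurd (by exact_mod_cast h4) hp0
  · exact h4

/-- The range of `τ - 1` modulo `T - 1`. -/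
lemma exists_basis_mod [Fact p.Prime] [Module.Finite ℤ F] (hτ : τ = T ^ q) (hp : τ ^ p = 1) :
    ∃ (r : ℕ) (y : Fin r → F),
      (∀ x ∈ LinearMap.range (τ - 1), ∃ (a : Fin r → ℤ) (z : F), z ∈ LinearMap.range (τ - 1) ∧
        x = ∑ i, a i • ((τ - 1) (y i)) + (T z - z)) ∧
      ∀ (a : Fin r → ℤ) (z : F), z ∈ LinearMap.range (τ - 1) → ∑ i, a i • ((τ - 1) (y i)) = T z - z →
        ∀ i, (p : ℤ) ∣ a i := by
  let F2 : Submodule ℤ F := LinearMap.range (τ - 1)
  let A : Submodule ℤ F := F2.map (T - 1)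
  let A2 : Submodule ℤ F2 := A.comap F2.subtype
  have hpV : ∀ v : F2 ⧸ A2, p • v = 0 := by
    intro v
    obtain ⟨x, rfl⟩ := Submodule.Quotient.mk_surjective _ v
    rw [← Submodule.Quotient.mk_smul, Submodule.Quotient.mk_eq_zero]
    obtain ⟨z, hz, hz2⟩ := smul_mem q T τ hτ hp x.2
    refine ⟨z, hz, ?_⟩
    simp only [LinearMap.sub_apply, Module.End.one_apply, ← hz2]
    simp
  obtain ⟨r, b, hb1, hb2⟩ := exists_modp_basis p hpV
  have hlift : ∀ i, ∃ y : F, (Submodule.Quotient.mk (⟨(τ - 1) y, ⟨y, rfl⟩⟩ : F2) : F2 ⧸ A2) = b i := by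
    intro i
    obtain ⟨⟨x, y, rfl⟩, hx⟩ := Submodule.Quotient.mk_surjective _ (b i)
    exact ⟨y, hx⟩
  choose y hy using hlift
  have hsum : ∀ a : Fin r → ℤ,
      (Submodule.Quotient.mk (⟨∑ i, a i • ((τ - 1) (y i)), Submodule.sum_mem _ fun i _ =>
        Submodule.smul_mem _ _ ⟨y i, rfl⟩⟩ : F2) : F2 ⧸ A2) = ∑ i, a i • b i := by
    intro a
    have h1 : (⟨∑ i, a i • ((τ - 1) (y i)), Submodule.sum_mem _ fun i _ =>
        Submodule.smul_mem _ _ ⟨y i, rfl⟩⟩ : F2) = ∑ i, a i • (⟨(τ - 1) (y i), ⟨y i, rfl⟩⟩ : F2) := by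
      ext
      simp
    rw [h1]
    change A2.mkQ _ = _
    rw [map_sum]
    refine Finset.sum_congr rfl fun i _ => ?_
    rw [map_smul]
    congr 1
    exact hy i
  refine ⟨_, y, ?_, ?_⟩
  · intro x hx
    obtain ⟨a, ha⟩ := hb1 (Submodule.Quotient.mk ⟨x, hx⟩)
    have h1 := hsum a
    rw [← ha, Submodule.Quotient.eq] at h1
    obtain ⟨z, hz, hz2⟩ := h1
    refine ⟨a, -z, Submodule.neg_mem _ hz, ?_⟩
    have hz3 : T z - z = ∑ i, a i • ((τ - 1) (y i)) - x := hz2
    have hz4 : T (-z) - -z = -(T z - z) := by rw [map_neg]; abel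
    rw [hz4, hz3]
    abel
  · intro a z hz h i
    have h1 := hsum a
    have h2 : (Submodule.Quotient.mk (⟨∑ i, a i • ((τ - 1) (y i)), Submodule.sum_mem _ fun i _ =>
        Submodule.smul_mem _ _ ⟨y i, rfl⟩⟩ : F2) : F2 ⧸ A2) = 0 := by
      rw [Submodule.Quotient.mk_eq_zero]
      exact ⟨z, hz, h.symm⟩
    rw [h2] at h1
    exact hb2 a h1.symm i

end Sub

section Cores

variable {p : ℕ} [Fact p.Prime] (q : ℕ) (T τ : Module.End ℤ F) {P : Type*} [AddCommGroup P] (s σ : Module.End ℤ P)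
  (g : P →ₗ[ℤ] F) (hg : ∀ y, g (s y) = T (g y))

include hg in
lemma map_pow_apply (n : ℕ) (y : P) : g ((s ^ n) y) = (T ^ n) (g y) := by
  induction n generalizing y with
  | zero => simp
  | succ n ih => rw [pow_succ, Module.End.mul_apply, ih, hg, pow_succ, Module.End.mul_apply]

include hg in
/-- Injectivity of the comparison map on the range of `σ - 1`. -/
lemma injOn_range [Module.IsTorsionFree ℤ F] [Module.IsTorsionFree ℤ P] [Module.Finite ℤ P]
    (n : ℕ) (hsn : s ^ p ^ n = 1)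
    (hτ : τ = T ^ q) (hp : τ ^ p = 1) (hσ : σ = s ^ q) (hpσ : σ ^ p = 1) {r : ℕ} (e : Fin r → P) (y : Fin r → F)
    (hey : ∀ i, g (e i) = y i)
    (hgen : ∀ w : P, ∃ (a : Fin r → ℤ) (z : P), w = ∑ i, a i • e i + (s z - z))
    (hind : ∀ (a : Fin r → ℤ) (z : F), z ∈ LinearMap.range (τ - 1) → ∑ i, a i • ((τ - 1) (y i)) = T z - z →
        ∀ i, (p : ℤ) ∣ a i) {w : P} (hw : w ∈ LinearMap.range (σ - 1)) (hgw : g w = 0) : w = 0 := by
  have hp0 : p ≠ 0 := (Fact.out : p.Prime).ne_zero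
  have hgσ : ∀ v, g ((σ - 1) v) = (τ - 1) (g v) := by
    intro v
    simp only [LinearMap.sub_apply, Module.End.one_apply, map_sub]
    rw [hσ, hτ, map_pow_apply T s g hg]
  have hcomm : ∀ v, s ((σ - 1) v) = (σ - 1) (s v) := by
    intro v
    have : s * (σ - 1) = (σ - 1) * s := by
      rw [hσ, mul_sub, sub_mul, ← pow_succ', ← pow_succ, mul_one, one_mul]
    exact congrArg (fun f : Module.End ℤ P => f v) this
  -- one step
  have step : ∀ w ∈ LinearMap.range (σ - 1), g w = 0 → ∃ w' ∈ LinearMap.range (σ - 1), g w' = 0 ∧ w = s w' - w' := by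
    rintro w ⟨v, rfl⟩ hgw
    obtain ⟨a, z, hz⟩ := hgen v
    have h1 : (σ - 1) v = ∑ i, a i • (σ - 1) (e i) + (s ((σ - 1) z) - (σ - 1) z) := by
      rw [hz, map_add, map_sum, map_sub, hcomm]
      simp
    have h2 : ∑ i, a i • ((τ - 1) (y i)) = T (-(g ((σ - 1) z))) - (-(g ((σ - 1) z))) := by
      rw [h1, map_add, map_sum, map_sub, hg] at hgw
      have h3 : ∑ i, g (a i • (σ - 1) (e i)) = ∑ i, a i • ((τ - 1) (y i)) :=
        Finset.sum_congr rfl fun i _ => by rw [map_smul, hgσ, hey]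
      rw [h3] at hgw
      rw [map_neg, eq_neg_of_add_eq_zero_left hgw]
      abel
    have h4 := hind a _ (Submodule.neg_mem _ (by rw [hgσ]; exact ⟨_, rfl⟩)) h2
    choose c hc using h4
    have h5 : ∑ i, a i • (σ - 1) (e i) = (p : ℤ) • ((σ - 1) (∑ i, c i • e i)) := by
      rw [map_sum, Finset.smul_sum]
      refine Finset.sum_congr rfl fun i _ => ?_
      rw [hc, map_smul, mul_smul]
    obtain ⟨z', hz', hz'2⟩ := smul_mem q s σ hσ hpσ (x := (σ - 1) (∑ i, c i • e i)) ⟨_, rfl⟩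
    refine ⟨z' + (σ - 1) z, Submodule.add_mem _ hz' ⟨_, rfl⟩, ?_, ?_⟩
    · obtain ⟨v', hv'⟩ := Submodule.add_mem _ hz' (⟨z, rfl⟩ : (σ - 1) z ∈ LinearMap.range (σ - 1))
      refine eq_zero_of_fixed q T τ hp0 hτ hp ?_ ?_
      · rw [← hv', hgσ]; exact ⟨_, rfl⟩
      · have h6 : (σ - 1) v = s (z' + (σ - 1) z) - (z' + (σ - 1) z) := by
          rw [h1, h5, hz'2, map_add]; abel
        rw [h6, map_sub, hg, sub_eq_zero] at hgw
        exact hgw
    · rw [h1, h5, hz'2, map_add]; abel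
  have iter : ∀ m : ℕ, ∀ w ∈ LinearMap.range (σ - 1), g w = 0 → ∃ w' ∈ LinearMap.range (σ - 1), g w' = 0 ∧
      w = ((s - 1) ^ m) w' := by
    intro m
    induction m with
    | zero => exact fun w hw hgw => ⟨w, hw, hgw, by simp⟩
    | succ m ih =>
      intro w hw hgw
      obtain ⟨w1, hw1, hgw1, rfl⟩ := ih w hw hgw
      obtain ⟨w2, hw2, hgw2, rfl⟩ := step w1 hw1 hgw1
      exact ⟨w2, hw2, hgw2, by rw [pow_succ, Module.End.mul_apply]; rfl⟩
  obtain ⟨ρ, hρ⟩ := sub_one_pow_eq (Fact.out : p.Prime) n s hsn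
  have hdiv : ∀ m : ℕ, ∀ w ∈ LinearMap.range (σ - 1), g w = 0 → ∃ v : P, w = ((p : ℤ) ^ m) • v := by
    intro m w hw hgw
    obtain ⟨w', -, -, h⟩ := iter (p ^ n * m) w hw hgw
    refine ⟨(ρ ^ m) w', ?_⟩
    rw [h, pow_mul, hρ, smul_pow]
    rfl
  -- intersection of `p ^ m P` is zero
  have hfree : Module.Free ℤ P := inferInstance
  let b := Module.Free.chooseBasis ℤ P
  apply b.ext_elem
  intro i
  rw [map_zero, Finsupp.zero_apply]
  by_contra hne
  have h1 : ∀ m : ℕ, (p : ℤ) ^ m ∣ b.repr w i := by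
    intro m
    obtain ⟨v, hv⟩ := hdiv m w hw hgw
    rw [hv, map_smul, Finsupp.smul_apply, smul_eq_mul]
    exact Dvd.intro _ rfl
  have hfin := Int.finiteMultiplicity_iff.2 ⟨(by rw [Int.natAbs_natCast]; exact (Fact.out : p.Prime).ne_one), hne⟩
  obtain ⟨m, hm⟩ := hfin
  exact hm (h1 _)

include hg in
/-- The comparison map is surjective up to an integer prime to `p`. -/
lemma exists_smul_mem [Module.Finite ℤ F] (n : ℕ) (hTn : T ^ p ^ n = 1)
    (hτ : τ = T ^ q) (hσ : σ = s ^ q) {r : ℕ} (e : Fin r → P) (y : Fin r → F) (hey : ∀ i, g (e i) = y i)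
    (hgen : ∀ x ∈ LinearMap.range (τ - 1), ∃ (a : Fin r → ℤ) (z : F), z ∈ LinearMap.range (τ - 1) ∧
        x = ∑ i, a i • ((τ - 1) (y i)) + (T z - z)) :
    ∃ m : ℤ, ¬ (p : ℤ) ∣ m ∧ ∀ x ∈ LinearMap.range (τ - 1), ∃ w ∈ LinearMap.range (σ - 1), g w = m • x := by
  have hgσ : ∀ v, g ((σ - 1) v) = (τ - 1) (g v) := by
    intro v
    simp only [LinearMap.sub_apply, Module.End.one_apply, map_sub]
    rw [hσ, hτ, map_pow_apply T s g hg]
  let X : Submodule ℤ F := (LinearMap.range (σ - 1)).map g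
  have hTX : ∀ x ∈ X, T x ∈ X := by
    rintro _ ⟨_, ⟨v, rfl⟩, rfl⟩
    refine ⟨(σ - 1) (s v), ⟨_, rfl⟩, ?_⟩
    rw [hgσ, hgσ, hg]
    have : (τ - 1) * T = T * (τ - 1) := by
      rw [hτ, mul_sub, sub_mul, ← pow_succ', ← pow_succ, mul_one, one_mul]
    exact congrArg (fun f : Module.End ℤ F => f (g v)) this
  have hstep : ∀ x ∈ LinearMap.range (τ - 1), ∃ z ∈ LinearMap.range (τ - 1), x - (T z - z) ∈ X := by
    intro x hx
    obtain ⟨a, z, hz, hxz⟩ := hgen x hx
    refine ⟨z, hz, ?_⟩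
    rw [hxz, add_sub_cancel_right]
    refine Submodule.sum_mem _ fun i _ => Submodule.smul_mem _ _ ⟨(σ - 1) (e i), ⟨_, rfl⟩, ?_⟩
    rw [hgσ, hey]
  have hiter : ∀ m : ℕ, ∀ x ∈ LinearMap.range (τ - 1), ∃ z ∈ LinearMap.range (τ - 1), x - ((T - 1) ^ m) z ∈ X := by
    intro m
    induction m with
    | zero => exact fun x hx => ⟨x, hx, by simp⟩
    | succ m ih =>
      intro x hx
      obtain ⟨z, hz, hzx⟩ := ih x hx
      obtain ⟨z2, hz2, hzx2⟩ := hstep z hz
      refine ⟨z2, hz2, ?_⟩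
      have hX : ∀ k : ℕ, ∀ v ∈ X, ((T - 1) ^ k) v ∈ X := by
        intro k
        induction k with
        | zero => exact fun v hv => by simpa using hv
        | succ k ihk =>
          intro v hv
          rw [pow_succ, Module.End.mul_apply]
          exact ihk _ (Submodule.sub_mem _ (hTX v hv) hv)
      have h1 := Submodule.add_mem _ hzx (hX m _ hzx2)
      rw [map_sub] at h1
      have h2 : ((T - 1) ^ m) (T z2 - z2) = ((T - 1) ^ (m + 1)) z2 := by
        rw [pow_succ, Module.End.mul_apply]; rfl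
      rw [h2] at h1
      simpa using h1
  obtain ⟨ρ, hρ⟩ := sub_one_pow_eq (Fact.out : p.Prime) n T hTn
  let N : Submodule ℤ (F ⧸ X) := (LinearMap.range (τ - 1)).map X.mkQ
  have hN : N ≤ Ideal.span {(p : ℤ)} • N := by
    rintro _ ⟨x, hx, rfl⟩
    obtain ⟨z, hz, hzx⟩ := hiter (p ^ n) x hx
    obtain ⟨v, rfl⟩ := hz
    have h3 : ((T - 1) ^ p ^ n) ((τ - 1) v) = (p : ℤ) • ((τ - 1) (ρ v)) := by
      have h4 : ((T - 1) ^ p ^ n) * (τ - 1) = (τ - 1) * ((T - 1) ^ p ^ n) := by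
        have : Commute (T - 1) (τ - 1) := by
          rw [hτ]
          exact (((Commute.refl T).pow_right q).sub_right (Commute.one_right _)).sub_left (Commute.one_left _)
        exact this.pow_left _
      have h5 := congrArg (fun f : Module.End ℤ F => f v) h4
      simp only [Module.End.mul_apply] at h5
      rw [h5, hρ, LinearMap.smul_apply, map_smul]
    rw [h3] at hzx
    have h6 : X.mkQ x = (p : ℤ) • X.mkQ ((τ - 1) (ρ v)) := by
      rw [← sub_eq_zero, ← map_smul, ← map_sub, Submodule.mkQ_apply, Submodule.Quotient.mk_eq_zero]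
      exact hzx
    rw [h6]
    exact Submodule.smul_mem_smul (Ideal.mem_span_singleton_self _) ⟨_, ⟨_, rfl⟩, rfl⟩
  have hfg : N.FG := ((Module.Finite.fg_top (R := ℤ) (M := F)).map (τ - 1)).map X.mkQ |> fun h => by
    rwa [← LinearMap.range_eq_map] at h
  obtain ⟨m, hm1, hm2⟩ := Submodule.exists_sub_one_mem_and_smul_eq_zero_of_fg_of_le_smul _ N hfg hN
  refine ⟨m, ?_, ?_⟩
  · intro hdvd
    rw [Ideal.mem_span_singleton] at hm1
    have h1 : (p : ℤ) ∣ 1 := by
      have := dvd_sub hdvd hm1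
      simpa using this
    have h2 := Int.natAbs_dvd_natAbs.2 h1
    simp only [Int.natAbs_natCast, Int.natAbs_one, Nat.dvd_one] at h2
    exact (Fact.out : p.Prime).ne_one h2
  · intro x hx
    have h1 := hm2 (X.mkQ x) ⟨x, hx, rfl⟩
    rw [← map_smul, Submodule.mkQ_apply, Submodule.Quotient.mk_eq_zero] at h1
    exact h1

end Cores

section Induced

/-- powers indexed by `ZMod n` -/
def Tz {M : Type*} [Monoid M] (n : ℕ) (T : M) (a : ZMod n) : M := T ^ a.val

lemma Tz_natCast {M : Type*} [Monoid M] {n : ℕ} {T : M} (hT : T ^ n = 1) (m : ℕ) : Tz n T (m : ZMod n) = T ^ m := by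
  rw [Tz, ZMod.val_natCast, ← pow_eq_pow_mod m hT]

lemma Tz_add {M : Type*} [Monoid M] {n : ℕ} [NeZero n] {T : M} (hT : T ^ n = 1) (a b : ZMod n) :
    Tz n T (a + b) = Tz n T a * Tz n T b := by
  rw [Tz, Tz, Tz, ZMod.val_add, ← pow_eq_pow_mod _ hT, pow_add]

lemma Tz_one {M : Type*} [Monoid M] {n : ℕ} {T : M} (hT : T ^ n = 1) : Tz n T 1 = T := by
  have := Tz_natCast hT 1
  simpa using this

/-- the shift on `Fin r × ZMod n` -/
def tI (r n : ℕ) : Equiv.Perm (Fin r × ZMod n) := Equiv.prodCongr (Equiv.refl _) (Equiv.addRight 1)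

lemma tI_pow_apply (r n m : ℕ) (x : Fin r × ZMod n) : (tI r n ^ m) x = (x.1, x.2 + m) := by
  induction m generalizing x with
  | zero => simp
  | succ m ih =>
    rw [pow_succ, Equiv.Perm.mul_apply, ih]
    simp only [tI, Equiv.prodCongr_apply, Equiv.coe_refl, Equiv.coe_addRight, Prod.map, id, Nat.cast_succ]
    congr 1
    ring

lemma tI_pow (r n : ℕ) : tI r n ^ n = 1 := by
  ext x : 1
  rw [tI_pow_apply]
  simp

lemma shift_mul {ι : Type*} (t t' : Equiv.Perm ι) : (shift t : Module.End ℤ (ι → ℤ)) * shift t' = shift (t * t') := by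
  refine LinearMap.ext fun y => ?_
  funext i
  simp only [Module.End.mul_apply, shift_apply]
  rw [mul_inv_rev]
  rfl

lemma shift_one {ι : Type*} : (shift (1 : Equiv.Perm ι) : Module.End ℤ (ι → ℤ)) = 1 := by
  refine LinearMap.ext fun y => ?_
  funext i
  simp

lemma shift_pow {ι : Type*} (t : Equiv.Perm ι) (m : ℕ) : (shift t : Module.End ℤ (ι → ℤ)) ^ m = shift (t ^ m) := by
  induction m with
  | zero => simp [shift_one]
  | succ m ih => rw [pow_succ, ih, shift_mul, ← pow_succ]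

lemma shift_tI_pow_apply (r n m : ℕ) (y : Fin r × ZMod n → ℤ) (x : Fin r × ZMod n) :
    (((shift (tI r n) : Module.End ℤ (Fin r × ZMod n → ℤ)) ^ m) y) x = y (x.1, x.2 - m) := by
  rw [shift_pow, shift_apply]
  congr 1
  rw [Equiv.Perm.inv_eq_iff_eq, tI_pow_apply]
  simp

variable {r n : ℕ} [NeZero n] (T : Module.End ℤ F) (y : Fin r → F)

/-- the map from the induced module given by `r` vectors -/
noncomputable def gI : (Fin r × ZMod n → ℤ) →ₗ[ℤ] F where
  toFun w := ∑ x, w x • Tz n T x.2 (y x.1)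
  map_add' w w' := by
    rw [← Finset.sum_add_distrib]
    exact Finset.sum_congr rfl fun x _ => by rw [Pi.add_apply, add_smul]
  map_smul' c w := by
    rw [RingHom.id_apply, Finset.smul_sum]
    exact Finset.sum_congr rfl fun x _ => by rw [Pi.smul_apply, smul_eq_mul, mul_smul]

lemma gI_apply (w : Fin r × ZMod n → ℤ) : gI T y w = ∑ x, w x • Tz n T x.2 (y x.1) := rfl

lemma gI_single (i : Fin r) : gI (n := n) T y (Pi.single (i, 0) 1) = y i := by
  rw [gI_apply, Finset.sum_eq_single (i, 0)]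
  · simp [Tz]
  · intro x _ hx
    rw [Pi.single_eq_of_ne hx, zero_smul]
  · simp

lemma gI_shift (hT : T ^ n = 1) (w : Fin r × ZMod n → ℤ) : gI T y (shift (tI r n) w) = T (gI T y w) := by
  rw [gI_apply, gI_apply, map_sum, ← Equiv.sum_comp (tI r n)]
  refine Finset.sum_congr rfl fun x _ => ?_
  rw [shift_apply, Equiv.Perm.inv_def, Equiv.symm_apply_apply, map_smul]
  congr 1
  have h1 : (tI r n x).2 = 1 + x.2 := by
    have := tI_pow_apply r n 1 x
    rw [pow_one] at this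
    rw [this]
    push_cast
    ring
  have h2 : (tI r n x).1 = x.1 := rfl
  rw [h1, h2, Tz_add hT, Tz_one hT, Module.End.mul_apply]

lemma shift_pow_single (i : Fin r) (a : ZMod n) :
    ((shift (tI r n) : Module.End ℤ (Fin r × ZMod n → ℤ)) ^ a.val) (Pi.single (i, 0) 1) = Pi.single (i, a) 1 := by
  funext x
  rw [shift_tI_pow_apply, ZMod.natCast_zmod_val]
  by_cases hx : x = (i, a)
  · rw [hx]; simp
  · rw [Pi.single_eq_of_ne hx, Pi.single_eq_of_ne]
    intro h
    apply hx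
    obtain ⟨x1, x2⟩ := x
    simp only [Prod.mk.injEq] at h ⊢
    exact ⟨h.1, by rw [sub_eq_zero] at h; exact h.2⟩

lemma exists_gen (w : Fin r × ZMod n → ℤ) : ∃ (a : Fin r → ℤ) (z : Fin r × ZMod n → ℤ),
    w = ∑ i, a i • (Pi.single (i, 0) 1 : Fin r × ZMod n → ℤ) + (shift (tI r n) z - z) := by
  classical
  let s : Module.End ℤ (Fin r × ZMod n → ℤ) := shift (tI r n)
  refine ⟨fun i => ∑ a, w (i, a), ∑ x : Fin r × ZMod n, w x • nrm s x.2.val (Pi.single (x.1, 0) 1), ?_⟩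
  have h1 : w = ∑ x : Fin r × ZMod n, w x • (Pi.single x 1 : Fin r × ZMod n → ℤ) := by
    funext z
    rw [Finset.sum_apply, Finset.sum_eq_single z]
    · simp
    · intro b _ hb
      rw [Pi.smul_apply, Pi.single_eq_of_ne hb.symm, smul_zero]
    · simp
  have h2 : ∀ x : Fin r × ZMod n, (Pi.single x 1 : Fin r × ZMod n → ℤ) = Pi.single (x.1, 0) 1 +
      (s (nrm s x.2.val (Pi.single (x.1, 0) 1)) - nrm s x.2.val (Pi.single (x.1, 0) 1)) := by
    intro x
    have h3 := congrArg (fun f : Module.End ℤ _ => f (Pi.single (x.1, 0) 1)) (sub_mul_nrm s x.2.val)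
    simp only [Module.End.mul_apply, LinearMap.sub_apply, Module.End.one_apply] at h3
    rw [h3, shift_pow_single]
    simp
  conv_lhs => rw [h1]
  rw [Finset.sum_congr rfl fun x _ => by rw [h2 x, smul_add], Finset.sum_add_distrib]
  congr 1
  · rw [Fintype.sum_prod_type]
    refine Finset.sum_congr rfl fun i _ => ?_
    rw [Finset.sum_smul]
  · rw [map_sum, ← Finset.sum_sub_distrib]
    refine Finset.sum_congr rfl fun x _ => ?_
    rw [map_smul, smul_sub]

end Induced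

section Main

variable {p : ℕ} [Fact p.Prime]

/-- the restriction of `T` to the kernel of `T ^ q - 1` -/
def resKer (q : ℕ) (T : Module.End ℤ F) : Module.End ℤ (LinearMap.ker (T ^ q - 1)) :=
  T.restrict (fun x hx => by
    rw [LinearMap.mem_ker] at hx ⊢
    have : (T ^ q - 1) * T = T * (T ^ q - 1) := by
      rw [mul_sub, sub_mul, ← pow_succ', ← pow_succ, mul_one, one_mul]
    have h2 := congrArg (fun f : Module.End ℤ F => f x) this
    simp only [Module.End.mul_apply] at h2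
    rw [h2, hx, map_zero])

lemma resKer_coe (q : ℕ) (T : Module.End ℤ F) (x : LinearMap.ker (T ^ q - 1)) :
    ((resKer q T x : LinearMap.ker (T ^ q - 1)) : F) = T x := rfl

lemma resKer_pow_coe (q : ℕ) (T : Module.End ℤ F) (m : ℕ) (x : LinearMap.ker (T ^ q - 1)) :
    (((resKer q T ^ m) x : LinearMap.ker (T ^ q - 1)) : F) = (T ^ m) x := by
  induction m generalizing x with
  | zero => simp
  | succ m ih => rw [pow_succ, Module.End.mul_apply, ih, resKer_coe, pow_succ, Module.End.mul_apply]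

lemma resKer_pow (q : ℕ) (T : Module.End ℤ F) : resKer q T ^ q = 1 := by
  refine LinearMap.ext fun x => Subtype.ext ?_
  rw [resKer_pow_coe]
  have := x.2
  rw [LinearMap.mem_ker, LinearMap.sub_apply, sub_eq_zero] at this
  exact this

omit [Fact p.Prime] in
/-- Flasqueness passes to the kernel of `T ^ p ^ k - 1`. -/
lemma Fl.resKer {k : ℕ} {T : Module.End ℤ F} (h : Fl p (k + 1) T) : Fl p k (resKer (p ^ k) T) := by
  intro j hj x hx
  have hxk : (T ^ p ^ k) (x : F) = x := by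
    have := x.2
    rw [LinearMap.mem_ker, LinearMap.sub_apply, sub_eq_zero] at this
    exact this
  let g : Module.End ℤ F := T ^ p ^ (k - j)
  have hgp : g ^ p ^ j = T ^ p ^ k := by
    rw [← pow_mul, ← pow_add, Nat.sub_add_cancel hj]
  have hx' : nrm g (p ^ j) (x : F) = 0 := by
    have h1 := congrArg Subtype.val hx
    rw [nrm, LinearMap.sum_apply, AddSubmonoidClass.coe_finsetSum] at h1
    rw [nrm, LinearMap.sum_apply]
    refine Eq.trans ?_ h1
    refine Finset.sum_congr rfl fun i _ => ?_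
    rw [← pow_mul, ← pow_mul, resKer_pow_coe]
  have hx2 : nrm g (p ^ (j + 1)) (x : F) = 0 := by
    rw [pow_succ, nrm_mul, Module.End.mul_apply, hx', map_zero]
  have hk : k + 1 - (j + 1) = k - j := by omega
  obtain ⟨y, hy⟩ := h (j + 1) (by omega) (x : F) (by rw [hk]; exact hx2)
  rw [hk] at hy
  have hyk : y ∈ LinearMap.ker (T ^ p ^ k - 1) := by
    rw [LinearMap.mem_ker, ← hgp, ← nrm_mul_sub, Module.End.mul_apply]
    have h3 : (g - 1) y = x := hy
    rw [h3, hx']
  refine ⟨⟨y, hyk⟩, Subtype.ext ?_⟩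
  rw [← hy]
  change (((CycLat.resKer (p ^ k) T ^ p ^ (k - j)) ⟨y, hyk⟩ : LinearMap.ker (T ^ p ^ k - 1)) : F) - y = _
  rw [resKer_pow_coe]

omit [Fact p.Prime] in
/-- For `F` flasque, `range (τ - 1)` is a direct summand: functionals vanishing on `ker (τ - 1)` factor through
`τ - 1`. -/
lemma exists_factor [Module.Finite ℤ F] [Module.Free ℤ F] (τ : Module.End ℤ F)
    (hker : ∀ x : F, nrm τ p x = 0 → ∃ y, τ y - y = x) (hp : τ ^ p = 1) {V : Type*} [AddCommGroup V]
    (ψ : F →ₗ[ℤ] V) (hψ : ∀ x, τ x = x → ψ x = 0) : ∃ Ψ : F →ₗ[ℤ] V, ∀ v, Ψ (τ v - v) = ψ v := by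
  let N' : F →ₗ[ℤ] LinearMap.range (nrm τ p) := (nrm τ p).rangeRestrict
  have hproj : Module.Projective ℤ (LinearMap.range (nrm τ p)) := inferInstance
  obtain ⟨sec, hsec⟩ := Module.projective_lifting_property N' LinearMap.id (nrm τ p).surjective_rangeRestrict
  have hsec' : ∀ v, N' (sec v) = v := fun v => congrArg (fun f : _ →ₗ[ℤ] _ => f v) hsec
  have h1 : ∀ v : F, nrm τ p (v - sec (N' v)) = 0 := by
    intro v
    have := congrArg Subtype.val (hsec' (N' v))
    rw [map_sub, sub_eq_zero]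
    exact this.symm
  -- `v - sec (N' v)` lies in the range of `τ - 1`
  have h2 : ∀ v : F, v - sec (N' v) ∈ LinearMap.range (τ - 1) := by
    intro v
    obtain ⟨y, hy⟩ := hker _ (h1 v)
    exact ⟨y, hy⟩
  -- the functional on the range
  have h3 : LinearMap.ker (τ - 1) ≤ LinearMap.ker ψ := by
    intro x hx
    rw [LinearMap.mem_ker, LinearMap.sub_apply, sub_eq_zero] at hx
    exact hψ x hx
  let ψ0 : LinearMap.range (τ - 1) →ₗ[ℤ] V :=
    ((LinearMap.ker (τ - 1)).liftQ ψ h3).comp ((τ - 1).quotKerEquivRange.symm : _ →ₗ[ℤ] _)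
  have h4 : ∀ v, ψ0 ⟨(τ - 1) v, ⟨v, rfl⟩⟩ = ψ v := by
    intro v
    have h5 : (τ - 1).quotKerEquivRange.symm ⟨(τ - 1) v, ⟨v, rfl⟩⟩ = Submodule.Quotient.mk v := by
      rw [LinearEquiv.symm_apply_eq]
      rfl
    change ((LinearMap.ker (τ - 1)).liftQ ψ h3) ((τ - 1).quotKerEquivRange.symm ⟨(τ - 1) v, ⟨v, rfl⟩⟩) = _
    rw [h5]
    rfl
  let pr : F →ₗ[ℤ] LinearMap.range (τ - 1) := LinearMap.codRestrict _ (LinearMap.id - sec.comp N') h2
  refine ⟨ψ0.comp pr, fun v => ?_⟩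
  have h6 : pr (τ v - v) = ⟨(τ - 1) v, ⟨v, rfl⟩⟩ := by
    apply Subtype.ext
    change (τ v - v) - sec (N' (τ v - v)) = _
    have h7 : N' (τ v - v) = 0 := by
      apply Subtype.ext
      change nrm τ p ((τ - 1) v) = 0
      rw [← Module.End.mul_apply, nrm_mul_sub, hp, sub_self, LinearMap.zero_apply]
    rw [h7, map_zero, sub_zero]
    rfl
  rw [LinearMap.comp_apply, h6, h4]

/-- The induction step. -/
theorem PInv.step [Module.Finite ℤ F] [Module.Free ℤ F] {k : ℕ} {T : Module.End ℤ F} (hT : T ^ p ^ (k + 1) = 1)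
    (hFl : Fl p (k + 1) T) (ih : PInv p (p ^ k) (resKer (p ^ k) T)) : PInv p (p ^ (k + 1)) T := by
  have hp0 : p ≠ 0 := (Fact.out : p.Prime).ne_zero
  have : NeZero p := ⟨hp0⟩
  let q := p ^ k
  let n := p ^ (k + 1)
  have : NeZero n := ⟨pow_ne_zero _ hp0⟩
  let τ : Module.End ℤ F := T ^ q
  have hτp : τ ^ p = 1 := by rw [← pow_mul, ← hT, pow_succ]
  have hker : ∀ x : F, nrm τ p x = 0 → ∃ y, τ y - y = x := by
    intro x hx
    have := hFl 1 (by omega) x
    rw [Nat.add_sub_cancel, pow_one] at this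
    exact this hx
  obtain ⟨r, y, hy1, hy2⟩ := exists_basis_mod (p := p) q T τ rfl hτp
  let s : Module.End ℤ (Fin r × ZMod n → ℤ) := shift (tI r n)
  have hsn : s ^ n = 1 := by rw [shift_pow, tI_pow, shift_one]
  let σ : Module.End ℤ (Fin r × ZMod n → ℤ) := s ^ q
  have hσp : σ ^ p = 1 := by rw [← pow_mul, ← hsn, ← pow_succ]
  let g : (Fin r × ZMod n → ℤ) →ₗ[ℤ] F := gI T y
  have hg : ∀ w, g (s w) = T (g w) := gI_shift T y hT
  let e : Fin r → (Fin r × ZMod n → ℤ) := fun i => Pi.single (i, 0) 1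
  have hey : ∀ i, g (e i) = y i := gI_single T y
  have hgσ : ∀ v, g ((σ - 1) v) = (τ - 1) (g v) := by
    intro v
    simp only [LinearMap.sub_apply, Module.End.one_apply, map_sub]
    rw [map_pow_apply T s g hg]
  have hinj : ∀ w ∈ LinearMap.range (σ - 1), g w = 0 → w = 0 := fun w hw hgw =>
    injOn_range q T τ s σ g hg (k + 1) hsn rfl hτp rfl hσp e y hey exists_gen hy2 hw hgw
  obtain ⟨m, hm, hmem⟩ := exists_smul_mem q T τ s σ g hg (k + 1) hT rfl rfl e y hey hy1
  -- the map `φ`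
  let W : Submodule ℤ (Fin r × ZMod n → ℤ) := LinearMap.range (σ - 1)
  let gW : W →ₗ[ℤ] F := g.domRestrict W
  have hgW : Function.Injective gW := by
    rw [injective_iff_map_eq_zero]
    intro w hw
    exact Subtype.ext (hinj w w.2 hw)
  have hmem' : ∀ v : F, (m • (τ - 1)) v ∈ LinearMap.range gW := by
    intro v
    obtain ⟨w, hw, hgw⟩ := hmem ((τ - 1) v) ⟨v, rfl⟩
    exact ⟨⟨w, hw⟩, hgw⟩
  let φ : F →ₗ[ℤ] W := ((LinearEquiv.ofInjective gW hgW).symm : _ →ₗ[ℤ] _).comp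
    (LinearMap.codRestrict _ (m • (τ - 1)) hmem')
  have hφ : ∀ v, g (φ v : Fin r × ZMod n → ℤ) = m • ((τ - 1) v) := by
    intro v
    have h1 : (LinearEquiv.ofInjective gW hgW) (φ v) = LinearMap.codRestrict _ (m • (τ - 1)) hmem' v := by
      change (LinearEquiv.ofInjective gW hgW) ((LinearEquiv.ofInjective gW hgW).symm _) = _
      rw [LinearEquiv.apply_symm_apply]
    have h2 := congrArg Subtype.val h1
    exact h2
  have hsσ : ∀ w, s ((σ - 1) w) = (σ - 1) (s w) := by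
    intro v
    have : s * (σ - 1) = (σ - 1) * s := by
      rw [mul_sub, sub_mul, ← pow_succ', ← pow_succ, mul_one, one_mul]
    exact congrArg (fun f : Module.End ℤ _ => f v) this
  have hφT : ∀ v, (φ (T v) : Fin r × ZMod n → ℤ) = s (φ v : Fin r × ZMod n → ℤ) := by
    intro v
    have hmemW : s (φ v : Fin r × ZMod n → ℤ) ∈ W := by
      obtain ⟨w, hw⟩ := (φ v).2
      rw [← hw, hsσ]
      exact ⟨_, rfl⟩
    have h1 : (φ (T v) : Fin r × ZMod n → ℤ) - s (φ v : Fin r × ZMod n → ℤ) = 0 := by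
      refine hinj _ (Submodule.sub_mem _ (φ (T v)).2 hmemW) ?_
      rw [map_sub, hg, hφ, hφ, map_smul]
      have : (τ - 1) * T = T * (τ - 1) := by
        rw [mul_sub, sub_mul, ← pow_succ', ← pow_succ, mul_one, one_mul]
      have h3 := congrArg (fun f : Module.End ℤ F => f v) this
      simp only [Module.End.mul_apply] at h3
      rw [h3, sub_self]
    exact sub_eq_zero.1 h1
  have hφTn : ∀ (j : ℕ) (v : F), (φ ((T ^ j) v) : Fin r × ZMod n → ℤ) = (s ^ j) (φ v : Fin r × ZMod n → ℤ) := by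
    intro j
    induction j with
    | zero => intro v; simp
    | succ j ihj => intro v; rw [pow_succ, Module.End.mul_apply, ihj, hφT, pow_succ, Module.End.mul_apply]
  -- the functional `ψ`
  let ψ : F →ₗ[ℤ] (Fin r → ℤ) :=
    (LinearMap.pi fun i => LinearMap.proj (i, (0 : ZMod n))).comp (W.subtype.comp φ)
  have hψ : ∀ v i, ψ v i = (φ v : Fin r × ZMod n → ℤ) (i, 0) := fun v i => rfl
  have hψ0 : ∀ x, τ x = x → ψ x = 0 := by
    intro x hx
    have h1 : (p : ℤ) • (φ x : Fin r × ZMod n → ℤ) = 0 := by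
      have h2 := nrm_apply_of_fixed τ p hx
      have h3 : (φ (nrm τ p x) : Fin r × ZMod n → ℤ) = nrm σ p (φ x : Fin r × ZMod n → ℤ) := by
        rw [nrm, nrm, LinearMap.sum_apply, LinearMap.sum_apply, map_sum, AddSubmonoidClass.coe_finsetSum]
        refine Finset.sum_congr rfl fun i _ => ?_
        rw [← pow_mul, hφTn, ← pow_mul]
      have h4 : nrm σ p (φ x : Fin r × ZMod n → ℤ) = 0 := by
        obtain ⟨w, hw⟩ := (φ x).2
        rw [← hw, ← Module.End.mul_apply, nrm_mul_sub, hσp, sub_self, LinearMap.zero_apply]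
      rw [h2, h4, map_smul] at h3
      exact h3
    have h5 : (φ x : Fin r × ZMod n → ℤ) = 0 := by
      rcases smul_eq_zero.1 h1 with h | h
      · exact absurd (by exact_mod_cast h) hp0
      · exact h
    funext i
    rw [hψ, h5]
    rfl
  obtain ⟨Ψ, hΨ⟩ := exists_factor τ hker hτp ψ hψ0
  -- the map `Φ`
  let Φ : F →ₗ[ℤ] (Fin r × ZMod n → ℤ) :=
    LinearMap.pi fun x => (LinearMap.proj x.1).comp (Ψ.comp (Tz n T (-x.2)))
  have hΦ : ∀ v x, Φ v x = Ψ (Tz n T (-x.2) v) x.1 := fun v x => rfl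
  have hΦT : ∀ v, Φ (T v) = s (Φ v) := by
    intro v
    funext x
    rw [hΦ, ← pow_one s, shift_tI_pow_apply, hΦ]
    congr 2
    have h1 : -(x.1, x.2 - ((1 : ℕ) : ZMod n)).2 = -x.2 + 1 := by
      push_cast
      ring
    rw [h1, Tz_add hT, Tz_one hT, Module.End.mul_apply]
  have hΦσ : ∀ v, (σ - 1) (Φ v) = (φ v : Fin r × ZMod n → ℤ) := by
    intro v
    funext x
    rw [LinearMap.sub_apply, Module.End.one_apply, Pi.sub_apply, shift_tI_pow_apply, hΦ, hΦ]
    have h1 : -(x.1, x.2 - (q : ZMod n)).2 = -x.2 + (q : ZMod n) := by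
      simp only
      ring
    rw [h1, Tz_add hT, Tz_natCast hT, Module.End.mul_apply, ← Pi.sub_apply, ← map_sub, ← map_sub]
    have h2 : (Tz n T (-x.2)) ((T ^ q) v - v) = τ (Tz n T (-x.2) v) - Tz n T (-x.2) v := by
      rw [map_sub]
      congr 1
      have : (Tz n T (-x.2)) * (T ^ q) = (T ^ q) * Tz n T (-x.2) := (Commute.refl T).pow_pow _ _
      exact congrArg (fun f : Module.End ℤ F => f v) this
    rw [h2, hΨ, hψ, Tz, hφTn, shift_tI_pow_apply]
    congr 1
    rw [ZMod.natCast_zmod_val]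
    simp
  obtain ⟨ι1, hι1, t1, i1, π1, m1, ht1, hi1, hπ1, hm1, hpm1⟩ := ih
  have hkerF : ∀ v, m • v - g (Φ v) ∈ LinearMap.ker (T ^ p ^ k - 1) := by
    intro v
    rw [LinearMap.mem_ker, map_sub, map_smul]
    have h1 : (T ^ p ^ k - 1) (g (Φ v)) = g ((σ - 1) (Φ v)) := (hgσ _).symm
    rw [h1, hΦσ, hφ, sub_self]
  let d : F →ₗ[ℤ] LinearMap.ker (T ^ p ^ k - 1) := LinearMap.codRestrict _ (m • LinearMap.id - g.comp Φ) hkerF
  have hd : ∀ v, ((d v : LinearMap.ker (T ^ p ^ k - 1)) : F) = m • v - g (Φ v) := fun v => rfl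
  have hdT : ∀ v, d (T v) = resKer (p ^ k) T (d v) := by
    intro v
    apply Subtype.ext
    rw [hd, resKer_coe, hd, hΦT, hg, map_sub, map_smul]
  let t : Equiv.Perm (ι1 ⊕ (Fin r × ZMod n)) := Equiv.sumCongr t1 (tI r n)
  let I : F →ₗ[ℤ] (ι1 ⊕ (Fin r × ZMod n) → ℤ) :=
    LinearMap.pi fun x => Sum.elim (fun a => (LinearMap.proj a).comp (i1.comp d))
      (fun b => (LinearMap.proj b).comp (m1 • Φ)) x
  let J : (ι1 ⊕ (Fin r × ZMod n) → ℤ) →ₗ[ℤ] F :=
    ((LinearMap.ker (T ^ p ^ k - 1)).subtype.comp (π1.comp (LinearMap.funLeft ℤ ℤ Sum.inl))) +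
      g.comp (LinearMap.funLeft ℤ ℤ Sum.inr)
  refine ⟨ι1 ⊕ (Fin r × ZMod n), inferInstance, t, I, J, m1 * m, ?_, ?_, ?_, ?_, ?_⟩
  · have h1 : t1 ^ p ^ (k + 1) = 1 := by rw [pow_succ, pow_mul, ht1, one_pow]
    have h2 : tI r n ^ p ^ (k + 1) = 1 := tI_pow r n
    have h3 : ∀ j : ℕ, t ^ j = Equiv.sumCongr (t1 ^ j) (tI r n ^ j) := by
      intro j
      induction j with
      | zero => ext x; rcases x with x | x <;> rfl
      | succ j ihj =>
        rw [pow_succ, ihj]
        ext x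
        rcases x with x | x
        · simp [t, pow_succ]
        · simp [t, pow_succ]
    rw [h3, h1, h2]
    ext x; rcases x with x | x <;> rfl
  · intro x
    funext z
    rcases z with z | z
    · change i1 (d (T x)) z = _
      rw [hdT, hi1]
      rfl
    · change (m1 • Φ (T x)) z = _
      rw [hΦT]
      rfl
  · intro w
    have h1 : (LinearMap.funLeft ℤ ℤ (Sum.inl : ι1 → _)) (shift t w) = shift t1 (LinearMap.funLeft ℤ ℤ Sum.inl w) := by
      funext z; rfl
    have h2 : (LinearMap.funLeft ℤ ℤ (Sum.inr : Fin r × ZMod n → ι1 ⊕ _)) (shift t w) =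
        s (LinearMap.funLeft ℤ ℤ Sum.inr w) := by
      funext z; rfl
    change ((π1 ((LinearMap.funLeft ℤ ℤ (Sum.inl : ι1 → _)) (shift t w)) : LinearMap.ker (T ^ p ^ k - 1)) : F) +
      g ((LinearMap.funLeft ℤ ℤ (Sum.inr : Fin r × ZMod n → ι1 ⊕ _)) (shift t w)) = T (_ + _)
    rw [h1, h2, hπ1, hg, map_add, resKer_coe]
    rfl
  · intro x
    change ((π1 (i1 (d x)) : LinearMap.ker (T ^ p ^ k - 1)) : F) + g (m1 • Φ x) = _
    rw [hm1, map_smul, Submodule.coe_smul, hd, mul_smul, ← smul_add]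
    congr 1
    abel
  · intro h
    rcases (Nat.prime_iff_prime_int.1 (Fact.out : p.Prime)).dvd_or_dvd h with h | h
    · exact hpm1 h
    · exact hm h

/-- **Flasque lattices over a cyclic `p`-group are `p`-locally invertible.** -/
theorem pInv_of_fl : ∀ (k : ℕ) {F : Type*} [AddCommGroup F] [Module.Finite ℤ F] [Module.Free ℤ F]
    (T : Module.End ℤ F) (_ : T ^ p ^ k = 1) (_ : Fl p k T), PInv p (p ^ k) T := by
  intro k
  induction k with
  | zero =>
    intro F _ _ _ T hT hFl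
    let b := Module.Free.chooseBasis ℤ F
    rw [pow_zero, pow_one] at hT
    let ι := Module.Free.ChooseBasisIndex ℤ F
    let c := (Fintype.equivFin ι)
    let B : F ≃ₗ[ℤ] (Fin (Fintype.card ι) → ℤ) := (b.reindex c).equivFun
    refine ⟨Fin (Fintype.card ι), inferInstance, 1, B, B.symm, 1, one_pow _, ?_, ?_, ?_, ?_⟩
    · intro x
      rw [hT, shift_one]
      rfl
    · intro y
      rw [hT, shift_one]
      rfl
    · intro x
      simp
    · intro h
      have h2 := Int.natAbs_dvd_natAbs.2 h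
      simp only [Int.natAbs_natCast, Int.natAbs_one, Nat.dvd_one] at h2
      exact (Fact.out : p.Prime).ne_one h2
  | succ k ih =>
    intro F _ _ _ T hT hFl
    exact PInv.step hT hFl (ih (resKer (p ^ k) T) (resKer_pow _ _) hFl.resKer)

end Main

end K964.CycLat
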