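import Groth.Agent.NonAbH1.K552.QuGlue
import Groth.Agent.MultTori.K964.Cocyc

/-!
# Gluing torsors over a disjoint union
-/

set_option autoImplicit false
universe u

open CategoryTheory CategoryTheory.Limits MonoidalCategory CartesianMonoidalCategory MonObj GrpObj AlgebraicGeometry
open TensorProduct

namespace K964.DisjGlue

open K552.Push

lemma hom_ext_empty {X Y : Scheme.{u}} [IsEmpty X] (f g : X ⟶ Y) : f = g := isInitialOfIsEmpty.hom_ext f g

lemma isEmpty_of_hom {X Y : Scheme.{u}} [IsEmpty Y] (f : X ⟶ Y) : IsEmpty X := ⟨fun x => isEmptyElim (f.base x)⟩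

lemma isPullback_of_isEmpty {W Q U : Scheme.{u}} [IsEmpty W] (f : W ⟶ Q) (π : Q ⟶ U) (p : W ⟶ U) :
    IsPullback f (𝟙 W) π p := by
  refine ⟨⟨hom_ext_empty _ _⟩, ⟨PullbackCone.IsLimit.mk _ (fun s => s.snd) (fun s => ?_) (fun s => ?_)
    (fun s m _ h2 => ?_)⟩⟩
  · have := isEmpty_of_hom s.snd
    exact hom_ext_empty _ _
  · exact Category.comp_id _
  · rw [← h2, Category.comp_id]

variable {B U₁ U₂ W : Scheme.{u}} (i₁ : U₁ ⟶ B) (i₂ : U₂ ⟶ B) [IsOpenImmersion i₁] [IsOpenImmersion i₂]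
  (hcov : ∀ x : B, x ∈ Set.range i₁ ∨ x ∈ Set.range i₂) {p₁ : W ⟶ U₁} {p₂ : W ⟶ U₂} (hW : IsPullback p₁ p₂ i₁ i₂)
  {M : Over B} [GrpObj M]

include hcov hW in
/-- **Gluing of torsors over a disjoint union.** -/
theorem exists_glue [IsEmpty W] (Y₁ : NonAbH1.TorsorSch (Red.bc i₁ M) Scheme.fppfPrecoverage)
    (Y₂ : NonAbH1.TorsorSch (Red.bc i₂ M) Scheme.fppfPrecoverage) :
    ∃ (P : NonAbH1.TorsorSch M Scheme.fppfPrecoverage) (j₁ : (Over.map i₁).obj Y₁.X ⟶ P.X)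
      (j₂ : (Over.map i₂).obj Y₂.X ⟶ P.X),
      (∀ {T : Over B} (g : T ⟶ M) (q : T ⟶ (Over.map i₁).obj Y₁.X), K964.Pt.sm P.act g (q ≫ j₁) =
        K964.Pt.sm (push Y₁.act) g q ≫ j₁) ∧
      (∀ {T : Over B} (g : T ⟶ M) (q : T ⟶ (Over.map i₂).obj Y₂.X), K964.Pt.sm P.act g (q ≫ j₂) =
        K964.Pt.sm (push Y₂.act) g q ≫ j₂) := by
  let Q₁ : Over B := (Over.map i₁).obj Y₁.X
  let Q₂ : Over B := (Over.map i₂).obj Y₂.X
  let Z : Over B := Over.mk (p₁ ≫ i₁)
  have hZ : IsEmpty Z.left := inferInstanceAs (IsEmpty W)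
  let f₁ : Z ⟶ Q₁ := Over.homMk (isInitialOfIsEmpty.to _) (hom_ext_empty _ _)
  let f₂ : Z ⟶ Q₂ := Over.homMk (isInitialOfIsEmpty.to _) (hom_ext_empty _ _)
  have h₁ : IsPullback f₁.left (𝟙 W) (proj i₁ Y₁.X).left p₁ := isPullback_of_isEmpty _ _ _
  have h₂ : IsPullback f₂.left (𝟙 W) (proj i₂ Y₂.X).left p₂ := isPullback_of_isEmpty _ _ _
  obtain ⟨P, a, j₁, j₂, h1, h2, h3, hm₁, hm₂, ha₁, ha₂, hz⟩ :=
    K552.Glue.exists_glued_action i₁ i₂ hcov hW (Z := Z) h₁ h₂ (push Y₁.act) (push Y₂.act) (by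
      intro T g z
      have hT : IsEmpty T.left := isEmpty_of_hom (Y := W) z.left
      exact ⟨z, Over.OverMorphism.ext (hom_ext_empty _ _), Over.OverMorphism.ext (hom_ext_empty _ _)⟩)
  have hpt : NonAbH1.IsPseudoTorsorSch a := K552.Glue.isPseudoTorsorSch_of_two i₁ i₂ hcov j₁ j₂
    (fun x u => K552.Glue.lift_of_isPullback h1 x u) (fun x u => K552.Glue.lift_of_isPullback h2 x u)
    (push Y₁.act) (push Y₂.act) a ha₁ ha₂
    (fun q q' => existsUnique_push Y₁.isTorsor.1 q q' (K552.Glue.mono_over i₁ _ _))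
    (fun q q' => existsUnique_push Y₂.isTorsor.1 q q' (K552.Glue.mono_over i₂ _ _))
  have hl : NonAbH1.IsLocallyTrivialFor Scheme.fppfPrecoverage P := by
    apply K552.Glue.isLocallyTrivialFor_fppf_of_points
    intro b
    rcases hcov b with ⟨u, rfl⟩ | ⟨u, rfl⟩
    · obtain ⟨V, f, hf1, hf2, ⟨v, rfl⟩, s, hs⟩ := K552.Glue.exists_of_isLocallyTrivialFor_fppf Y₁.isTorsor.2 u
      refine ⟨V, f ≫ i₁, inferInstance, inferInstance, ⟨v, by simp⟩, s ≫ j₁.left, ?_⟩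
      rw [Category.assoc, Over.w j₁]
      change s ≫ Y₁.X.hom ≫ i₁ = _
      rw [← Category.assoc, hs]
    · obtain ⟨V, f, hf1, hf2, ⟨v, rfl⟩, s, hs⟩ := K552.Glue.exists_of_isLocallyTrivialFor_fppf Y₂.isTorsor.2 u
      refine ⟨V, f ≫ i₂, inferInstance, inferInstance, ⟨v, by simp⟩, s ≫ j₂.left, ?_⟩
      rw [Category.assoc, Over.w j₂]
      change s ≫ Y₂.X.hom ≫ i₂ = _
      rw [← Category.assoc, hs]
  exact ⟨⟨P, a, hpt, hl⟩, j₁, j₂, ha₁, ha₂⟩

section idem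

variable {A : Type u} [CommRing A] (e : A)

open K964.BcPt

lemma isOpenImmersion_quot (he : e * e = e) : IsOpenImmersion (tb A (A ⧸ Ideal.span {e})) :=
  (AlgebraicGeometry.isOpenImmersion_SpecMap_iff_of_surjective _ Ideal.Quotient.mk_surjective).2
    ⟨e, he, Ideal.mk_ker⟩

lemma mem_range_quot (x : Spec (CommRingCat.of A)) :
    x ∈ Set.range (tb A (A ⧸ Ideal.span {e})) ↔ e ∈ (show PrimeSpectrum A from x).asIdeal := by
  have h1 := range_comap_of_surjective _ (Ideal.Quotient.mk (Ideal.span {e})) Ideal.Quotient.mk_surjective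
  rw [Ideal.mk_ker] at h1
  have h2 : x ∈ Set.range (tb A (A ⧸ Ideal.span {e})) ↔
      (show PrimeSpectrum A from x) ∈ PrimeSpectrum.zeroLocus (Ideal.span {e} : Ideal A) := by
    rw [← h1]
    rfl
  rw [h2, PrimeSpectrum.mem_zeroLocus]
  exact Ideal.span_singleton_le_iff_mem _

/-- **Gluing of torsors along an idempotent.** -/
theorem exists_glue_idem (he : e * e = e) (M : Over (Spec (CommRingCat.of A))) [GrpObj M]
    (Y₁ : NonAbH1.TorsorSch (Red.bc (tb A (A ⧸ Ideal.span {e})) M) Scheme.fppfPrecoverage)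
    (Y₂ : NonAbH1.TorsorSch (Red.bc (tb A (A ⧸ Ideal.span {1 - e})) M) Scheme.fppfPrecoverage) :
    ∃ (P : NonAbH1.TorsorSch M Scheme.fppfPrecoverage)
      (j₁ : (Over.map (tb A (A ⧸ Ideal.span {e}))).obj Y₁.X ⟶ P.X)
      (j₂ : (Over.map (tb A (A ⧸ Ideal.span {1 - e}))).obj Y₂.X ⟶ P.X),
      (∀ {T : Over (Spec (CommRingCat.of A))} (g : T ⟶ M) (q : T ⟶ _), K964.Pt.sm P.act g (q ≫ j₁) =
        K964.Pt.sm (push Y₁.act) g q ≫ j₁) ∧
      (∀ {T : Over (Spec (CommRingCat.of A))} (g : T ⟶ M) (q : T ⟶ _), K964.Pt.sm P.act g (q ≫ j₂) =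
        K964.Pt.sm (push Y₂.act) g q ≫ j₂) := by
  have h1 := isOpenImmersion_quot e he
  have h2 := isOpenImmersion_quot (1 - e) (by linear_combination he)
  have hemp : IsEmpty (pullback (tb A (A ⧸ Ideal.span {e})) (tb A (A ⧸ Ideal.span {1 - e})) : Scheme.{u}) := by
    refine ⟨fun w => ?_⟩
    let x : Spec (CommRingCat.of A) := (tb A (A ⧸ Ideal.span {e}))
      ((pullback.fst (tb A (A ⧸ Ideal.span {e})) (tb A (A ⧸ Ideal.span {1 - e}))) w)
    have h3 : e ∈ (show PrimeSpectrum A from x).asIdeal := (mem_range_quot e x).1 ⟨_, rfl⟩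
    have h4 : 1 - e ∈ (show PrimeSpectrum A from x).asIdeal := (mem_range_quot (1 - e) x).1
      ⟨(pullback.snd (tb A (A ⧸ Ideal.span {e})) (tb A (A ⧸ Ideal.span {1 - e}))) w, by
        have h5 := congrArg (fun f => f w) (pullback.condition (f := tb A (A ⧸ Ideal.span {e}))
          (g := tb A (A ⧸ Ideal.span {1 - e})))
        simp only [Scheme.Hom.comp_apply] at h5
        simp only [x]
        exact h5.symm⟩
    have h6 := Ideal.add_mem _ h4 h3
    rw [sub_add_cancel] at h6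
    exact (show PrimeSpectrum A from x).2.ne_top ((Ideal.eq_top_iff_one _).2 h6)
  refine exists_glue (tb A (A ⧸ Ideal.span {e})) (tb A (A ⧸ Ideal.span {1 - e})) (fun x => ?_)
    (IsPullback.of_hasPullback _ _) Y₁ Y₂
  rw [mem_range_quot, mem_range_quot]
  apply (show PrimeSpectrum A from x).2.mem_or_mem
  have h5 : e * (1 - e) = 0 := by linear_combination (-1 : A) * he
  rw [h5]
  exact Ideal.zero_mem _

end idem

section pts

open K964.BcPt K965.Pts K964.Pt K964.AffPt K964.Cocyc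

variable {A R : Type u} [CommRing A] [CommRing R] [Algebra A R] {M : Over (Spec (CommRingCat.of A))} [GrpObj M]
  {X : Over (Spec (CommRingCat.of A))} {a : AlgGrp.Action M X} {Y : Over (Spec (CommRingCat.of R))}
  {b : AlgGrp.Action (Red.bc (tb A R) M) Y} (j : (Over.map (tb A R)).obj Y ⟶ X)
  {T : Type u} [CommRing T] [Algebra A T] [Algebra R T] [IsScalarTower A R T]
  {T' : Type u} [CommRing T'] [Algebra A T'] [Algebra R T'] [IsScalarTower A R T']

/-- push a point forward -/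
noncomputable def pu (y : sp (algebraMap R T) ⟶ Y) : sp (algebraMap A T) ⟶ X :=
  (cm A R T).inv ≫ (Over.map (tb A R)).map y ≫ j

lemma ap_pu (φ : T →ₐ[R] T') (y : sp (algebraMap R T) ⟶ Y) :
    ap (φ.restrictScalars A) ≫ pu j y = pu j (ap φ ≫ y) := by
  rw [pu, pu, Functor.map_comp, Category.assoc]
  rw [← Category.assoc, ← Category.assoc (cm A R T').inv]
  congr 1

lemma pu_sm (hj : ∀ {T : Over (Spec (CommRingCat.of A))} (g : T ⟶ M) (q : T ⟶ _), sm a g (q ≫ j) =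
    sm (push b) g q ≫ j) (g : sp (algebraMap R T) ⟶ Red.bc (tb A R) M) (y : sp (algebraMap R T) ⟶ Y) :
    pu j (sm b g y) = sm a (ubp g) (pu j y) := by
  have h1 : sm (push b) (dn g) ((Over.map (tb A R)).map y) = (Over.map (tb A R)).map (sm b (up (dn g)) y) :=
    sm_push_map b (dn g) y
  rw [up_dn] at h1
  rw [pu, ← h1, pu, ← hj, comp_sm]
  rfl

lemma cocy_pu (ha : NonAbH1.IsPseudoTorsorSch a) (hb : NonAbH1.IsPseudoTorsorSch b)
    (hj : ∀ {T : Over (Spec (CommRingCat.of A))} (g : T ⟶ M) (q : T ⟶ _), sm a g (q ≫ j) =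
    sm (push b) g q ≫ j) {R' : Type u} [CommRing R'] [Algebra A R'] [Algebra R R'] [IsScalarTower A R R']
    (y : sp (algebraMap R R') ⟶ Y) (φ ψ : R' →ₐ[R] T) :
    cocy ha (pu j y) (φ.restrictScalars A) (ψ.restrictScalars A) = ubp (cocy hb y φ ψ) := by
  rw [cocy, ap_pu, ap_pu]
  refine (eq_df ha ?_).symm
  rw [← pu_sm (a := a) j hj, cocy, sm_df]

end pts

end K964.DisjGlue
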