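import Groth.Agent.MultTori.K964.Coh

/-!
# Endo-Miyata type vanishing

`em`: `H¹(G, Hom (F, N)) = 0` for a flasque lattice `F` and a coflasque module `N` over a finite group `G`, if every
`p`-subgroup of `G` acts on `F` through a cyclic group.
-/

set_option autoImplicit false

namespace K964.EM

open K964.CycLat K964.Coh

variable {G : Type*} [Group G] {N F : Type*} [AddCommGroup N] [AddCommGroup F]

/-- restriction of a coflasque module to a subgroup -/
lemma coflasque_restrict {σ : Representation ℤ G N} (hσ : GLat.IsCoflasque σ) (H : Subgroup G) :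
    GLat.IsCoflasque (σ.comp H.subtype : Representation ℤ H N) := by
  intro K f hf
  have hmem : ∀ x : K.map H.subtype, ∃ y : K, ((y : H) : G) = x := by
    rintro ⟨x, y, hy, rfl⟩
    exact ⟨⟨y, hy⟩, rfl⟩
  choose u hu using hmem
  obtain ⟨m, hm⟩ := hσ (K.map H.subtype) (fun x => f (u x)) (by
    intro a b
    have h1 : u (a * b) = u a * u b := by
      apply Subtype.ext; apply Subtype.ext
      rw [hu]
      simp [hu]
    rw [h1, hf, ← hu a]
    rfl)
  refine ⟨m, fun a => ?_⟩
  have h2 : u ⟨((a : H) : G), Subgroup.mem_map_of_mem _ a.2⟩ = a := by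
    apply Subtype.ext; apply Subtype.ext
    rw [hu]
  have h3 := hm ⟨((a : H) : G), Subgroup.mem_map_of_mem _ a.2⟩
  beta_reduce at h3
  rw [h2] at h3
  exact h3

/-- flasqueness gives `Fl` for elements of prime power order -/
lemma fl_of_flasque [Finite G] {ρ : Representation ℤ G F} (hfl : GLat.IsFlasque ρ) {p : ℕ} [Fact p.Prime] (g : G)
    {e k : ℕ} (he : orderOf g = p ^ e) (hke : k ≤ e) : Fl p k (ρ g) := by
  classical
  intro j hj x hx
  let u : G := g ^ p ^ (k - j)
  have hu : ρ u = ρ g ^ p ^ (k - j) := by simp only [u, map_pow]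
  have hord : orderOf u = p ^ j * p ^ (e - k) := by
    rw [orderOf_pow_of_dvd (pow_ne_zero _ (Fact.out : p.Prime).ne_zero) (by
      rw [he]; exact pow_dvd_pow _ (by omega)), he, Nat.pow_div (by omega) (Fact.out : p.Prime).pos, ← pow_add]
    congr 1
    omega
  have hsum : (∑ᶠ h : Subgroup.zpowers u, ρ (h : G) x) = 0 := by
    have := Fintype.ofFinite (Subgroup.zpowers u)
    rw [finsum_eq_sum_of_fintype, ← Equiv.sum_comp (finEquivZPowers (isOfFinOrder_of_finite u))]
    have h1 : ∑ i : Fin (orderOf u), (ρ ((finEquivZPowers (isOfFinOrder_of_finite u)) i : G)) x =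
        nrm (ρ g ^ p ^ (k - j)) (orderOf u) x := by
      rw [nrm, LinearMap.sum_apply, ← Fin.sum_univ_eq_sum_range (fun i => ((ρ g ^ p ^ (k - j)) ^ i) x)]
      refine Finset.sum_congr rfl fun i _ => ?_
      rw [finEquivZPowers_apply, map_pow, hu]
    rw [h1, hord, nrm_mul, Module.End.mul_apply, hx, map_zero]
  have h2 := hfl (Subgroup.zpowers u) x hsum
  have h3 : ∀ x ∈ Submodule.span ℤ {x : F | ∃ (h : Subgroup.zpowers u) (y : F), x = ρ (h : G) y - y},
      x ∈ LinearMap.range (ρ u - 1) := by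
    intro x hx
    induction hx using Submodule.span_induction with
    | mem x hx =>
      obtain ⟨⟨h, hh⟩, y, rfl⟩ := hx
      have h4 : h ∈ Submonoid.powers u := by rwa [mem_powers_iff_mem_zpowers]
      obtain ⟨n, rfl⟩ := h4
      refine ⟨nrm (ρ u) n y, ?_⟩
      rw [← Module.End.mul_apply, sub_mul_nrm]
      simp
    | zero => exact Submodule.zero_mem _
    | add x y _ _ hx hy => exact Submodule.add_mem _ hx hy
    | smul a x _ hx => exact Submodule.smul_mem _ a hx
  obtain ⟨y, hy⟩ := h3 x h2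
  refine ⟨y, ?_⟩
  rw [← hu]
  exact hy

/-- The retraction argument: if `F` is up to an integer a direct factor of a permutation module, then cocycles in
`Hom (F, N)` are coboundaries up to this integer. -/
lemma bd_of_retract {ρ : Representation ℤ G F} {P : Type*} [AddCommGroup P] {τ : Representation ℤ G P}
    (hτ : GLat.IsPermutation τ) {σ : Representation ℤ G N} (hσ : GLat.IsCoflasque σ)
    (i : F →ₗ[ℤ] P) (hi : GLat.IsEquivariant ρ τ i) (π : P →ₗ[ℤ] F) (hπ : GLat.IsEquivariant τ ρ π) {m : ℤ}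
    (hm : ∀ x, π (i x) = m • x) {f : G → (F →ₗ[ℤ] N)}
    (hf : ∀ a b : G, f (a * b) = f a + Representation.linHom ρ σ a (f b)) :
    Bd (Representation.linHom ρ σ) (fun a => m • f a) := by
  obtain ⟨φ, hφ⟩ := H1Z.linHom_permutation hτ hσ (fun a => (f a).comp π) (by
    intro a b
    refine LinearMap.ext fun y => ?_
    rw [LinearMap.comp_apply, hf, LinearMap.add_apply, LinearMap.add_apply, linHom_apply, linHom_apply,
      LinearMap.comp_apply, LinearMap.comp_apply, hπ])
  refine ⟨φ.comp i, fun a => LinearMap.ext fun x => ?_⟩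
  have h1 := congrArg (fun l : P →ₗ[ℤ] N => l (i x)) (hφ a)
  change f a (π (i x)) = (Representation.linHom τ σ a φ) (i x) - φ (i x) at h1
  rw [hm, map_smul, linHom_apply, ← hi] at h1
  rw [LinearMap.sub_apply, linHom_apply]
  exact h1

/-- **Endo-Miyata type vanishing.** -/
theorem em [Finite G] [Module.Finite ℤ F] [Module.Free ℤ F] {ρ : Representation ℤ G F} (hfl : GLat.IsFlasque ρ)
    (hcyc : ∀ (p : ℕ) [Fact p.Prime] (H : Subgroup G), IsPGroup p H → ∃ h₀ ∈ H, ∀ h ∈ H, ∃ n : ℕ, ρ h = ρ h₀ ^ n)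
    {σ : Representation ℤ G N} (hσ : GLat.IsCoflasque σ) : H1Z (Representation.linHom ρ σ) := by
  classical
  intro f hf
  apply bd_of_forall_prime
  intro p hp
  have : Fact p.Prime := ⟨hp⟩
  let H : Sylow p G := default
  obtain ⟨h₀, hh₀, hpow⟩ := hcyc p H H.isPGroup'
  obtain ⟨e, he⟩ : ∃ e, orderOf h₀ = p ^ e := by
    have h1 := IsPGroup.iff_orderOf.1 H.isPGroup' ⟨h₀, hh₀⟩
    obtain ⟨e, he⟩ := h1
    exact ⟨e, by rw [← he]; exact (Subgroup.orderOf_mk h₀ hh₀).symm⟩
  have hTe : ρ h₀ ^ p ^ e = 1 := by rw [← he, ← map_pow, pow_orderOf_eq_one, map_one]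
  obtain ⟨k, hke, hk⟩ := (Nat.dvd_prime_pow hp).1 (orderOf_dvd_of_pow_eq_one hTe)
  have hTk : ρ h₀ ^ p ^ k = 1 := by rw [← hk]; exact pow_orderOf_eq_one _
  obtain ⟨ι, _, t, i, π, m, ht, hi, hπ, hm, hpm⟩ := pInv_of_fl k (ρ h₀) hTk (fl_of_flasque hfl h₀ he hke)
  -- the representation of `H` on `ι → ℤ`
  choose n hn using fun h : (H : Subgroup G) => hpow h h.2
  have htn : ∀ a b : ℕ, ρ h₀ ^ a = ρ h₀ ^ b → shift t ^ a = shift t ^ b := by
    have hinv : IsOfFinOrder (ρ h₀) := isOfFinOrder_iff_pow_eq_one.2 ⟨p ^ k, pow_pos hp.pos _, hTk⟩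
    intro a b hab
    have h1 : a ≡ b [MOD orderOf (ρ h₀)] := by
      rw [← hinv.pow_eq_pow_iff_modEq]
      exact hab
    rw [hk] at h1
    have h2 : (shift t : Module.End ℤ (ι → ℤ)) ^ p ^ k = 1 := by rw [shift_pow, ht, shift_one]
    rw [← Nat.mod_add_div a (p ^ k), ← Nat.mod_add_div b (p ^ k), pow_add, pow_add, pow_mul, pow_mul, h2, one_pow,
      one_pow, show a % p ^ k = b % p ^ k from h1]
  let τ : Representation ℤ (H : Subgroup G) (ι → ℤ) :=
    { toFun := fun h => shift t ^ n h
      map_one' := by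
        rw [← pow_zero (shift t : Module.End ℤ (ι → ℤ))]
        apply htn
        rw [← hn, Subgroup.coe_one, map_one, pow_zero]
      map_mul' := fun a b => by
        rw [← pow_add]
        apply htn
        rw [← hn, Subgroup.coe_mul, map_mul, hn, hn, pow_add] }
  have hτ : ∀ h, τ h = shift t ^ n h := fun h => rfl
  have hperm : GLat.IsPermutation τ := by
    refine ⟨ι, Pi.basisFun ℤ ι, fun g i => ⟨(t ^ n g) i, ?_⟩⟩
    rw [hτ, shift_pow]
    funext j
    rw [shift_apply, Pi.basisFun_apply, Pi.basisFun_apply, Pi.single_apply, Pi.single_apply]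
    simp only [Equiv.Perm.inv_eq_iff_eq]
  let ρH : Representation ℤ (H : Subgroup G) F := ρ.comp (H : Subgroup G).subtype
  have hiN : ∀ (n : ℕ) (x : F), i ((ρ h₀ ^ n) x) = (shift t ^ n) (i x) := by
    intro n
    induction n with
    | zero => simp
    | succ n ih => intro x; rw [pow_succ, Module.End.mul_apply, ih, hi, pow_succ, Module.End.mul_apply]
  have hπN : ∀ (n : ℕ) (y : ι → ℤ), π ((shift t ^ n) y) = (ρ h₀ ^ n) (π y) := by
    intro n
    induction n with
    | zero => simp
    | succ n ih => intro x; rw [pow_succ, Module.End.mul_apply, ih, hπ, pow_succ, Module.End.mul_apply]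
  have hib : GLat.IsEquivariant ρH τ i := fun g x => by
    change i (ρ (g : G) x) = _
    rw [hn, hiN]
    rfl
  have hπb : GLat.IsEquivariant τ ρH π := fun g x => by
    change _ = ρ (g : G) (π x)
    rw [hn, ← hπN]
    rfl
  obtain ⟨φ, hφ⟩ := bd_of_retract hperm (coflasque_restrict hσ (H : Subgroup G)) i hib π hπb hm
    (f := fun h : (H : Subgroup G) => f h) (by
      intro a b
      rw [Subgroup.coe_mul, hf]
      rfl)
  have hmf : ∀ a b : G, m • f (a * b) = m • f a + Representation.linHom ρ σ a (m • f b) := by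
    intro a b
    rw [hf, smul_add, map_smul]
  have h5 := bd_index (f := fun a => m • f a) hmf (H : Subgroup G) ⟨φ, fun a ha => hφ ⟨a, ha⟩⟩
  refine ⟨((H : Subgroup G).index : ℤ) * m, ?_, ?_⟩
  · intro hdvd
    rcases Int.Prime.dvd_mul' hp hdvd with h | h
    · exact H.not_dvd_index (by exact_mod_cast h)
    · exact hpm h
  · simpa only [smul_smul] using h5

end K964.EM
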