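import Groth.Agent.CalgA.RegBasic
import Groth.Agent.Ega4A.RegEtale
import Mathlib.RingTheory.RegularLocalRing.Defs
import Mathlib.RingTheory.Etale.Basic

/-!
# Étale algebras over regular rings are locally domains
-/

set_option autoImplicit false
universe u v

namespace K964.FgAlg

/-- a noetherian ring is a domain near a prime at which it is a domain -/
theorem exists_away_isDomain (B : Type u) [CommRing B] [IsNoetherianRing B] (p : Ideal B) [p.IsPrime]
    (h : IsDomain (Localization.AtPrime p)) : ∃ f : B, f ∉ p ∧ IsDomain (Localization.Away f) := by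
  let I := RingHom.ker (algebraMap B (Localization.AtPrime p))
  obtain ⟨s, hs⟩ := (IsNoetherian.noetherian I : I.FG)
  have h1 : ∀ x ∈ I, ∃ t : B, t ∉ p ∧ t * x = 0 := by
    intro x hx
    obtain ⟨t, ht⟩ := (IsLocalization.map_eq_zero_iff p.primeCompl (Localization.AtPrime p) x).1 hx
    exact ⟨t, t.2, ht⟩
  have h2 : ∃ f : B, f ∉ p ∧ ∀ x ∈ s, f * x = 0 := by
    have : ∀ s' : Finset B, (∀ x ∈ s', x ∈ I) → ∃ f : B, f ∉ p ∧ ∀ x ∈ s', f * x = 0 := by
      classical
      intro s'
      induction s' using Finset.induction_on with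
      | empty => exact fun _ => ⟨1, (Ideal.ne_top_iff_one p).1 Ideal.IsPrime.ne_top', fun x hx => by simp at hx⟩
      | insert a s' ha ih =>
        intro hI
        obtain ⟨f, hf, hfx⟩ := ih (fun x hx => hI x (Finset.mem_insert_of_mem hx))
        obtain ⟨t, ht, hta⟩ := h1 a (hI a (Finset.mem_insert_self _ _))
        refine ⟨t * f, fun hm => (Ideal.IsPrime.mem_or_mem ‹p.IsPrime› hm).elim ht hf, fun x hx => ?_⟩
        rcases Finset.mem_insert.1 hx with rfl | hx
        · rw [mul_right_comm, hta, zero_mul]
        · rw [mul_assoc, hfx x hx, mul_zero]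
    exact this s fun x hx => hs ▸ Ideal.subset_span hx
  obtain ⟨f, hf, hfs⟩ := h2
  have h3 : ∀ x ∈ I, f * x = 0 := by
    intro x hx
    rw [← hs] at hx
    induction hx using Submodule.span_induction with
    | mem x hx => exact hfs x hx
    | zero => exact mul_zero f
    | add x y _ _ hx hy => rw [mul_add, hx, hy, add_zero]
    | smul a x _ hx => rw [smul_eq_mul, mul_left_comm, hx, mul_zero]
  have h4 : ∀ x ∈ I, algebraMap B (Localization.Away f) x = 0 := fun x hx =>
    (IsLocalization.map_eq_zero_iff (Submonoid.powers f) (Localization.Away f) x).2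
      ⟨⟨f, Submonoid.mem_powers f⟩, h3 x hx⟩
  refine ⟨f, hf, ?_⟩
  have hnt : Nontrivial (Localization.Away f) := by
    refine ⟨0, 1, fun h01 => ?_⟩
    rw [← map_one (algebraMap B (Localization.Away f)), eq_comm,
      IsLocalization.map_eq_zero_iff (Submonoid.powers f) (Localization.Away f)] at h01
    obtain ⟨⟨_, n, rfl⟩, hn⟩ := h01
    have : f ^ n ∈ p := by
      have h5 : f ^ n * 1 = 0 := hn
      rw [mul_one] at h5
      rw [h5]
      exact p.zero_mem
    exact hf (Ideal.IsPrime.mem_of_pow_mem ‹p.IsPrime› n this)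
  have hnz : NoZeroDivisors (Localization.Away f) := by
    refine ⟨fun {x y} hxy => ?_⟩
    obtain ⟨a, s, rfl⟩ := IsLocalization.exists_mk'_eq (Submonoid.powers f) x
    obtain ⟨b, t, rfl⟩ := IsLocalization.exists_mk'_eq (Submonoid.powers f) y
    rw [← IsLocalization.mk'_mul, IsLocalization.mk'_eq_zero_iff] at hxy
    obtain ⟨⟨_, n, rfl⟩, hn⟩ := hxy
    have h5 : a ∈ I ∨ b ∈ I := by
      have h6 : algebraMap B (Localization.AtPrime p) (f ^ n * (a * b)) = 0 := by
        have : f ^ n * (a * b) = 0 := hn
        rw [this, map_zero]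
      rw [map_mul, map_mul, mul_eq_zero, mul_eq_zero] at h6
      refine h6.resolve_left fun h7 => ?_
      have h8 : IsUnit (algebraMap B (Localization.AtPrime p) (f ^ n)) :=
        IsLocalization.map_units (Localization.AtPrime p)
          (⟨f ^ n, fun hm => hf (Ideal.IsPrime.mem_of_pow_mem ‹p.IsPrime› n hm)⟩ : p.primeCompl)
      rw [h7] at h8
      exact not_isUnit_zero h8
    rcases h5 with h5 | h5
    · left
      rw [IsLocalization.mk'_eq_zero_iff]
      exact ⟨⟨f, Submonoid.mem_powers f⟩, h3 a h5⟩
    · right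
      rw [IsLocalization.mk'_eq_zero_iff]
      exact ⟨⟨f, Submonoid.mem_powers f⟩, h3 b h5⟩
  exact NoZeroDivisors.to_isDomain _

/-- regular rings are reduced -/
theorem isReduced_of_regular (B : Type u) [CommRing B] [IsRegularRing B] : IsReduced B := by
  refine isReduced_ofLocalizationMaximal B fun p hp => ?_
  have h1 : IsRegularLocalRing (Localization.AtPrime p) := IsRegularRing.isRegularLocalRing_localization p
  have := Groth.Agent.CalgA.RegBasic.isDomain (Localization.AtPrime p)
  infer_instance

theorem exists_away (A B : Type u) [CommRing A] [CommRing B] [Algebra A B] [IsRegularRing A] [Algebra.Etale A B]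
    (p : Ideal B) [p.IsPrime] : ∃ f : B, f ∉ p ∧ IsDomain (Localization.Away f) ∧ Algebra.Etale A (Localization.Away f) := by
  have := Groth.Agent.Ega4A.RegEtale.isRegularRing_of_etale A B
  have h1 : IsRegularLocalRing (Localization.AtPrime p) := IsRegularRing.isRegularLocalRing_localization p
  obtain ⟨f, hf, h⟩ := exists_away_isDomain B p (Groth.Agent.CalgA.RegBasic.isDomain (Localization.AtPrime p))
  refine ⟨f, hf, h, ?_⟩
  have : Algebra.Etale B (Localization.Away f) := Algebra.Etale.of_isLocalizationAway f
  exact Algebra.Etale.comp A B (Localization.Away f)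

end K964.FgAlg
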