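import Groth.Agent.MultTori.K964.FgKer
import Groth.Agent.TateGlob.K828.Kit
import Groth.Agent.TateGlob.K827.Deg0
import Groth.Agent.CGrpSh.K731.Basic
import Groth.Agent.EtCoh.K720.Kummer
import Groth.Agent.TateLoc.K810.DualDS

/-!
# Finite generation of `H¹` of diagonalizable groups from `𝔾_m`
-/

set_option autoImplicit false
universe u

open CategoryTheory CategoryTheory.Limits AlgebraicGeometry Opposite MonoidalCategory CartesianMonoidalCategory MonObj

namespace K964.FgDS

open K964.FgKer K828.Kit Groth.Agent.Sga3B Groth.Agent.Sga3B.DSPts K720.Kummer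

section seq

variable {K : Precoverage Scheme.{u}} {X : Scheme.{u}}

/-- the middle term -/
lemma fg_middle {A : ShortComplex (BigSite.Ab K X)} (hA : A.ShortExact) (n : ℕ)
    (h1 : AddGroup.FG (BigSite.H K X A.X₁ n)) (h3 : AddGroup.FG (BigSite.H K X A.X₃ n)) :
    AddGroup.FG (BigSite.H K X A.X₂ n) := by
  refine fg_of_ker (Sheaf.H.map A.g n) h3 ?_
  refine fg_of_surjective ((Sheaf.H.map A.f n).codRestrict _ fun x => ?_) ?_ h1
  · exact map_map A n x
  · rintro ⟨x, hx⟩
    obtain ⟨y, hy⟩ := exact₂ hA n x hx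
    exact ⟨y, Subtype.ext hy⟩

/-- the left term -/
lemma fg_left {A : ShortComplex (BigSite.Ab K X)} (hA : A.ShortExact) (n : ℕ)
    (h2 : AddGroup.FG (BigSite.H K X A.X₂ (n + 1))) (h3 : AddGroup.FG (BigSite.H K X A.X₃ n)) :
    AddGroup.FG (BigSite.H K X A.X₁ (n + 1)) := by
  refine fg_of_ker (Sheaf.H.map A.f (n + 1)) h2 ?_
  refine fg_of_surjective ((del hA n).codRestrict _ fun x => ?_) ?_ h3
  · exact map_del hA n x
  · rintro ⟨x, hx⟩
    obtain ⟨y, hy⟩ := exact₁ hA n x hx
    exact ⟨y, Subtype.ext hy⟩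

lemma h0_injective {F G : BigSite.Ab K X} (φ : F ⟶ G) [Mono φ] : Function.Injective (Sheaf.H.map φ 0) := by
  intro x y h
  apply (K827.Deg0.h0 K F).injective
  apply K731.Basic.injective_of_mono φ
  rw [← K827.Deg0.h0_map, ← K827.Deg0.h0_map, h]

/-- the left term of a left exact sequence -/
lemma fg_left_exact (A : ShortComplex (BigSite.Ab K X)) (hA : A.Exact) [Mono A.f]
    (h2 : AddGroup.FG (BigSite.H K X A.X₂ 1)) (h3 : AddGroup.FG (BigSite.H K X A.X₃ 0)) :
    AddGroup.FG (BigSite.H K X A.X₁ 1) := by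
  let A' : ShortComplex (BigSite.Ab K X) := ShortComplex.mk A.f (cokernel.π A.f) (cokernel.condition _)
  have hA' : A'.ShortExact :=
    { exact := ShortComplex.exact_cokernel _
      mono_f := inferInstanceAs (Mono A.f)
      epi_g := inferInstanceAs (Epi (cokernel.π A.f)) }
  have hm : Mono (cokernel.desc A.f A.g A.zero) := hA.mono_cokernelDesc
  exact fg_left hA' 0 h2 (fg_of_injective (Sheaf.H.map (cokernel.desc A.f A.g A.zero) 0)
    (h0_injective _) h3)

lemma fg_of_iso {F G : BigSite.Ab K X} (e : F ≅ G) (n : ℕ) (h : AddGroup.FG (BigSite.H K X F n)) :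
    AddGroup.FG (BigSite.H K X G n) := by
  refine fg_of_injective (Sheaf.H.map e.inv n) (fun x y hxy => ?_) h
  have h1 := congrArg (Sheaf.H.map e.hom n) hxy
  rw [← Sheaf.H.map_comp_apply, ← Sheaf.H.map_comp_apply, e.inv_hom_id] at h1
  simpa using h1

end seq

section ds

variable (X : Scheme.{u})

local notation "fp" => Scheme.fppfPrecoverage

/-- the sheaf of points of `D(M)` -/
noncomputable abbrev dsh (M : Type) [AddCommGroup M] : BigSite.Ab Scheme.fppfPrecoverage.{u} X := CGrpSh.pts fp (Red.DS X M)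

/-- functoriality -/
noncomputable def dmap {M N : Type} [AddCommGroup M] [AddCommGroup N] (φ : M →+ N) : dsh X N ⟶ dsh X M :=
  haveI := isMonHom_DSmap X φ
  CGrpSh.ptsMap fp (Red.DSmap X φ)

lemma dmap_app {M N : Type} [AddCommGroup M] [AddCommGroup N] (φ : M →+ N) (T : Over X) (x : T ⟶ Red.DS X N) :
    (dmap X φ).hom.app (op T) (ULift.up (Additive.ofMul x)) = ULift.up (Additive.ofMul (x ≫ Red.DSmap X φ)) := rfl

lemma mono_dmap {M N : Type} [AddCommGroup M] [AddCommGroup N] (φ : M →+ N) (hφ : Function.Surjective φ) :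
    Mono (dmap X φ) := by
  have := mono_DSmap X φ hφ
  apply K731.Basic.mono_of_injective
  rintro T ⟨x⟩ ⟨y⟩ hxy
  apply ULift.ext
  have h1 : x.toMul ≫ Red.DSmap X φ = y.toMul ≫ Red.DSmap X φ := congrArg (fun z => Additive.toMul (ULift.down z)) hxy
  exact (cancel_mono (Red.DSmap X φ)).1 h1

/-- characters killing the kernel factor -/
lemma exists_factor {T : Over X} {M N : Type} [AddCommGroup M] [AddCommGroup N] (q : M →+ N)
    (hq : Function.Surjective q) (x : T ⟶ Red.DS X M)
    (h : ∀ m, q m = 0 → dsChar x (Multiplicative.ofAdd m) = 1) : ∃ y : T ⟶ Red.DS X N, y ≫ Red.DSmap X q = x := by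
  let χ : M →+ Additive (Γ(T.left, ⊤))ˣ := AddMonoidHom.toMultiplicativeLeft.symm (dsChar x).toHomUnits
  have hχ : ∀ m, ((Additive.toMul (χ m) : (Γ(T.left, ⊤))ˣ) : Γ(T.left, ⊤)) = dsChar x (Multiplicative.ofAdd m) :=
    fun m => rfl
  have h1 : ∀ m m', q m = q m' → χ m = χ m' := by
    intro m m' e
    rw [← sub_eq_zero, ← map_sub]
    apply Additive.toMul.injective
    apply Units.ext
    rw [hχ]
    apply h
    rw [map_sub, e, sub_self]
  let ψ : N →+ Additive (Γ(T.left, ⊤))ˣ :=
    { toFun := fun n => χ (hq n).choose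
      map_zero' := (h1 _ 0 (by rw [(hq 0).choose_spec, map_zero])).trans (map_zero χ)
      map_add' := fun n n' => by
        rw [← map_add]
        apply h1
        rw [map_add, (hq n).choose_spec, (hq n').choose_spec, (hq (n + n')).choose_spec] }
  have hψ : ∀ m, ψ (q m) = χ m := fun m => h1 _ _ (hq (q m)).choose_spec
  refine ⟨dsEquiv T N ((Units.coeHom _).comp (AddMonoidHom.toMultiplicativeLeft ψ)), ?_⟩
  apply dsChar_injective
  rw [dsChar_DSmap, dsChar_dsEquiv]
  refine MonoidHom.ext fun m => ?_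
  change ((Additive.toMul (ψ (q m.toAdd)) : (Γ(T.left, ⊤))ˣ) : Γ(T.left, ⊤)) = _
  rw [hψ]
  rfl

/-- the left exact sequence of a presentation -/
lemma exact_dmap {L M N : Type} [AddCommGroup L] [AddCommGroup M] [AddCommGroup N] (i : L →+ M) (q : M →+ N)
    (hq : Function.Surjective q) (hi : ∀ l, q (i l) = 0) (hex : ∀ m, q m = 0 → ∃ l, i l = m)
    (w : dmap X q ≫ dmap X i = 0) : (ShortComplex.mk (dmap X q) (dmap X i) w).Exact := by
  apply K731.Basic.exact_of_sections
  rintro T ⟨x⟩ hx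
  have h1 : x.toMul ≫ Red.DSmap X i = 1 := congrArg (fun z => Additive.toMul (ULift.down z)) hx
  obtain ⟨y, hy⟩ := exists_factor X q hq x.toMul (by
    intro m hm
    obtain ⟨l, rfl⟩ := hex m hm
    have h2 := congrArg dsChar h1
    rw [dsChar_DSmap, dsChar_one] at h2
    exact DFunLike.congr_fun h2 (Multiplicative.ofAdd l))
  refine ⟨ULift.up (Additive.ofMul y), ?_⟩
  exact congrArg (fun z => ULift.up (Additive.ofMul z)) hy

lemma dmap_zero {L M N : Type} [AddCommGroup L] [AddCommGroup M] [AddCommGroup N] (i : L →+ M) (q : M →+ N)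
    (hi : ∀ l, q (i l) = 0) : dmap X q ≫ dmap X i = 0 := by
  refine Sheaf.hom_ext (NatTrans.ext (funext fun T => AddCommGrpCat.ext fun x => ?_))
  apply ULift.ext
  change Additive.ofMul ((x.down.toMul ≫ Red.DSmap X q) ≫ Red.DSmap X i) = Additive.ofMul (1 : unop T ⟶ Red.DS X L)
  congr 1
  apply dsChar_injective
  rw [dsChar_DSmap, dsChar_DSmap, dsChar_one]
  refine MonoidHom.ext fun l => ?_
  change dsChar _ (Multiplicative.ofAdd (q (i l.toAdd))) = 1
  rw [hi]
  exact map_one _

/-- sections of `D(M)` -/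
lemma fg_H0 (hU : AddGroup.FG (Additive (Γ(X, ⊤))ˣ)) (M : Type) [AddCommGroup M] (hM : AddGroup.FG M) :
    AddGroup.FG (BigSite.H fp X (dsh X M) 0) := by
  obtain ⟨s, hs⟩ := hM.1
  let f : BigSite.H fp X (dsh X M) 0 →+ (s → Additive (Γ(X, ⊤))ˣ) := AddMonoidHom.mk' (fun x m =>
    Additive.ofMul ((dsChar (K827.Deg0.h0 fp (dsh X M) x).down.toMul).toHomUnits (Multiplicative.ofAdd (m : M)))) (by
      intro x y
      funext m
      rw [map_add]
      apply Additive.toMul.injective
      apply Units.ext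
      exact DFunLike.congr_fun (dsChar_mul (K827.Deg0.h0 fp (dsh X M) x).down.toMul
        (K827.Deg0.h0 fp (dsh X M) y).down.toMul) _)
  refine fg_of_injective f ?_ (fg_pi fun _ => hU)
  intro x y hxy
  apply (K827.Deg0.h0 fp (dsh X M)).injective
  apply ULift.ext
  apply Additive.toMul.injective
  apply dsChar_injective
  let cx := (dsChar (K827.Deg0.h0 fp (dsh X M) x).down.toMul).toHomUnits
  let cy := (dsChar (K827.Deg0.h0 fp (dsh X M) y).down.toMul).toHomUnits
  have h1 : cx = cy := by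
    apply AddMonoidHom.toMultiplicativeLeft.symm.injective
    refine AddMonoidHom.eq_of_eqOn_dense hs fun m hm => ?_
    exact congrFun hxy ⟨m, hm⟩
  refine MonoidHom.ext fun m => ?_
  exact congrArg Units.val (DFunLike.congr_fun h1 m)

lemma dmap_comp {L M N : Type} [AddCommGroup L] [AddCommGroup M] [AddCommGroup N] (i : L →+ M) (q : M →+ N) :
    dmap X q ≫ dmap X i = dmap X (q.comp i) := by
  refine Sheaf.hom_ext (NatTrans.ext (funext fun T => AddCommGrpCat.ext fun x => ?_))
  apply ULift.ext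
  change Additive.ofMul ((x.down.toMul ≫ Red.DSmap X q) ≫ Red.DSmap X i) =
    Additive.ofMul (x.down.toMul ≫ Red.DSmap X (q.comp i))
  congr 1
  apply dsChar_injective
  rw [dsChar_DSmap, dsChar_DSmap, dsChar_DSmap]
  rfl

lemma dmap_id (M : Type) [AddCommGroup M] : dmap X (AddMonoidHom.id M) = 𝟙 _ := by
  refine Sheaf.hom_ext (NatTrans.ext (funext fun T => AddCommGrpCat.ext fun x => ?_))
  apply ULift.ext
  change Additive.ofMul (x.down.toMul ≫ Red.DSmap X (AddMonoidHom.id M)) = Additive.ofMul x.down.toMul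
  congr 1
  apply dsChar_injective
  rw [dsChar_DSmap]
  rfl

/-- the property -/
def P (M : Type) [AddCommGroup M] : Prop := AddGroup.FG (BigSite.H fp X (dsh X M) 1)

lemma P_equiv {M N : Type} [AddCommGroup M] [AddCommGroup N] (e : M ≃+ N) (h : P X M) : P X N := by
  refine fg_of_iso (Iso.mk (dmap X e.symm.toAddMonoidHom) (dmap X e.toAddMonoidHom) ?_ ?_) 1 h
  · rw [dmap_comp, ← dmap_id]
    congr 1
    exact AddMonoidHom.ext fun m => e.symm_apply_apply m
  · rw [dmap_comp, ← dmap_id]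
    congr 1
    exact AddMonoidHom.ext fun m => e.apply_symm_apply m

lemma P_quot (hU : AddGroup.FG (Additive (Γ(X, ⊤))ˣ)) {M N : Type} [AddCommGroup M] [AddCommGroup N] (hM : AddGroup.FG M)
    (q : M →+ N) (hq : Function.Surjective q) (h : P X M) : P X N := by
  have hi : ∀ l : q.ker, q (q.ker.subtype l) = 0 := fun l => l.2
  have := mono_dmap X q hq
  refine fg_left_exact (ShortComplex.mk (dmap X q) (dmap X q.ker.subtype) (dmap_zero X _ _ hi))
    (exact_dmap X _ q hq hi (fun m hm => ⟨⟨m, hm⟩, rfl⟩) _) h ?_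
  exact fg_H0 X hU q.ker (fg_of_injective q.ker.subtype Subtype.val_injective hM)

lemma P_prod {M N : Type} [AddCommGroup M] [AddCommGroup N] (hM : P X M) (hN : P X N) : P X (M × N) := by
  have hi : ∀ l : M, AddMonoidHom.snd M N (AddMonoidHom.inl M N l) = 0 := fun l => rfl
  have w := dmap_zero X (AddMonoidHom.inl M N) (AddMonoidHom.snd M N) hi
  have hs : Function.Surjective (AddMonoidHom.snd M N) := fun n => ⟨(0, n), rfl⟩
  have hA : (ShortComplex.mk (dmap X (AddMonoidHom.snd M N)) (dmap X (AddMonoidHom.inl M N)) w).ShortExact :=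
    { exact := exact_dmap X _ _ hs hi (fun m hm => ⟨m.1, Prod.ext rfl hm.symm⟩) _
      mono_f := mono_dmap X _ hs
      epi_g := by
        have : dmap X (AddMonoidHom.fst M N) ≫ dmap X (AddMonoidHom.inl M N) = 𝟙 _ := by
          rw [dmap_comp, ← dmap_id]
          rfl
        have hse : IsSplitEpi (dmap X (AddMonoidHom.inl M N)) := ⟨⟨⟨dmap X (AddMonoidHom.fst M N), this⟩⟩⟩
        exact inferInstanceAs (Epi (dmap X (AddMonoidHom.inl M N))) }
  exact fg_middle hA 1 hN hM

lemma P_fin (hU : AddGroup.FG (Additive (Γ(X, ⊤))ˣ)) (h : P X ℤ) (n : ℕ) : P X (Fin n → ℤ) := by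
  induction n with
  | zero =>
    exact P_quot X hU (fg_iff ℤ |>.2 inferInstance) (0 : ℤ →+ (Fin 0 → ℤ)) (fun x => ⟨0, Subsingleton.elim _ _⟩) h
  | succ n ih =>
    refine P_equiv X ?_ (P_prod X h ih)
    exact (Fin.consLinearEquiv ℤ (fun _ : Fin (n + 1) => ℤ)).toAddEquiv

/-- **Finite generation for `D(M)` from that for `𝔾_m`.** -/
theorem P_of_fg (hU : AddGroup.FG (Additive (Γ(X, ⊤))ˣ)) (h : P X ℤ) (M : Type) [AddCommGroup M]
    (hM : AddGroup.FG M) : P X M := by
  have : Module.Finite ℤ M := (fg_iff M).1 hM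
  obtain ⟨n, f, hf⟩ := Module.Finite.exists_fin' ℤ M
  exact P_quot X hU (fg_iff _ |>.2 inferInstance) f.toAddMonoidHom hf (P_fin X hU h n)

end ds

end K964.FgDS
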