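import Groth.Agent.MultTori.K964.Van
import Groth.Agent.MultTori.K964.MDict

/-!
# Base change of isotriviality and of the cyclic splitting condition
-/

set_option autoImplicit false
universe u

open CategoryTheory MonoidalCategory CartesianMonoidalCategory AlgebraicGeometry
open TensorProduct

namespace K964.LocBc

open K964.MDict K964.Van K964.BcPt Groth.Agent.Sga3B Groth.Agent.Sga3B.TorusAlgClosed
open scoped MonObj GrpObj

/-- Isotriviality is stable under base change. -/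
theorem isoT_bc {S S₁ : Scheme.{u}} (g : S₁ ⟶ S) (M : Over S) [GrpObj M] {Λ : Type} [AddCommGroup Λ]
    (hM : IsoT M Λ) : IsoT (Red.bc g M) Λ := by
  obtain ⟨S', f, hf1, hf2, hf3, h⟩ := hM
  refine ⟨Limits.pullback f g, Limits.pullback.snd f g, inferInstance, inferInstance, inferInstance, fun s' => ?_⟩
  obtain ⟨U, hU, hcl, ⟨e₀⟩⟩ := h ((Limits.pullback.fst f g).base s')
  refine ⟨(Limits.pullback.fst f g) ⁻¹ᵁ U, hU, hcl.preimage (Limits.pullback.fst f g).continuous, ?_⟩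
  let p := (Limits.pullback.fst f g) ∣_ U
  have e : Grp.mk (Red.bc p (Red.bc (U.ι ≫ f) M)) ≅ Grp.mk (Red.DS _ Λ) :=
    BcIso.bcMapIso p e₀ ≪≫ dsBcIso p Λ
  have h1 : (((Limits.pullback.fst f g) ⁻¹ᵁ U).ι ≫ Limits.pullback.snd f g) ≫ g =
      p ≫ (U.ι ≫ f) := by
    rw [Category.assoc, ← Limits.pullback.condition, ← Category.assoc, ← Category.assoc, morphismRestrict_ι]
  exact ⟨(BcIso.bcCompIso _ g M).symm ≪≫ BcIso.bcCongrIso h1 M ≪≫ BcIso.bcCompIso _ (U.ι ≫ f) M ≪≫ e⟩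

/-- from the composite base change -/
theorem cycSplit_of {A κ : Type u} [CommRing A] [Field κ] [Algebra A κ] {M : Over (Spec (CommRingCat.of A))} [GrpObj M]
    (L : Type u) [Field L] [Algebra κ L] [FiniteDimensional κ L] [IsGalois κ L]
    (hcyc : ∀ (p : ℕ) [Fact p.Prime] (P : Sylow p (L ≃ₐ[κ] L)), IsCyclic P) {Λ : Type} [AddCommGroup Λ]
    (e : Grp.mk (Red.bc (tb κ L ≫ tb A κ) M) ≅ Grp.mk (Red.DS (Spec (CommRingCat.of L)) Λ)) :
    CycSplit (Red.bc (tb A κ) M) :=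
  ⟨L, inferInstance, inferInstance, inferInstance, inferInstance, hcyc, Λ, inferInstance,
    ⟨(BcIso.bcCompIso _ _ M).symm ≪≫ e⟩⟩

lemma tb_comp (A R T : Type u) [CommRing A] [CommRing R] [CommRing T] [Algebra A R] [Algebra R T] [Algebra A T]
    [IsScalarTower A R T] : tb R T ≫ tb A R = tb A T := by
  rw [← Spec.map_comp, ← CommRingCat.ofHom_comp, ← IsScalarTower.algebraMap_eq]

theorem cycSplit_bc {A R κ : Type u} [CommRing A] [CommRing R] [Algebra A R] [Field κ] [Algebra A κ] [Algebra R κ]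
    [IsScalarTower A R κ] {M : Over (Spec (CommRingCat.of A))} [GrpObj M] (h : CycSplit (Red.bc (tb A κ) M)) :
    CycSplit (Red.bc (tb R κ) (Red.bc (tb A R) M)) := by
  obtain ⟨L, _, _, h1, h2, h3, Λ, _, ⟨e⟩⟩ := h
  refine ⟨L, inferInstance, inferInstance, h1, h2, h3, Λ, inferInstance, ⟨?_⟩⟩
  exact BcIso.bcMapIso (tb κ L) ((BcIso.bcCompIso (tb R κ) (tb A R) M).symm ≪≫ BcIso.bcCongrIso (tb_comp A R κ) M) ≪≫ e

end K964.LocBc
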