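import Groth.Agent.MultTori.K964.FgAlg
import Groth.Agent.MultTori.K964.LocBc

/-!
# Étale local trivialization of isotrivial groups over regular rings by domains
-/

set_option autoImplicit false
universe u

open CategoryTheory CategoryTheory.Limits AlgebraicGeometry Opposite MonoidalCategory CartesianMonoidalCategory

namespace K964.FgGeo

open K964.MDict K964.BcPt Groth.Agent.Sga3B Groth.Agent.Sga3B.TorusAlgClosed

theorem exists_loc (A : Type u) [CommRing A] [IsRegularRing A] (S : Over (Spec (CommRingCat.of A))) [GrpObj S]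
    {Λ : Type} [AddCommGroup Λ] (hS : IsoT S Λ) (x : Spec (CommRingCat.of A)) :
    ∃ (B : Type u) (_ : CommRing B) (_ : Algebra A B), Algebra.Etale A B ∧ IsDomain B ∧
      x ∈ Set.range (tb A B) ∧
      Nonempty (Grp.mk (Red.bc (tb A B) S) ≅ Grp.mk (Red.DS (Spec (CommRingCat.of B)) Λ)) := by
  obtain ⟨S', f, hf1, hf2, hf3, h⟩ := hS
  obtain ⟨s', hs'⟩ := f.surjective x
  obtain ⟨U, hU, hcl, ⟨e₀⟩⟩ := h s'
  let y : (U : Scheme.{u}) := ⟨s', hU⟩
  obtain ⟨_, ⟨V, hV, rfl⟩, hyV, -⟩ := (U : Scheme.{u}).isBasis_affineOpens.exists_subset_of_mem_open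
    (Set.mem_univ y) isOpen_univ
  have hV' : IsAffineOpen V := hV
  let C : Type u := Γ((U : Scheme.{u}), V)
  let q : Spec (CommRingCat.of C) ⟶ (U : Scheme.{u}) := hV'.fromSpec
  have hq : IsOpenImmersion q := inferInstanceAs (IsOpenImmersion hV'.fromSpec)
  obtain ⟨φ, hφ⟩ := Spec.map_surjective (q ≫ U.ι ≫ f)
  let : Algebra A C := φ.hom.toAlgebra
  have h1 : Etale (Spec.map φ) := by
    rw [hφ]
    infer_instance
  have h2 : Algebra.Etale A C := (HasRingHomProperty.Spec_iff (P := @Etale)).1 h1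
  obtain ⟨z, hz⟩ : y ∈ Set.range q := by
    have : Set.range hV'.fromSpec = (V : Set (U : Scheme.{u})) := hV'.range_fromSpec
    change y ∈ Set.range hV'.fromSpec
    rw [this]
    exact hyV
  let z' : PrimeSpectrum C := z
  obtain ⟨g, hg, hd, het⟩ := FgAlg.exists_away A C z'.asIdeal
  let B : Type u := Localization.Away g
  let r : Spec (CommRingCat.of B) ⟶ (U : Scheme.{u}) := Spec.map (CommRingCat.ofHom (algebraMap C B)) ≫ q
  have h3 : tb A B = r ≫ (U.ι ≫ f) := by
    change _ = (Spec.map (CommRingCat.ofHom (algebraMap C B)) ≫ q) ≫ (U.ι ≫ f)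
    rw [Category.assoc, ← hφ, ← Spec.map_comp]
    rfl
  refine ⟨B, inferInstance, inferInstance, het, hd, ?_, ⟨BcIso.bcCongrIso h3 S ≪≫ BcIso.bcCompIso r (U.ι ≫ f) S ≪≫
    BcIso.bcMapIso r e₀ ≪≫ dsBcIso r Λ⟩⟩
  have h4 : z' ∈ Set.range (PrimeSpectrum.comap (algebraMap C B)) := by
    rw [PrimeSpectrum.localization_away_comap_range B g]
    exact hg
  obtain ⟨w, hw⟩ := h4
  refine ⟨w, ?_⟩
  rw [h3]
  change (U.ι ≫ f) (q ((Spec.map (CommRingCat.ofHom (algebraMap C B))) w)) = x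
  have h5 : (Spec.map (CommRingCat.ofHom (algebraMap C B))) w = z := hw
  rw [h5, hz, ← hs']
  rfl

end K964.FgGeo
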