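import Groth.Agent.MultTori.K964.FgDS
import Groth.Agent.TateLoc.K810.GmIso
import Groth.Agent.TateLoc.K810.EtRes
import Groth.Agent.CurvesA.H1GmPicSurj
import Groth.Agent.S5714

/-!
# `H¹_fppf(X, 𝔾_m)` is finitely generated if `Pic X` is
-/

set_option autoImplicit false
universe u

open CategoryTheory CategoryTheory.Limits AlgebraicGeometry Opposite

namespace K964.FgGm

open K964.FgKer K964.FgDS

local notation "fp" => Scheme.fppfPrecoverage

theorem P_int (X : Scheme.{u}) (h : AddGroup.FG (Additive (Groth.Agent.Grpsch.PicGrp.Pic X))) : P X ℤ := by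
  have hc : EtFppf.ACont X := Groth.Agent.S0779.result _
  have hF : ∀ q : ℕ, 0 < q → IsZero ((BigSite.RresEt fp X q).obj (EtDl.GmF X)) := fun q hq =>
    Groth.Agent.S5714.result X q hq
  obtain ⟨e⟩ := K810.EtRes.nonempty_hEquiv X (CGrpSh2.Gm fp X)
    (fun q hq => (hF q hq).of_iso ((BigSite.RresEt fp X q).mapIso (K810.GmIso.isoF X))) 1
  have e2 : EtCoh.H X ((BigSite.resEt fp X).obj (CGrpSh2.Gm fp X)) 1 ≃+ EtCoh.H X (EtCoh.Gm X) 1 :=
    ((Abelian.extFunctorObj _ 1).mapIso (K810.GmIso.isoEt X)).addCommGroupIsoToAddEquiv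
  have e3 := (Groth.Agent.CurvesA.H1GmPic.picEquiv X).trans (e2.symm.trans e)
  exact fg_of_surjective e3.toAddMonoidHom e3.surjective h

end K964.FgGm
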