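import Groth.Agent.MultTori.K964.FgPic
import Groth.Agent.MultTori.K964.FgGm
import Groth.Agent.MultTori.K964.FgGeo
import Groth.Agent.MultTori.K792.Units
import Groth.Agent.TateLoc.K809.PtsPull
import Groth.Agent.TateGlob.K827.Abs
import Groth.Agent.Gerb.K895.Fppf
import Groth.Prelude.Def_ActBC

/-!
# RQ-E: finite generation of `H¹` of isotrivial groups of multiplicative type over regular rings of finite type
-/

set_option autoImplicit false
universe u

open CategoryTheory CategoryTheory.Limits AlgebraicGeometry Opposite MonoidalCategory CartesianMonoidalCategory MonObj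
open TensorProduct

namespace K964.FgH1

open K964.FgKer K964.FgDS K964.BcPt K828.BigCoh Groth.Agent.Sga3B Groth.Agent.Sga3B.DSPts K720.Kummer

local notation "fp" => Scheme.fppfPrecoverage

/-- sections of `D(M)` over `T` -/
lemma fg_sec {X : Scheme.{u}} (T : Over X) (hU : AddGroup.FG (Additive (Γ(T.left, ⊤))ˣ)) (M : Type) [AddCommGroup M]
    (hM : AddGroup.FG M) : AddGroup.FG ((dsh X M).obj.obj (op T)) := by
  obtain ⟨s, hs⟩ := hM.1
  let f : (dsh X M).obj.obj (op T) →+ (s → Additive (Γ(T.left, ⊤))ˣ) := AddMonoidHom.mk' (fun x m =>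
    Additive.ofMul ((dsChar (ULift.down x).toMul).toHomUnits (Multiplicative.ofAdd (m : M)))) (by
      intro x y
      funext m
      apply Additive.toMul.injective
      apply Units.ext
      exact DFunLike.congr_fun (dsChar_mul (ULift.down x).toMul (ULift.down y).toMul) _)
  refine fg_of_injective f ?_ (fg_pi fun _ => hU)
  intro x y hxy
  apply ULift.ext
  apply Additive.toMul.injective
  apply dsChar_injective
  let cx := (dsChar (ULift.down x).toMul).toHomUnits
  let cy := (dsChar (ULift.down y).toMul).toHomUnits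
  have h1 : cx = cy := by
    apply AddMonoidHom.toMultiplicativeLeft.symm.injective
    refine AddMonoidHom.eq_of_eqOn_dense hs fun m hm => ?_
    exact congrFun hxy ⟨m, hm⟩
  refine MonoidHom.ext fun m => ?_
  exact congrArg Units.val (DFunLike.congr_fun h1 m)

lemma fg_unitsSpec (B : Type u) [CommRing B] (h : Group.FG Bˣ) :
    AddGroup.FG (Additive (Γ(Spec (CommRingCat.of B), ⊤))ˣ) := by
  let e : B ≃+* Γ(Spec (CommRingCat.of B), ⊤) := (Scheme.ΓSpecIso (CommRingCat.of B)).symm.commRingCatIsoToRingEquiv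
  have h1 : Group.FG (Γ(Spec (CommRingCat.of B), ⊤))ˣ :=
    Group.fg_of_surjective (f := (Units.mapEquiv e.toMulEquiv).toMonoidHom) (Units.mapEquiv e.toMulEquiv).surjective
  exact GroupFG.iff_add_fg.1 h1

lemma fg_units_of_reduced (A B : Type u) [CommRing A] [CommRing B] [Algebra A B] [Algebra.FiniteType ℤ A]
    [Algebra.FiniteType A B] [IsReduced B] : Group.FG Bˣ := by
  have h5 : Algebra.FiniteType ℤ B := Algebra.FiniteType.trans ‹Algebra.FiniteType ℤ A› inferInstance
  exact K792.Units.unitsFG B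

/-- The isomorphism of sheaves of points. -/
noncomputable def ptsIso {S : Scheme.{u}} {G H : Over S} [GrpObj G] [IsCommMonObj G] [GrpObj H] [IsCommMonObj H]
    (e : Grp.mk G ≅ Grp.mk H) : CGrpSh.pts fp G ≅ CGrpSh.pts fp H where
  hom := CGrpSh.ptsMap fp e.hom.hom.hom
  inv := CGrpSh.ptsMap fp e.inv.hom.hom
  hom_inv_id := by
    rw [← CGrpSh.ptsMap_comp]
    have h : e.hom.hom.hom ≫ e.inv.hom.hom = 𝟙 G := congrArg (fun z => z.hom.hom) e.hom_inv_id
    simp only [h, CGrpSh.ptsMap_id]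
  inv_hom_id := by
    rw [← CGrpSh.ptsMap_comp]
    have h : e.inv.hom.hom ≫ e.hom.hom.hom = 𝟙 H := congrArg (fun z => z.hom.hom) e.inv_hom_id
    simp only [h, CGrpSh.ptsMap_id]

/-- local data -/
structure Dat (A : Type u) [CommRing A] (S : Over (Spec (CommRingCat.of A))) [GrpObj S] (Λ : Type) [AddCommGroup Λ] where
  B : Type u
  [crB : CommRing B]
  [algB : Algebra A B]
  [et : Algebra.Etale A B]
  [dom : IsDomain B]
  iso : Grp.mk (Red.bc (tb A B) S) ≅ Grp.mk (Red.DS (Spec (CommRingCat.of B)) Λ)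

attribute [instance] Dat.crB Dat.algB Dat.et Dat.dom

variable {A : Type u} [CommRing A] {S : Over (Spec (CommRingCat.of A))} [GrpObj S] [IsCommMonObj S] {Λ : Type}
  [AddCommGroup Λ]

/-- the sheaf over the covering -/
noncomputable def Dat.shIso (D : Dat A S Λ) :
    (BigSite.pullBig fp (tb A D.B) AddCommGrpCat.{u + 1}).obj (CGrpSh.pts fp S) ≅ dsh (Spec (CommRingCat.of D.B)) Λ :=
  K809.PtsPull.ptsPull fp (tb A D.B) S ≪≫ ptsIso D.iso

/-- the covering object -/
noncomputable abbrev Dat.U (D : Dat A S Λ) : Over (Spec (CommRingCat.of A)) := Over.mk (tb A D.B)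

/-- to the base -/
noncomputable def Dat.p (D : Dat A S Λ) : D.U ⟶ Over.mk (𝟙 (Spec (CommRingCat.of A))) := Over.homMk (tb A D.B) (Category.comp_id _)

/-- left inclusion -/
noncomputable abbrev Dat.il (D E : Dat A S Λ) : D.B →+* D.B ⊗[A] E.B :=
  (Algebra.TensorProduct.includeLeft : D.B →ₐ[A] D.B ⊗[A] E.B).toRingHom

/-- right inclusion -/
noncomputable abbrev Dat.ir (D E : Dat A S Λ) : E.B →+* D.B ⊗[A] E.B :=
  (Algebra.TensorProduct.includeRight : E.B →ₐ[A] D.B ⊗[A] E.B).toRingHom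

/-- the fibre product over the first factor -/
noncomputable abbrev Dat.W' (D E : Dat A S Λ) : Over (Spec (CommRingCat.of D.B)) :=
  Over.mk (Spec.map (CommRingCat.ofHom (D.il E)))

/-- the fibre product -/
noncomputable abbrev Dat.W (D E : Dat A S Λ) : Over (Spec (CommRingCat.of A)) := (Over.map (tb A D.B)).obj (D.W' E)

noncomputable def Dat.a (D E : Dat A S Λ) : D.W E ⟶ D.U :=
  Over.homMk (Spec.map (CommRingCat.ofHom (D.il E))) rfl

omit [IsCommMonObj S] in
lemma Dat.isPullback (D E : Dat A S Λ) : IsPullback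
    (Spec.map (CommRingCat.ofHom (D.il E)))
    (Spec.map (CommRingCat.ofHom (D.ir E)))
    (tb A D.B) (tb A E.B) :=
  isPullback_SpecMap_of_isPushout _ _ _ _ (CommRingCat.isPushout_tensorProduct A D.B E.B)

noncomputable def Dat.b (D E : Dat A S Λ) : D.W E ⟶ E.U :=
  Over.homMk (Spec.map (CommRingCat.ofHom (D.ir E)))
    (D.isPullback E).w.symm

omit [IsCommMonObj S] in
lemma Dat.fac (D E : Dat A S Λ) {Y : Over (Spec (CommRingCat.of A))} (y : Y ⟶ D.U) (z : Y ⟶ E.U) :
    ∃ w : Y ⟶ D.W E, w ≫ D.a E = y ∧ w ≫ D.b E = z := by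
  have h : y.left ≫ tb A D.B = z.left ≫ tb A E.B := (Over.w y).trans (Over.w z).symm
  refine ⟨Over.homMk ((D.isPullback E).lift y.left z.left h) ?_, ?_, ?_⟩
  · exact (Category.assoc _ _ _).symm.trans ((congrArg (· ≫ tb A D.B)
      ((D.isPullback E).lift_fst y.left z.left h)).trans (Over.w y))
  · ext
    exact (D.isPullback E).lift_fst _ _ _
  · ext
    exact (D.isPullback E).lift_snd _ _ _

/-- sections over the fibre products -/
lemma Dat.fg_W [IsRegularRing A] [Algebra.FiniteType ℤ A] (hΛ : AddGroup.FG Λ) (D E : Dat A S Λ) :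
    AddGroup.FG ((CGrpSh.pts fp S).obj.obj (op (D.W E))) := by
  have h1 : Algebra.Etale D.B (D.B ⊗[A] E.B) := inferInstance
  have h2 : Algebra.Etale A (D.B ⊗[A] E.B) := Algebra.Etale.comp A D.B (D.B ⊗[A] E.B)
  have h3 : IsRegularRing (D.B ⊗[A] E.B) := Groth.Agent.Ega4A.RegEtale.isRegularRing_of_etale A _
  have h4 : IsReduced (D.B ⊗[A] E.B) := FgAlg.isReduced_of_regular _
  have h6 := fg_sec (D.W' E) (fg_unitsSpec _ (fg_units_of_reduced A (D.B ⊗[A] E.B))) Λ hΛ
  have h7 : ((BigSite.pullBig fp (tb A D.B) AddCommGrpCat.{u + 1}).obj (CGrpSh.pts fp S)).obj.obj (op (D.W' E)) ≅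
      (dsh (Spec (CommRingCat.of D.B)) Λ).obj.obj (op (D.W' E)) :=
    ((sheafToPresheaf _ _).mapIso D.shIso).app (op (D.W' E))
  exact fg_of_surjective h7.addCommGroupIsoToAddEquiv.symm.toAddMonoidHom h7.addCommGroupIsoToAddEquiv.symm.surjective h6

/-- cohomology over the covering -/
lemma Dat.fg_U (hR : ∀ (B : Type u) [CommRing B] [IsDomain B] [IsRegularRing B] [Algebra.FiniteType ℤ B],
      Group.FG Bˣ ∧ Group.FG (CommRing.Pic B)) [IsRegularRing A] [Algebra.FiniteType ℤ A] (hΛ : AddGroup.FG Λ)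
    (D : Dat A S Λ) : AddGroup.FG ((bigCoh fp (Spec (CommRingCat.of A))).H (CGrpSh.pts fp S) 1 D.U) := by
  have h3 : IsRegularRing D.B := Groth.Agent.Ega4A.RegEtale.isRegularRing_of_etale A _
  have h5 : Algebra.FiniteType ℤ D.B := Algebra.FiniteType.trans ‹Algebra.FiniteType ℤ A› inferInstance
  obtain ⟨h6, h7⟩ := hR D.B
  have h8 := P_of_fg _ (fg_unitsSpec _ h6) (FgGm.P_int _ (FgPic.fg_pic h7)) Λ hΛ
  exact fg_of_iso D.shIso.symm 1 h8

/-- **RQ-E.** -/
theorem fg_H1 (hR : ∀ (B : Type u) [CommRing B] [IsDomain B] [IsRegularRing B] [Algebra.FiniteType ℤ B],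
      Group.FG Bˣ ∧ Group.FG (CommRing.Pic B))
    (A : Type u) [CommRing A] [IsRegularRing A] [Algebra.FiniteType ℤ A]
    (S : Over (Spec (CommRingCat.of A))) [GrpObj S] [IsCommMonObj S]
    (hS : ∃ (Λ : Type) (_ : AddCommGroup Λ), AddGroup.FG Λ ∧
      TwC.Locally (Spec (CommRingCat.of A)) .finiteEtale
        (fun S' g => Nonempty (Grp.mk (Red.bc g S) ≅ Grp.mk (Red.DS S' Λ)))) :
    AddGroup.FG (BigSite.H Scheme.fppfPrecoverage (Spec (CommRingCat.of A))
      (CGrpSh.pts Scheme.fppfPrecoverage S) 1) := by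
  obtain ⟨Λ, _, hΛ, hS⟩ := hS
  have h1 : ∀ x : Spec (CommRingCat.of A), ∃ D : Dat A S Λ, x ∈ Set.range (tb A D.B) := by
    intro x
    obtain ⟨B, _, _, h1, h2, h3, ⟨e⟩⟩ := FgGeo.exists_loc A S hS x
    exact ⟨{ B := B, iso := e }, h3⟩
  choose D hD using h1
  have hopen : ∀ x, IsOpen (Set.range (tb A (D x).B)) := by
    intro x
    have h2 : Etale (tb A (D x).B) := (HasRingHomProperty.Spec_iff (P := @Etale)).2
      (RingHom.etale_algebraMap.2 inferInstance)
    exact (tb A (D x).B).isOpenMap.isOpen_range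
  obtain ⟨t, ht⟩ := isCompact_univ.elim_finite_subcover (fun x => Set.range (tb A (D x).B)) hopen
    (fun x _ => Set.mem_iUnion.2 ⟨x, hD x⟩)
  have hcov : Sieve.ofArrows (fun i : t => (D i.1).U) (fun i => (D i.1).p) ∈
      QuotSh.J fp (Spec (CommRingCat.of A)) (Over.mk (𝟙 _)) := by
    refine K895.Fppf.mem_of_family (I := ULift.{u + 1} t) (fun i => (D i.down.1).U) (fun i => (D i.down.1).p)
      (fun i => Sieve.ofArrows_mk _ _ _) (fun i => ?_) (fun i => ?_) (fun x => ?_)
    · have h2 : Etale (tb A (D i.down.1).B) := (HasRingHomProperty.Spec_iff (P := @Etale)).2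
        (RingHom.etale_algebraMap.2 inferInstance)
      exact inferInstanceAs (Flat (tb A (D i.down.1).B))
    · have h2 : Etale (tb A (D i.down.1).B) := (HasRingHomProperty.Spec_iff (P := @Etale)).2
        (RingHom.etale_algebraMap.2 inferInstance)
      exact inferInstanceAs (LocallyOfFinitePresentation (tb A (D i.down.1).B))
    · obtain ⟨y, hy, hx⟩ := Set.mem_iUnion₂.1 (ht (Set.mem_univ x))
      exact ⟨⟨⟨y, hy⟩⟩, hx⟩
  have h2 := FgKer.fg_H1 (bigCoh fp (Spec (CommRingCat.of A))) (CGrpSh.pts fp S) (fun i : t => (D i.1).U)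
    (fun i => (D i.1).p) hcov (fun i j => (D i.1).W (D j.1)) (fun i j => (D i.1).a (D j.1))
    (fun i j => (D i.1).b (D j.1)) (fun i j => Over.OverMorphism.ext ((Over.w ((D i.1).a (D j.1))).trans
      (Over.w ((D i.1).b (D j.1))).symm))
    (fun i j {Y} y z _ => (D i.1).fac (D j.1) y z) (fun i j => (D i.1).fg_W hΛ (D j.1)) (fun i => (D i.1).fg_U hR hΛ)
  exact fg_of_injective (K827.Abs.absE (CGrpSh.pts fp S) 1).toAddMonoidHom
    (K827.Abs.absE (CGrpSh.pts fp S) 1).injective h2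

end K964.FgH1
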