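import Groth.Agent.TateGlob.K827.H1

/-!
# Finite generation of `H¹` from a covering family
-/

set_option autoImplicit false
universe u v w

open CategoryTheory CategoryTheory.Limits AlgebraicGeometry Opposite

namespace K964.FgKer

section alg

lemma fg_iff (A : Type*) [AddCommGroup A] : AddGroup.FG A ↔ Module.Finite ℤ A := Module.Finite.iff_addGroup_fg.symm

lemma fg_of_injective {A B : Type*} [AddCommGroup A] [AddCommGroup B] (f : A →+ B) (hf : Function.Injective f)
    (hB : AddGroup.FG B) : AddGroup.FG A := by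
  rw [fg_iff] at hB ⊢
  exact Module.Finite.of_injective f.toIntLinearMap hf

lemma fg_of_surjective {A B : Type*} [AddCommGroup A] [AddCommGroup B] (f : A →+ B) (hf : Function.Surjective f)
    (hA : AddGroup.FG A) : AddGroup.FG B := by
  rw [fg_iff] at hA ⊢
  exact Module.Finite.of_surjective f.toIntLinearMap hf

lemma fg_pi {ι : Type*} [Finite ι] {A : ι → Type*} [∀ i, AddCommGroup (A i)] (h : ∀ i, AddGroup.FG (A i)) :
    AddGroup.FG (∀ i, A i) := by
  rw [fg_iff]
  have := fun i => (fg_iff (A i)).1 (h i)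
  infer_instance

/-- from the image and the kernel -/
lemma fg_of_ker {A B : Type*} [AddCommGroup A] [AddCommGroup B] (f : A →+ B) (hB : AddGroup.FG B)
    (hk : AddGroup.FG f.ker) : AddGroup.FG A := by
  have h1 : Module.Finite ℤ (LinearMap.ker f.toIntLinearMap) := (fg_iff f.ker).1 hk
  have h2 : Module.Finite ℤ (LinearMap.range f.toIntLinearMap) := by
    rw [fg_iff] at hB
    infer_instance
  have h3 : Module.Finite ℤ (A ⧸ LinearMap.ker f.toIntLinearMap) :=
    Module.Finite.equiv f.toIntLinearMap.quotKerEquivRange.symm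
  rw [fg_iff]
  exact Module.Finite.of_submodule_quotient (LinearMap.ker f.toIntLinearMap)

/-- quotients of subgroups -/
lemma fg_of_le_ker {N B K : Type*} [AddCommGroup N] [AddCommGroup B] [AddCommGroup K] (φ : N →+ B) (ψ : N →+ K)
    (hB : AddGroup.FG B) (hψ : Function.Surjective ψ) (h : ∀ n, φ n = 0 → ψ n = 0) : AddGroup.FG K := by
  have h1 : AddGroup.FG φ.range := fg_of_injective φ.range.subtype Subtype.val_injective hB
  have h2 : ∀ n n', φ n = φ n' → ψ n = ψ n' := by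
    intro n n' e
    rw [← sub_eq_zero, ← map_sub]
    apply h
    rw [map_sub, e, sub_self]
  let χ : φ.range →+ K :=
    { toFun := fun x => ψ x.2.choose
      map_zero' := h _ ((0 : φ.range).2.choose_spec)
      map_add' := fun x y => by
        rw [← map_add]
        apply h2
        rw [map_add, x.2.choose_spec, y.2.choose_spec, (x + y).2.choose_spec]
        rfl }
  refine fg_of_surjective χ (fun k => ?_) h1
  obtain ⟨n, rfl⟩ := hψ k
  exact ⟨⟨φ n, n, rfl⟩, h2 _ _ (Exists.choose_spec (p := fun m => φ m = φ n) _)⟩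

end alg

open K828 K828.Cech K828.Cartan K827.H1

variable {K : Precoverage Scheme.{u}} {S : Scheme.{u}}

/-- **Finite generation of `H¹` from a finite covering family.** -/
theorem fg_H1 (𝓗 : CohT K S) (F : BigSite.Ab K S) {T : Over S} {ι : Type u} [Finite ι] (U : ι → Over S)
    (p : ∀ i, U i ⟶ T) (hp : Sieve.ofArrows U p ∈ QuotSh.J K S T) (W : ι → ι → Over S)
    (a : ∀ i j, W i j ⟶ U i) (b : ∀ i j, W i j ⟶ U j) (hab : ∀ i j, a i j ≫ p i = b i j ≫ p j)
    (hW : ∀ i j {Y : Over S} (y : Y ⟶ U i) (z : Y ⟶ U j), y ≫ p i = z ≫ p j →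
      ∃ w : Y ⟶ W i j, w ≫ a i j = y ∧ w ≫ b i j = z)
    (hF : ∀ i j, AddGroup.FG (F.obj.obj (op (W i j)))) (hH : ∀ i, AddGroup.FG (𝓗.H F 1 (U i))) :
    AddGroup.FG (𝓗.H F 1 T) := by
  have hA := emb_exact F
  let A := emb F
  have hle := le_of_shortExact hA
  let r : 𝓗.H F 1 T →+ ∀ i, 𝓗.H F 1 (U i) := AddMonoidHom.mk' (fun x i => 𝓗.res (p i) x)
    (fun x y => funext fun i => map_add _ _ _)
  refine fg_of_ker r (fg_pi hH) ?_
  let N : AddSubgroup (A.X₃.obj.obj (op T) × ∀ i, A.X₂.obj.obj (op (U i))) :=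
    { carrier := {z | ∀ i, A.g.hom.app (op (U i)) (z.2 i) = rs A.X₃ (p i) z.1}
      add_mem' := fun {z w} hz hw i => by
        refine (map_add _ _ _).trans ?_
        rw [hz i, hw i]
        exact (rs_add _ _ _ _).symm
      zero_mem' := fun i => (map_zero _).trans (rs_zero _ _).symm
      neg_mem' := fun {z} hz i => by
        refine (map_neg _ _).trans ?_
        rw [hz i]
        exact (rs_neg _ _ _).symm }
  have h1 : ∀ (z : N) i j, ∃ t : F.obj.obj (op (W i j)), A.f.hom.app (op (W i j)) t =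
      rs A.X₂ (a i j) (z.1.2 i) - rs A.X₂ (b i j) (z.1.2 j) := by
    intro z i j
    apply hle.ex
    refine (map_sub _ _ _).trans ?_
    rw [sub_eq_zero]
    refine (rs_nat A.g (a i j) _).trans (Eq.trans ?_ (rs_nat A.g (b i j) _).symm)
    rw [z.2 i, z.2 j, rs_comp, rs_comp, hab]
  choose t ht using h1
  let φ : N →+ ∀ i j, F.obj.obj (op (W i j)) := AddMonoidHom.mk' (fun z i j => t z i j) (fun z w => by
    funext i j
    apply hle.inj'
    refine (ht _ i j).trans ?_
    refine Eq.trans ?_ (map_add _ _ _).symm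
    change rs A.X₂ (a i j) (z.1.2 i + w.1.2 i) - rs A.X₂ (b i j) (z.1.2 j + w.1.2 j) =
      A.f.hom.app (op (W i j)) (t z i j) + A.f.hom.app (op (W i j)) (t w i j)
    rw [ht, ht, rs_add, rs_add]
    abel)
  let ψ₀ : N →+ 𝓗.H F 1 T := ((𝓗.del hA).comp (𝓗.sec (F := A.X₃) (T := T)).symm.toAddMonoidHom).comp ((AddMonoidHom.fst _ _).comp N.subtype)
  have hψ₀ : ∀ z : N, ψ₀ z = 𝓗.del hA (𝓗.sec.symm z.1.1) := fun z => rfl
  have hsr : ∀ {T T' : Over S} (f : T' ⟶ T) (q : A.X₃.obj.obj (op T)),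
      𝓗.res f (𝓗.sec.symm q) = 𝓗.sec.symm (rs A.X₃ f q) := by
    intro T T' f q
    apply 𝓗.sec.injective
    rw [𝓗.sec_res, AddEquiv.apply_symm_apply, AddEquiv.apply_symm_apply]
  have hdr : ∀ {T T' : Over S} (f : T' ⟶ T) (y : 𝓗.H A.X₃ 0 T),
      𝓗.res (F := F) (n := 1) f (𝓗.del hA y) = 𝓗.del hA (𝓗.res f y) := fun f y => (𝓗.del_res hA f y).symm
  have h2 : ∀ z : N, ψ₀ z ∈ r.ker := by
    intro z
    rw [AddMonoidHom.mem_ker]
    funext i
    change 𝓗.res (p i) (ψ₀ z) = 0
    rw [hψ₀, hdr, hsr]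
    refine (del_sec_eq_zero_iff 𝓗 hA _).2 ?_
    exact ⟨z.1.2 i, z.2 i⟩
  let ψ : N →+ r.ker := ψ₀.codRestrict r.ker h2
  have hψ : ∀ z : N, ((ψ z : r.ker) : 𝓗.H F 1 T) = ψ₀ z := fun z => rfl
  refine fg_of_le_ker φ ψ (fg_pi fun i => fg_pi fun j => hF i j) ?_ ?_
  · rintro ⟨x, hx⟩
    have : Injective A.X₂ := inferInstanceAs (Injective (Injective.under F))
    obtain ⟨y, rfl⟩ := 𝓗.exists_del hA x
    obtain ⟨q, rfl⟩ := 𝓗.sec.symm.surjective y
    have h3 : ∀ i, ∃ s : A.X₂.obj.obj (op (U i)), A.g.hom.app (op (U i)) s = rs A.X₃ (p i) q := by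
      intro i
      rw [← del_sec_eq_zero_iff 𝓗 hA, ← hsr, ← hdr]
      exact congrFun hx i
    choose s hs using h3
    exact ⟨⟨(q, s), hs⟩, Subtype.ext rfl⟩
  · intro z hz
    apply Subtype.ext
    rw [hψ, hψ₀]
    refine (del_sec_eq_zero_iff 𝓗 hA _).2 ?_
    have hz' : ∀ i j, rs A.X₂ (a i j) (z.1.2 i) = rs A.X₂ (b i j) (z.1.2 j) := by
      intro i j
      rw [← sub_eq_zero, ← ht]
      have h4 : t z i j = 0 := congrFun (congrFun hz i) j
      rw [h4]
      exact map_zero _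
    -- glue
    have hsh := isSheaf_ty A.X₂.property
    have h5 : Presieve.IsSheafFor (A.X₂.obj ⋙ forget AddCommGrpCat.{u + 1}) (Presieve.ofArrows U p) := by
      rw [Presieve.isSheafFor_iff_generate]
      exact hsh _ hp
    rw [Presieve.isSheafFor_arrows_iff] at h5
    obtain ⟨s, hs, -⟩ := h5 (fun i => z.1.2 i) (by
      intro i j Y y y' e
      obtain ⟨w, rfl, rfl⟩ := hW i j y y' e
      have h6 := congrArg (rs A.X₂ w) (hz' i j)
      rw [rs_comp, rs_comp] at h6
      exact h6)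
    refine ⟨s, ?_⟩
    have h7 : Presieve.IsSeparatedFor (A.X₃.obj ⋙ forget AddCommGrpCat.{u + 1}) (Presieve.ofArrows U p) := by
      rw [Presieve.isSeparatedFor_iff_generate]
      exact ((isSheaf_ty A.X₃.property) _ hp).isSeparatedFor
    refine h7.ext ?_
    rintro Y f ⟨i⟩
    refine ((rs_nat A.g (p i) s).symm.trans ?_)
    have h8 : rs A.X₂ (p i) s = z.1.2 i := hs i
    rw [h8]
    exact z.2 i

end K964.FgKer
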