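import Groth.Agent.AlgGrp.K407.AffPic
import Groth.Agent.MultTori.K964.FgKer
import Mathlib.RingTheory.PicardGroup

/-!
# `Pic (Spec R)` is finitely generated if `Pic R` is
-/

set_option autoImplicit false
universe u

open CategoryTheory CategoryTheory.Limits AlgebraicGeometry Opposite

namespace K964.FgPic

open Groth.Agent.Grpsch.PicGrp Groth.Agent.Sga7.H591.Dcl K407.AffPic K407.IdealInv Groth.Agent.Divis.EffCartier
open scoped nonZeroDivisors

section

variable {R : Type u} [CommRing R] [IsDomain R]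

lemma exists_unit {I : Ideal R} (h : IsInv I) : ∃ v : (FractionalIdeal R⁰ (FractionRing R))ˣ,
    (v : FractionalIdeal R⁰ (FractionRing R)) = (I : FractionalIdeal R⁰ (FractionRing R)) := by
  obtain ⟨J, z, hz, hJ⟩ := h
  have h1 : (I : FractionalIdeal R⁰ (FractionRing R)) * ((J : FractionalIdeal R⁰ (FractionRing R)) *
      FractionalIdeal.spanSingleton R⁰ (algebraMap R (FractionRing R) z)⁻¹) = 1 := by
    rw [← mul_assoc, ← FractionalIdeal.coeIdeal_mul, hJ, FractionalIdeal.coeIdeal_span_singleton,
      FractionalIdeal.spanSingleton_mul_spanSingleton, mul_inv_cancel₀, FractionalIdeal.spanSingleton_one]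
    intro h0
    exact hz ((IsFractionRing.injective R (FractionRing R)) (h0.trans (map_zero _).symm))
  exact ⟨⟨_, _, h1, by rw [mul_comm]; exact h1⟩, rfl⟩

lemma dcl_eq_of_span {D E : (Spec (CommRingCat.of R)).IdealSheafData} (hD : BlowUp.IsEffCartierIdeal D)
    (hE : BlowUp.IsEffCartierIdeal E) {x y : R} (hx : x ≠ 0) (hy : y ≠ 0)
    (h : Ideal.span {x} * idl D = Ideal.span {y} * idl E) : dcl D hD = dcl E hE := by
  obtain ⟨F, hF⟩ := exists_idl (Ideal.span {x})
  obtain ⟨G, hG⟩ := exists_idl (Ideal.span {y})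
  have hF' := isEff_of_idl_eq_span hx hF
  have hG' := isEff_of_idl_eq_span hy hG
  rw [← hF, ← hG, ← idl_mul, ← idl_mul] at h
  have h1 := idl_injective h
  have h2 : dcl (F * D) (isEff_mul hF' hD) = dcl (G * E) (isEff_mul hG' hE) := by
    simp only [h1]
  rw [dcl_mul hF' hD, dcl_mul hG' hE, dcl_eq_one_of_span hF' hF, dcl_eq_one_of_span hG' hG, one_mul, one_mul] at h2
  exact h2

/-- **`Pic (Spec R)` is finitely generated.** -/
theorem fg_pic (h : Group.FG (CommRing.Pic R)) : AddGroup.FG (Additive (Pic (Spec (CommRingCat.of R)))) := by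
  choose D hD hc using fun c : Pic (Spec (CommRingCat.of R)) => exists_dcl c
  choose v hv using fun c => exists_unit (isInv_idl (hD c))
  let f : Additive (Pic (Spec (CommRingCat.of R))) →+ Additive (ClassGroup R) := AddMonoidHom.mk'
    (fun c => Additive.ofMul (ClassGroup.mk (K := FractionRing R) (v c.toMul))) (by
      intro a b
      rw [← ofMul_mul, ← map_mul]
      congr 1
      rw [ClassGroup.mk_eq_mk_of_coe_ideal (hv _) (J' := idl (D a.toMul) * idl (D b.toMul))
        (by rw [Units.val_mul, hv, hv, FractionalIdeal.coeIdeal_mul])]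
      rw [← idl_mul]
      exact exists_of_dcl_eq (hD _) (isEff_mul (hD _) (hD _)) (by rw [dcl_mul (hD _) (hD _), hc, hc, hc]; rfl))
  refine FgKer.fg_of_injective f ?_ ?_
  · intro a b hab
    have h1 : ClassGroup.mk (K := FractionRing R) (v a.toMul) = ClassGroup.mk (K := FractionRing R) (v b.toMul) := hab
    rw [ClassGroup.mk_eq_mk_of_coe_ideal (hv _) (hv _)] at h1
    obtain ⟨x, y, hx, hy, h2⟩ := h1
    have h3 := dcl_eq_of_span (hD _) (hD _) hx hy h2
    rw [hc, hc] at h3
    exact h3
  · have h1 : Group.FG (ClassGroup R) := Group.fg_of_surjective (f := (ClassGroup.equivPic R).symm.toMonoidHom)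
      (ClassGroup.equivPic R).symm.surjective
    exact GroupFG.iff_add_fg.1 h1

end

end K964.FgPic
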