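import Groth.Agent.MultTori.K965.IsGal
import Mathlib.FieldTheory.Normal.Defs
import Mathlib.RingTheory.Ideal.Quotient.Basic
import Mathlib.RingTheory.Ideal.Operations
import Mathlib.RingTheory.Ideal.Quotient.Operations
import Mathlib.RingTheory.Ideal.Maximal

/-!
# Homomorphisms from a Galois extension to a domain

`C` Galois over `A` with group `G`, `Ω` a domain over `A`, `s : C →ₐ[A] Ω`.
* `free`, `trans`: `G` acts simply transitively on the homomorphisms `C →ₐ[A] Ω`.
* `dec s`: the decomposition group, acting on `Lq s = C ⧸ ker s`.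
* `eq_zero_of_forall`, `exists_coind`: `C` is coinduced from `Lq s`.
-/

set_option autoImplicit false
universe u v

open TensorProduct

namespace K964.GalHom

open K965.Gal

variable {A C : Type u} [CommRing A] [CommRing C] [Algebra A C] {G : Type} [Group G] [Fintype G]
  [MulSemiringAction G C] [SMulCommClass G A C]

/-- the trace lands in the base -/
lemma exists_tr (hG : IsGal A C G) (c : C) : ∃ a, algebraMap A C a = ∑ g : G, g • c := by
  apply hG.inv
  intro g
  rw [Finset.smul_sum]
  simp only [← mul_smul]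
  exact Fintype.sum_equiv (Equiv.mulLeft g) _ _ (fun h => rfl)

variable {n : ℕ} {x y : Fin n → C} (h1 : ∑ i, x i * y i = 1) (h2 : ∀ g : G, g ≠ 1 → ∑ i, x i * g • y i = 0)
include h1 h2

lemma expand (c : C) : c = ∑ i, x i * ∑ g : G, g • (y i * c) := by
  classical
  have e1 : ∑ i, x i * ∑ g : G, g • (y i * c) = ∑ g : G, (∑ i, x i * g • y i) * g • c := by
    simp only [Finset.mul_sum, Finset.sum_mul, smul_mul']
    rw [Finset.sum_comm]
    exact Finset.sum_congr rfl fun g _ => Finset.sum_congr rfl fun i _ => by ring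
  rw [e1, Finset.sum_eq_single 1]
  · simp [h1]
  · intro g _ hg
    rw [h2 g hg, zero_mul]
  · intro h
    exact absurd (Finset.mem_univ _) h

lemma expand' (c : C) : c = ∑ i, (∑ g : G, g • (c * x i)) * y i := by
  classical
  have e1 : ∑ i, (∑ g : G, g • (c * x i)) * y i = ∑ g : G, g • c * g • (∑ i, x i * g⁻¹ • y i) := by
    simp only [Finset.smul_sum, Finset.mul_sum, Finset.sum_mul, smul_mul', smul_inv_smul]
    rw [Finset.sum_comm]
    exact Finset.sum_congr rfl fun g _ => Finset.sum_congr rfl fun i _ => by ring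
  rw [e1, Finset.sum_eq_single 1]
  · simp [h1]
  · intro g _ hg
    rw [h2 g⁻¹ (by simpa using hg), smul_zero, mul_zero]
  · intro h
    exact absurd (Finset.mem_univ _) h

omit h1 h2

variable {Ω : Type u} [CommRing Ω] [IsDomain Ω] [Algebra A Ω] (s : C →ₐ[A] Ω)

omit [IsDomain Ω] in
theorem free [Nontrivial Ω] (hG : IsGal A C G) {g g' : G} (h : ∀ c : C, s (g • c) = s (g' • c)) : g = g' := by
  obtain ⟨n, x, y, h1, h2⟩ := hG.dual
  by_contra hne
  have h3 : g⁻¹ * g' ≠ 1 := fun h => hne (by rw [inv_mul_eq_one] at h; exact h)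
  have h4 := h2 _ h3
  have h5 : s (g • (∑ i, x i * y i)) = s (g • ∑ i, x i * (g⁻¹ * g') • y i) := by
    simp only [Finset.smul_sum, smul_mul', map_sum, map_mul, ← mul_smul, mul_inv_cancel_left]
    exact Finset.sum_congr rfl fun i _ => by rw [h (y i)]
  rw [h1, h4, smul_one, smul_zero, map_one, map_zero] at h5
  exact one_ne_zero h5

theorem trans (hG : IsGal A C G) (f : C →ₐ[A] Ω) : ∃ g : G, ∀ c, f c = s (g • c) := by
  classical
  obtain ⟨n, x, y, h1, h2⟩ := hG.dual
  let e : G → Ω := fun g => ∑ i, f (x i) * s (g • y i)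
  have hsum : ∑ g, e g = 1 := by
    have e1 : ∑ g, e g = ∑ i, f (x i) * s (∑ g : G, g • y i) := by
      simp only [e, map_sum, Finset.mul_sum]
      rw [Finset.sum_comm]
    have e2 : ∀ i, s (∑ g : G, g • y i) = f (∑ g : G, g • y i) := by
      intro i
      obtain ⟨a, ha⟩ := exists_tr hG (y i)
      rw [← ha, AlgHom.commutes, AlgHom.commutes]
    have e3 := expand h1 h2 1
    simp only [mul_one] at e3
    rw [e1]
    simp only [e2]
    rw [← map_one f, e3, map_sum]
    simp only [map_mul]
  obtain ⟨g, hg⟩ : ∃ g, e g ≠ 0 := by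
    by_contra hne
    push Not at hne
    rw [Finset.sum_eq_zero fun g _ => hne g] at hsum
    exact zero_ne_one hsum
  refine ⟨g, fun c => ?_⟩
  apply mul_right_cancel₀ hg
  -- both sides are the double sum
  have e1 : ∀ i, s (g • (c * y i)) = ∑ j, f (∑ h : G, h • (c * y i * x j)) * s (g • y j) := by
    intro i
    have e2 : ∀ j, f (∑ h : G, h • (c * y i * x j)) = s (g • ∑ h : G, h • (c * y i * x j)) := by
      intro j
      obtain ⟨a, ha⟩ := exists_tr hG (c * y i * x j)
      have e5 : g • algebraMap A C a = algebraMap A C a := by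
        rw [Algebra.algebraMap_eq_smul_one, smul_comm, smul_one]
      rw [← ha, e5, AlgHom.commutes, AlgHom.commutes]
    simp only [e2]
    conv_lhs => rw [expand' h1 h2 (c * y i)]
    rw [Finset.smul_sum, map_sum]
    exact Finset.sum_congr rfl fun j _ => by rw [smul_mul', map_mul]
  have e3 : s (g • c) * e g = ∑ i, f (x i) * s (g • (c * y i)) := by
    simp only [e, Finset.mul_sum, smul_mul', map_mul]
    exact Finset.sum_congr rfl fun i _ => by ring
  have e4 : f c * e g = ∑ j, f (c * x j) * s (g • y j) := by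
    simp only [e, Finset.mul_sum, map_mul]
    exact Finset.sum_congr rfl fun i _ => by ring
  rw [e3, e4]
  simp only [e1, Finset.mul_sum]
  rw [Finset.sum_comm]
  refine Finset.sum_congr rfl fun j _ => ?_
  conv_lhs => rw [expand h1 h2 (c * x j)]
  rw [map_sum, Finset.sum_mul]
  refine Finset.sum_congr rfl fun i _ => ?_
  rw [map_mul]
  have e5 : y i * (c * x j) = c * y i * x j := by ring
  rw [e5]
  ring

omit [IsDomain Ω] in
/-- an element with all conjugates in the kernel vanishes -/
theorem eq_zero_of_forall (hG : IsGal A C G) (hA : Function.Injective (algebraMap A Ω)) (c : C)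
    (hc : ∀ g : G, s (g⁻¹ • c) = 0) : c = 0 := by
  obtain ⟨n, x, y, h1, h2⟩ := hG.dual
  rw [expand h1 h2 c]
  refine Finset.sum_eq_zero fun i _ => ?_
  obtain ⟨a, ha⟩ := exists_tr hG (y i * c)
  have h3 : algebraMap A Ω a = 0 := by
    rw [← s.commutes, ha, map_sum]
    refine Finset.sum_eq_zero fun g _ => ?_
    rw [smul_mul', map_mul]
    have := hc g⁻¹
    rw [inv_inv] at this
    rw [this, mul_zero]
  have h4 : a = 0 := hA (by rw [h3, map_zero])
  rw [← ha, h4, map_zero, mul_zero]

variable (G) in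
omit [IsDomain Ω] [Fintype G] in
/-- the decomposition group -/
def dec : Subgroup G where
  carrier := {g | ∀ c : C, s c = 0 ↔ s (g • c) = 0}
  mul_mem' {a b} ha hb c := by rw [hb c, ha (b • c), mul_smul]
  one_mem' c := by rw [one_smul]
  inv_mem' {a} ha c := by rw [ha (a⁻¹ • c), smul_inv_smul]

omit [IsDomain Ω] [Fintype G] [SMulCommClass G A C] in
lemma mem_dec {g : G} : g ∈ dec G s ↔ ∀ c : C, s c = 0 ↔ s (g • c) = 0 := Iff.rfl

/-- the residue ring -/
abbrev Lq : Type u := C ⧸ RingHom.ker (s : C →+* Ω)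

omit [IsDomain Ω] [Fintype G] in
/-- the action on the residue ring -/
noncomputable instance decAct : MulSemiringAction (dec G s) (Lq s) where
  smul d := Ideal.Quotient.lift (RingHom.ker (s : C →+* Ω))
    ((Ideal.Quotient.mk _).comp (MulSemiringAction.toRingHom G C (d : G))) (fun c hc => by
      rw [RingHom.comp_apply, Ideal.Quotient.eq_zero_iff_mem]
      exact (d.2 c).1 hc)
  one_smul x := by
    obtain ⟨c, rfl⟩ := Ideal.Quotient.mk_surjective x
    change Ideal.Quotient.mk _ ((1 : G) • c) = _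
    rw [one_smul]
  mul_smul d e x := by
    obtain ⟨c, rfl⟩ := Ideal.Quotient.mk_surjective x
    change Ideal.Quotient.mk _ (((d : G) * (e : G)) • c) = Ideal.Quotient.mk _ ((d : G) • (e : G) • c)
    rw [mul_smul]
  smul_zero d := map_zero _
  smul_add d := map_add _
  smul_one d := map_one _
  smul_mul d := map_mul _

omit [IsDomain Ω] [Fintype G] [SMulCommClass G A C] in
lemma mk_smul (d : dec G s) (c : C) : Ideal.Quotient.mk (RingHom.ker (s : C →+* Ω)) ((d : G) • c) =
    d • Ideal.Quotient.mk (RingHom.ker (s : C →+* Ω)) c := rfl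

omit [IsDomain Ω] in
lemma mk_eq_zero (c : C) : Ideal.Quotient.mk (RingHom.ker (s : C →+* Ω)) c = 0 ↔ s c = 0 :=
  Ideal.Quotient.eq_zero_iff_mem

omit [IsDomain Ω] [SMulCommClass G A C] in
theorem exists_coind (hmax : (RingHom.ker (s : C →+* Ω)).IsMaximal) (f : G → Lq s)
    (hf : ∀ (g : G) (d : dec G s), f (g * d) = d⁻¹ • f g) :
    ∃ c : C, ∀ g, Ideal.Quotient.mk (RingHom.ker (s : C →+* Ω)) (g⁻¹ • c) = f g := by
  classical
  let I : G → Ideal C := fun g => (RingHom.ker (s : C →+* Ω)).comap (MulSemiringAction.toRingEquiv G C g⁻¹)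
  have hI : ∀ g c, c ∈ I g ↔ s (g⁻¹ • c) = 0 := fun g c => Iff.rfl
  have hImax : ∀ g, (I g).IsMaximal := fun g => Ideal.comap_isMaximal_of_equiv _
  have hne : Pairwise (Function.onFun IsCoprime fun q : G ⧸ dec G s => I q.out) := by
    intro q q' hqq'
    apply Ideal.isCoprime_of_isMaximal
    intro h
    apply hqq'
    rw [← q.out_eq', ← q'.out_eq', QuotientGroup.eq]
    intro c
    have h1 := hI q'.out (q'.out • c)
    have h2 := hI q.out (q'.out • c)
    rw [inv_smul_smul] at h1
    have h3 : I q.out = I q'.out := h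
    rw [← h1, ← h3, h2, mul_smul]
  choose x hx using fun q : G ⧸ dec G s => Ideal.Quotient.mk_surjective (f q.out)
  obtain ⟨c, hc⟩ := Ideal.exists_forall_sub_mem_ideal hne (fun q => q.out • x q)
  refine ⟨c, fun g => ?_⟩
  obtain ⟨d, hd⟩ : ∃ d : dec G s, g = (QuotientGroup.mk g : G ⧸ dec G s).out * d := by
    have h1 : (QuotientGroup.mk g : G ⧸ dec G s).out⁻¹ * g ∈ dec G s := by
      rw [← QuotientGroup.eq]
      exact QuotientGroup.out_eq' _
    exact ⟨⟨_, h1⟩, by simp⟩
  set q : G ⧸ dec G s := QuotientGroup.mk g with hq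
  have h2 := hc q
  rw [hI, smul_sub, inv_smul_smul, ← mk_eq_zero, map_sub, sub_eq_zero] at h2
  rw [hd, hf, mul_inv_rev, mul_smul, ← hx q, ← h2, ← Subgroup.coe_inv, mk_smul]

end K964.GalHom
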