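import Groth.Agent.MultTori.K964.PtLift
import Groth.Agent.MultTori.K964.MDict
import Groth.Agent.MultTori.K965.LatTor
import Groth.Agent.Sga3B.PinTransport

/-!
# Tori split by a Galois extension are isotrivial
-/

set_option autoImplicit false
universe u

open CategoryTheory CategoryTheory.Limits MonoidalCategory CartesianMonoidalCategory AlgebraicGeometry
open TensorProduct

namespace K964.IsoTor

open K965.Gal K964.BcPt Groth.Agent.Sga3B Groth.Agent.Sga3B.TorusAlgClosed
open K965.Pts (sp mp)
open scoped MonObj GrpObj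

variable {k B : Type u} [CommRing k] [CommRing B] [Algebra k B]

theorem locally_of_split [Module.FaithfullyFlat k B] [Module.Finite k B] [Algebra.Etale k B]
    (T : Over (Spec (CommRingCat.of k))) [GrpObj T] {N N' : Type} [AddCommGroup N] [AddCommGroup N']
    (e : Grp.mk (Red.bc (tb k B) T) ≅ Grp.mk (Red.DS (Spec (CommRingCat.of B)) N)) (e' : N ≃+ N') :
    TwC.Locally (Spec (CommRingCat.of k)) .finiteEtale
        (fun S' g => Nonempty (Grp.mk (Red.bc g T) ≅ Grp.mk (Red.DS S' N'))) := by
  refine ⟨Spec (CommRingCat.of B), tb k B, ?_, ?_, ?_, fun s' => ⟨⊤, trivial, isClosed_univ, ⟨?_⟩⟩⟩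
  · rw [IsFinite.SpecMap_iff]
    change (algebraMap k B).Finite
    rw [RingHom.finite_algebraMap]
    infer_instance
  · rw [HasRingHomProperty.Spec_iff (P := @Etale)]
    change (algebraMap k B).Etale
    rw [RingHom.etale_algebraMap]
    infer_instance
  · have h3 : (algebraMap k B).FaithfullyFlat := by
      rw [RingHom.faithfullyFlat_algebraMap_iff]; infer_instance
    exact ⟨(RingHom.FaithfullyFlat.iff_flat_and_comap_surjective.1 h3).2⟩
  · exact BcIso.bcCompIso (Scheme.Opens.ι ⊤) (tb k B) T ≪≫ BcIso.bcMapIso (Scheme.Opens.ι ⊤) e ≪≫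
      dsBcIso (Scheme.Opens.ι ⊤) N ≪≫ PinTransport.dsIso e'.symm

end K964.IsoTor
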