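import Groth.Agent.MultTori.K964.DictBc
import Groth.Agent.MultTori.K964.BcCl

/-!
# Lifting torsor classes along `A → R`

`Lift`: an equivariant lift of `q : F → Λ` to the extension attached to a cocycle.
`exists_lift_class`: if its restriction to the kernel of `q` comes from `A`, so does the class.
-/

set_option autoImplicit false
universe u

open CategoryTheory CategoryTheory.Limits MonoidalCategory CartesianMonoidalCategory AlgebraicGeometry
open TensorProduct

namespace K964.LiftL

open K965.Gal K964.UC K964.CharExt K964.AffPt K964.AffYon K964.Pt K964.TorsY K964.Cocyc K964.ExtE K964.BcPt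
open K964.DictBc K964.Desc
open K965.Pts (sp mp)
open scoped MonObj GrpObj

attribute [local instance] actBc commBc

variable {A B : Type u} [CommRing A] [CommRing B] [Algebra A B] {G : Type} [Group G]
    [MulSemiringAction G B] [SMulCommClass G A B]
    {M : Over (Spec (CommRingCat.of A))} [GrpObj M] {Λ : Type} [AddCommGroup Λ] [DistribMulAction G Λ]
    {F : Type} [AddCommGroup F] {ρ : Representation ℤ G F}

/-- An equivariant lift of `q` to the extension attached to `c`. -/
structure Lift (D : K965.Dict A B G M Λ) (ρ : Representation ℤ G F) (q : F →+ Λ) {A' : Type u} [CommRing A']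
    [Algebra A A'] (c : Fam M A') (e : F →+ Additive (A' ⊗[A] B)ˣ) : Prop where
  eqv : ∀ (g : G) (x : F), vl (e (ρ g x)) = act A B A' g (vl (e x))
  mem : ∀ x, (q x, e x) ∈ E D c

theorem exists_lift_class [Fintype G] (hG : IsGal A B G) (D : K965.Dict A B G M Λ) [IsAffine M.left] [AddGroup.FG F]
    (q : F →+ Λ) (hq : Function.Surjective q) (hqe : ∀ g x, q (ρ g x) = g • q x)
    (R : Type u) [CommRing R] [Algebra A R] (Z : NonAbH1.TorsorSch (Red.bc (tb A R) M) Scheme.fppfPrecoverage)
    {R' : Type u} [CommRing R'] [Algebra R R'] [Module.FaithfullyFlat R R'] [Algebra.FinitePresentation R R']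
    (z : sp (algebraMap R R') ⟶ Z.X) (e : F →+ Additive (R' ⊗[R] (R ⊗[A] B))ˣ)
    (he : Lift (DictBc.bc D R) ρ q (famOf Z.isTorsor.1 z) e)
    (p : q.ker →+ Additive Bˣ)
    (hp : ∀ (g : G) (x : q.ker) (h : ρ g x ∈ q.ker), vl (p ⟨ρ g x, h⟩) = g • vl (p x))
    (hpe : ∀ x : q.ker, vl (e x) = 1 ⊗ₜ[R] (1 ⊗ₜ[A] vl (p x))) :
    ∃ Y : NonAbH1.TorsorSch M Scheme.fppfPrecoverage,
      NonAbH1.H1Sch.bcMap (tb A R) M Scheme.fppfPrecoverage Y.cl = Z.cl := by
  obtain ⟨Y, pt, hpt, hsurj, hinj, hnat, hact⟩ := exists_torsor (ρ := ρ) hG D q hq hqe p hp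
  refine ⟨Y, ?_⟩
  let _ : Algebra A R' := ((algebraMap R R').comp (algebraMap A R)).toAlgebra
  have : IsScalarTower A R R' := IsScalarTower.of_algebraMap_eq (fun _ => rfl)
  let e' : F →+ Additive (R' ⊗[A] B)ˣ := ((ku A B R R').symm : _ →+ _).comp e
  have he' : ∀ x, ku A B R R' (e' x) = e x := fun x => (ku A B R R').apply_symm_apply _
  have hve : ∀ x, kap A B R R' (vl (e' x)) = vl (e x) := fun x => congrArg vl (he' x)
  obtain ⟨y, hy⟩ := hsurj R' e' (by
    refine ⟨fun g x => ?_, fun x => ?_⟩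
    · apply (kap A B R R').injective
      rw [hve, ← act_kap, hve]
      exact he.eqv g x
    · apply (kap A B R R').injective
      rw [hve, hpe, kap_tmul])
  rw [← NonAbH1.TorsorSch.cl_bc]
  let _ : Algebra A (R' ⊗[R] R') := inferInstance
  have hT : IsScalarTower A R (R' ⊗[R] R') := inferInstance
  refine cl_eq_of_cocy_bc (P := Y.bc (tb A R)) (Q := Z) (bp (R := R) y) z ?_
  have h1 := ubp_cocy (R := R) (T := R' ⊗[R] R') Y.isTorsor.1 y (i1 _) (i2 _)
  refine h1.trans ?_
  apply D.ch_inj
  ext1 m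
  obtain ⟨x, rfl⟩ := hq m
  apply (ku A B R (R' ⊗[R] R')).injective
  rw [← bc_ch]
  have key := he.mem x (R' ⊗[R] R') (i1 R') (i2 R')
  have key' := congrArg (fun h => vl (h x)) (hact (R' ⊗[R] R')
    (cocy Y.isTorsor.1 y ((i1 (A := R) R').restrictScalars A) ((i2 (A := R) R').restrictScalars A))
    (ap ((i1 (A := R) R').restrictScalars A) ≫ y))
  beta_reduce at key'
  rw [cocy, sm_df, AddMonoidHom.add_apply, vl_add, AddMonoidHom.comp_apply, hnat, hnat, hy] at key'
  apply addUnits_ext
  change _ * mB (R ⊗[A] B) (i1 R') (vl (e x)) = mB (R ⊗[A] B) (i2 R') (vl (e x)) at key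
  rw [← hve, mB_kap, mB_kap, key', map_mul] at key
  have hu : IsUnit (kap A B R (R' ⊗[R] R') (mB B ((i1 (A := R) R').restrictScalars A) (vl (e' x)))) :=
    (((e' x).toMul.isUnit.map (mB B ((i1 (A := R) R').restrictScalars A))).map (kap A B R (R' ⊗[R] R')))
  exact (hu.mul_right_cancel key).symm

end K964.LiftL
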