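import Groth.Agent.MultTori.K964.SimF

/-!
# Flasque resolutions of the quotients acting effectively

`SimP lam ρ τ`: for every subgroup `H` of `G` the flasque module `F` is similar to a flasque module on which `H` acts
through its image in the automorphisms of `Λ`.
-/

set_option autoImplicit false

namespace K964.SimP

open K964.Coh GLat K964.SimF

/-- comparison with flasque modules over the effective quotients -/
def SimP {G : Type} [Group G] {Λ : Type} [AddCommGroup Λ] (lam : Representation ℤ G Λ) {F : Type} [AddCommGroup F]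
    (ρ : Representation ℤ G F) {P : Type} [AddCommGroup P] (τ : Representation ℤ G P) : Prop :=
  ∀ H : Subgroup G, ∃ (F1 : Type) (_ : AddCommGroup F1) (_ : Module.Finite ℤ F1) (_ : Module.Free ℤ F1)
    (ρ1 : Representation ℤ H F1), IsFlasque ρ1 ∧ (∀ h : H, lam (h : G) = 1 → ρ1 h = 1) ∧
      Nonempty (Sim (ρ.comp H.subtype : Representation ℤ H F) ρ1 (τ.comp H.subtype : Representation ℤ H P))

variable {G : Type} [Group G] [Finite G] {Λ : Type} [AddCommGroup Λ] {lam : Representation ℤ G Λ} {F : Type}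
  [AddCommGroup F] {ρ : Representation ℤ G F} {P : Type} [AddCommGroup P] {τ : Representation ℤ G P}

theorem simP_A [Module.Finite ℤ Λ] [Module.Free ℤ F] [Module.Finite ℤ F] [Module.Finite ℤ P]
    (hF : IsFlasque ρ) (hP : IsPermutation τ)
    (i : P →ₗ[ℤ] F) (hi : IsEquivariant τ ρ i) (π : F →ₗ[ℤ] Λ) (hπ : IsEquivariant ρ lam π)
    (hinj : Function.Injective i) (hsurj : Function.Surjective π) (hex : LinearMap.range i = LinearMap.ker π) :
    SimP lam ρ τ := by
  intro H
  let lamH : Representation ℤ H Λ := lam.comp H.subtype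
  let K : Subgroup H := MonoidHom.ker lamH
  let lamQ : Representation ℤ (H ⧸ K) Λ := QuotientGroup.lift K lamH le_rfl
  obtain ⟨P1, _, F1, _, _, _, _, _, τ1, ρ1, i1, π1, hi1, hπ1, hinj1, hsurj1, hex1, hP1, hF1⟩ :=
    Groth.Agent.S18685.result (H ⧸ K) Λ lamQ
  refine ⟨F1, inferInstance, inferInstance, inferInstance, ρ1.comp (QuotientGroup.mk' K),
    flasque_comp (QuotientGroup.mk' K) hF1, fun h hh => ?_, ?_⟩
  · have h1 : (QuotientGroup.mk' K) h = 1 := (QuotientGroup.eq_one_iff h).2 hh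
    rw [MonoidHom.comp_apply, h1, map_one]
  · refine simA (lam := lamH) (flasque_comp H.subtype hF) (permutation_comp H.subtype hP)
      (flasque_comp (QuotientGroup.mk' K) hF1)
      (permutation_comp (QuotientGroup.mk' K) hP1) i (equivariant_comp H.subtype hi) π (equivariant_comp H.subtype hπ)
      hinj hsurj hex i1 (equivariant_comp (QuotientGroup.mk' K) hi1) π1
      (fun g m => hπ1 (QuotientGroup.mk' K g) m) hinj1 hsurj1 hex1

theorem simP_B [Module.Finite ℤ Λ] [Module.Free ℤ Λ] [Module.Free ℤ F] [Module.Finite ℤ F] [Module.Finite ℤ P]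
    (hF : IsFlasque ρ) (hP : IsPermutation τ)
    (i : Λ →ₗ[ℤ] P) (hi : IsEquivariant lam τ i) (π : P →ₗ[ℤ] F) (hπ : IsEquivariant τ ρ π)
    (hinj : Function.Injective i) (hsurj : Function.Surjective π) (hex : LinearMap.range i = LinearMap.ker π) :
    SimP lam ρ τ := by
  intro H
  let lamH : Representation ℤ H Λ := lam.comp H.subtype
  let K : Subgroup H := MonoidHom.ker lamH
  let lamQ : Representation ℤ (H ⧸ K) Λ := QuotientGroup.lift K lamH le_rfl
  obtain ⟨P1, _, F1, _, _, _, _, _, τ1, ρ1, i1, π1, hi1, hπ1, hinj1, hsurj1, hex1, hP1, hF1⟩ :=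
    Groth.Agent.S18686.result (H ⧸ K) Λ lamQ
  refine ⟨F1, inferInstance, inferInstance, inferInstance, ρ1.comp (QuotientGroup.mk' K),
    flasque_comp (QuotientGroup.mk' K) hF1, fun h hh => ?_, ?_⟩
  · have h1 : (QuotientGroup.mk' K) h = 1 := (QuotientGroup.eq_one_iff h).2 hh
    rw [MonoidHom.comp_apply, h1, map_one]
  · refine simB (lam := lamH) (flasque_comp H.subtype hF) (permutation_comp H.subtype hP)
      (flasque_comp (QuotientGroup.mk' K) hF1)
      (permutation_comp (QuotientGroup.mk' K) hP1) i (equivariant_comp H.subtype hi) π (equivariant_comp H.subtype hπ)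
      hinj hsurj hex i1 (fun g m => hi1 (QuotientGroup.mk' K g) m) π1
      (equivariant_comp (QuotientGroup.mk' K) hπ1) hinj1 hsurj1 hex1

/-- **Vanishing**: `H¹(H, Hom (F, N)) = 0` if the `p`-subgroups of `H` act on `Λ` through cyclic groups. -/
theorem vanish (hs : SimP lam ρ τ) (hP : IsPermutation τ) (H : Subgroup G)
    (hcyc : ∀ (p : ℕ) [Fact p.Prime] (H' : Subgroup H), IsPGroup p H' →
      ∃ h₀ ∈ H', ∀ h ∈ H', ∃ n : ℕ, lam (h : G) = lam (h₀ : G) ^ n)
    {N : Type*} [AddCommGroup N] {σ : Representation ℤ H N} (hσ : IsCoflasque σ) :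
    H1Z (Representation.linHom (ρ.comp H.subtype : Representation ℤ H F) σ) := by
  obtain ⟨F1, _, _, _, ρ1, hρ1, hker, ⟨s⟩⟩ := hs H
  refine H1Z.of_sim s (EM.em hρ1 ?_ hσ) (H1Z.linHom_permutation (permutation_comp H.subtype hP) hσ)
  intro p _ H' hH'
  obtain ⟨h₀, hh₀, h1⟩ := hcyc p H' hH'
  refine ⟨h₀, hh₀, fun h hh => ?_⟩
  obtain ⟨n, hn⟩ := h1 h hh
  refine ⟨n, ?_⟩
  have h2 : ρ1 (h * (h₀ ^ n)⁻¹) = 1 := by
    apply hker
    rw [Subgroup.coe_mul, map_mul, hn, Subgroup.coe_inv, Subgroup.coe_pow, ← map_pow, ← map_mul, mul_inv_cancel, map_one]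
  have h3 : h = h * (h₀ ^ n)⁻¹ * h₀ ^ n := by group
  rw [h3, map_mul, h2, one_mul, map_pow]

end K964.SimP
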