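import Groth.Agent.MultTori.K964.CycAct
import Groth.Agent.MultTori.K964.SimP
import Groth.Agent.MultTori.K964.DictBc

/-!
# Vanishing of `H¹(G, Hom (F, Cˣ))` for `F` flasque over a field with cyclic Sylow splitting
-/

set_option autoImplicit false
universe u

open CategoryTheory CategoryTheory.Limits MonoidalCategory CartesianMonoidalCategory AlgebraicGeometry
open TensorProduct

namespace K964.Van

open K965.Gal K965.Dic K964.GalHom K964.BcPt K964.ResL K964.Coh K964.Shap K964.SimP
open K965.Pts (sp mp)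
open scoped MonObj GrpObj

/-- the representation of an action on an abelian group -/
def aRep (G Λ : Type) [Group G] [AddCommGroup Λ] [DistribMulAction G Λ] : Representation ℤ G Λ where
  toFun g := (DistribSMul.toAddMonoidHom Λ g).toIntLinearMap
  map_one' := LinearMap.ext fun x => one_smul G x
  map_mul' g h := LinearMap.ext fun x => mul_smul g h x

@[simp] lemma aRep_apply {G Λ : Type} [Group G] [AddCommGroup Λ] [DistribMulAction G Λ] (g : G) (m : Λ) :
    aRep G Λ g m = g • m := rfl

/-- `M` over the field `k` becomes diagonalizable over a Galois extension with cyclic Sylow subgroups -/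
def CycSplit {k : Type u} [Field k] (M : Over (Spec (CommRingCat.of k))) [GrpObj M] : Prop :=
  ∃ (L : Type u) (_ : Field L) (_ : Algebra k L), FiniteDimensional k L ∧ IsGalois k L ∧
    (∀ (p : ℕ) [Fact p.Prime] (P : Sylow p (L ≃ₐ[k] L)), IsCyclic P) ∧
    ∃ (Λ : Type) (_ : AddCommGroup Λ), Nonempty (Grp.mk (Red.bc (tb k L) M) ≅ Grp.mk (Red.DS (Spec (CommRingCat.of L)) Λ))

/-- a homomorphism to an algebraic closure -/
lemma exists_hom (k C : Type u) [Field k] [CommRing C] [Nontrivial C] [Algebra k C] [Module.Finite k C] :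
    Nonempty (C →ₐ[k] AlgebraicClosure k) := by
  obtain ⟨m, hm⟩ := Ideal.exists_maximal C
  let _ : Field (C ⧸ m) := Ideal.Quotient.field m
  have : Module.Finite k (C ⧸ m) := Module.Finite.of_surjective (Ideal.Quotient.mkₐ k m).toLinearMap
    (Ideal.Quotient.mkₐ_surjective k m)
  have h1 : Algebra.IsAlgebraic k (C ⧸ m) := inferInstance
  exact ⟨(IsAlgClosed.lift : (C ⧸ m) →ₐ[k] AlgebraicClosure k).comp (Ideal.Quotient.mkₐ k m)⟩

theorem vanish_field {k C : Type u} [Field k] [CommRing C] [Algebra k C] {G : Type} [Group G] [Fintype G]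
    [MulSemiringAction G C] [SMulCommClass G k C] (hG : IsGal k C G) {M : Over (Spec (CommRingCat.of k))} [GrpObj M]
    {Λ : Type} [AddCommGroup Λ] [DistribMulAction G Λ] (D : K965.Dict k C G M Λ) (hsplit : CycSplit M)
    {F P : Type} [AddCommGroup F] [AddCommGroup P] {ρ : Representation ℤ G F} {τ : Representation ℤ G P}
    (hs : SimP (aRep G Λ) ρ τ) (hP : GLat.IsPermutation τ) : H1Z (Representation.linHom ρ (uRep G C)) := by
  have := hG.ff
  have := hG.fin
  have : Nontrivial C := (FaithfulSMul.algebraMap_injective k C).nontrivial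
  obtain ⟨s⟩ := exists_hom k C
  obtain ⟨L, _, _, _, _, hcyc, Λ', _, ⟨e⟩⟩ := hsplit
  apply shapiro' s hG
  refine vanish hs hP (dec G s) (fun p _ H' hH' => ?_) (coflasque_Lq s hG)
  obtain ⟨h₀, hh₀, h1⟩ := CycAct.exists_gen s hG D e p (hcyc p) H' hH'
  refine ⟨h₀, hh₀, fun h hh => ?_⟩
  obtain ⟨n, hn⟩ := h1 h hh
  refine ⟨n, LinearMap.ext fun m => ?_⟩
  rw [← map_pow, aRep_apply, hn, aRep_apply]

section bc

attribute [local instance] DictBc.actBc DictBc.commBc

theorem vanish_bc {A B : Type u} [CommRing A] [CommRing B] [Algebra A B] {G : Type} [Group G] [Fintype G]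
    [MulSemiringAction G B] [SMulCommClass G A B] (hG : IsGal A B G) {M : Over (Spec (CommRingCat.of A))} [GrpObj M]
    {Λ : Type} [AddCommGroup Λ] [DistribMulAction G Λ] (D : K965.Dict A B G M Λ) (κ : Type u) [Field κ] [Algebra A κ]
    (hsplit : CycSplit (Red.bc (tb A κ) M))
    {F P : Type} [AddCommGroup F] [AddCommGroup P] {ρ : Representation ℤ G F} {τ : Representation ℤ G P}
    (hs : SimP (aRep G Λ) ρ τ) (hP : GLat.IsPermutation τ) : H1Z (Representation.linHom ρ (uRep G (κ ⊗[A] B))) :=
  vanish_field (DictBc.isGal_bc A B κ G hG) (DictBc.bc D κ) hsplit hs hP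

end bc

end K964.Van
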