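import Groth.Agent.MultTori.K964.LiftL
import Groth.Agent.MultTori.K964.CharLift
import Groth.Agent.MultTori.K964.Van

/-!
# A torsor over `A` with prescribed cocycles over several `A`-algebras
-/

set_option autoImplicit false
universe u

open CategoryTheory CategoryTheory.Limits MonoidalCategory CartesianMonoidalCategory AlgebraicGeometry
open TensorProduct

namespace K964.LiftY

open K965.Gal K964.UC K964.CharExt K964.AffPt K964.AffYon K964.Pt K964.TorsY K964.Cocyc K964.ExtE K964.BcPt
open K964.DictBc K964.Desc K964.LiftL K964.Coh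
open K965.Pts (sp mp)
open scoped MonObj GrpObj

attribute [local instance] actBc commBc

section Y

variable {A B : Type u} [CommRing A] [CommRing B] [Algebra A B] {G : Type} [Group G]
    [MulSemiringAction G B] [SMulCommClass G A B]
    {M : Over (Spec (CommRingCat.of A))} [GrpObj M] {Λ : Type} [AddCommGroup Λ] [DistribMulAction G Λ]
    {F : Type} [AddCommGroup F] {ρ : Representation ℤ G F}

/-- `Y` has points over `R'` with cocycle `c` -/
def HasPt (Y : NonAbH1.TorsorSch M Scheme.fppfPrecoverage) (R : Type u) [CommRing R] [Algebra A R]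
    (R' : Type u) [CommRing R'] [Algebra R R'] (c : Fam (Red.bc (tb A R) M) R') : Prop :=
  ∃ y : sp (algebraMap R R') ⟶ (Y.bc (tb A R)).X, ∀ (T : Type u) [CommRing T] [Algebra R T] (φ ψ : R' →ₐ[R] T),
    cocy (Y.bc (tb A R)).isTorsor.1 y φ ψ = c.c T φ ψ

theorem exists_Y [Fintype G] (hG : IsGal A B G) (D : K965.Dict A B G M Λ) [IsAffine M.left] [AddGroup.FG F]
    (q : F →+ Λ) (hq : Function.Surjective q) (hqe : ∀ g x, q (ρ g x) = g • q x)
    (p : q.ker →+ Additive Bˣ)
    (hp : ∀ (g : G) (x : q.ker) (h : ρ g x ∈ q.ker), vl (p ⟨ρ g x, h⟩) = g • vl (p x)) :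
    ∃ Y : NonAbH1.TorsorSch M Scheme.fppfPrecoverage, ∀ (R : Type u) [CommRing R] [Algebra A R]
      (R' : Type u) [CommRing R'] [Algebra R R'] (c : Fam (Red.bc (tb A R) M) R')
      (e : F →+ Additive (R' ⊗[R] (R ⊗[A] B))ˣ),
      Lift (DictBc.bc D R) ρ q c e → (∀ x : q.ker, vl (e x) = 1 ⊗ₜ[R] (1 ⊗ₜ[A] vl (p x))) → HasPt Y R R' c := by
  obtain ⟨Y, pt, hpt, hsurj, hinj, hnat, hact⟩ := exists_torsor (ρ := ρ) hG D q hq hqe p hp
  refine ⟨Y, ?_⟩
  intro R _ _ R' _ _ c e he hpe
  let _ : Algebra A R' := ((algebraMap R R').comp (algebraMap A R)).toAlgebra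
  have : IsScalarTower A R R' := IsScalarTower.of_algebraMap_eq (fun _ => rfl)
  let e' : F →+ Additive (R' ⊗[A] B)ˣ := ((ku A B R R').symm : _ →+ _).comp e
  have he' : ∀ x, ku A B R R' (e' x) = e x := fun x => (ku A B R R').apply_symm_apply _
  have hve : ∀ x, kap A B R R' (vl (e' x)) = vl (e x) := fun x => congrArg vl (he' x)
  obtain ⟨y, hy⟩ := hsurj R' e' (by
    refine ⟨fun g x => ?_, fun x => ?_⟩
    · apply (kap A B R R').injective
      rw [hve, ← act_kap, hve]
      exact he.eqv g x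
    · apply (kap A B R R').injective
      rw [hve, hpe, kap_tmul])
  refine ⟨bp (R := R) y, fun T _ _ φ ψ => ?_⟩
  let _ : Algebra A T := ((algebraMap R T).comp (algebraMap A R)).toAlgebra
  have hT : IsScalarTower A R T := IsScalarTower.of_algebraMap_eq (fun _ => rfl)
  apply ubp_injective
  have h1 := ubp_cocy (R := R) (T := T) Y.isTorsor.1 y φ ψ
  refine h1.trans ?_
  apply D.ch_inj
  ext1 m
  obtain ⟨x, rfl⟩ := hq m
  apply (ku A B R T).injective
  rw [← bc_ch]
  have key := he.mem x T φ ψ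
  have key' := congrArg (fun h => vl (h x)) (hact T
    (cocy Y.isTorsor.1 y (φ.restrictScalars A) (ψ.restrictScalars A)) (ap (φ.restrictScalars A) ≫ y))
  beta_reduce at key'
  rw [cocy, sm_df, AddMonoidHom.add_apply, vl_add, AddMonoidHom.comp_apply, hnat, hnat, hy] at key'
  apply addUnits_ext
  change _ * mB (R ⊗[A] B) φ (vl (e x)) = mB (R ⊗[A] B) ψ (vl (e x)) at key
  rw [← hve, mB_kap, mB_kap, key', map_mul] at key
  have hu : IsUnit (kap A B R T (mB B (φ.restrictScalars A) (vl (e' x)))) :=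
    (((e' x).toMul.isUnit.map (mB B (φ.restrictScalars A))).map (kap A B R T))
  exact (hu.mul_right_cancel key).symm

end Y

section add

variable {H : Type*} [Group H] {F N Λ E : Type*} [AddCommGroup F] [AddCommGroup N] [AddCommGroup Λ] [AddCommGroup E]

/-- the additive version of `lift_of_H1Z` -/
theorem exists_lift_add [Module.Free ℤ F] {ρ : Representation ℤ H F} {σ : Representation ℤ H N}
    {lam : Representation ℤ H Λ} (ε : H → E →+ E) (hε1 : ∀ x, ε 1 x = x) (hεm : ∀ g h x, ε (g * h) x = ε g (ε h x))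
    (i : N →+ E) (hi : ∀ g x, i (σ g x) = ε g (i x)) (π : E →+ Λ) (hπ : ∀ g x, π (ε g x) = lam g (π x))
    (hinj : Function.Injective i) (hsurj : Function.Surjective π) (hex : ∀ x, π x = 0 → ∃ y, i y = x)
    (hex' : ∀ y, π (i y) = 0) (h1 : H1Z (Representation.linHom ρ σ)) (q : F →ₗ[ℤ] Λ)
    (hq : GLat.IsEquivariant ρ lam q) : ∃ u : F →+ E, (∀ g x, u (ρ g x) = ε g (u x)) ∧ ∀ x, π (u x) = q x := by
  let εr : Representation ℤ H E :=
    { toFun := fun g => (ε g).toIntLinearMap
      map_one' := LinearMap.ext fun x => hε1 x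
      map_mul' := fun g h => LinearMap.ext fun x => hεm g h x }
  obtain ⟨u, hu, hu'⟩ := SimF.lift_of_H1Z (ε := εr) i.toIntLinearMap hi π.toIntLinearMap hπ hinj hsurj
    (by
      ext x
      rw [LinearMap.mem_range, LinearMap.mem_ker]
      constructor
      · rintro ⟨y, rfl⟩
        exact hex' y
      · intro h
        exact hex x h) h1 q hq
  exact ⟨u.toAddMonoidHom, hu, hu'⟩

end add

section E

variable {k B : Type u} [CommRing k] [CommRing B] [Algebra k B] {G : Type} [Group G]
    [MulSemiringAction G B] [SMulCommClass G k B]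
    {M : Over (Spec (CommRingCat.of k))} [GrpObj M] {Λ : Type} [AddCommGroup Λ] [DistribMulAction G Λ]
    {F : Type} [AddCommGroup F] {ρ : Representation ℤ G F}

/-- equivariant lifts to the extension attached to a cocycle -/
theorem exists_lift_E [Module.Free ℤ F] (D : K965.Dict k B G M Λ) {k' : Type u} [CommRing k'] [Algebra k k']
    [Module.FaithfullyFlat k k'] (c : Fam M k') (hPic : Subsingleton (CommRing.Pic B))
    (h1 : H1Z (Representation.linHom ρ (K964.Shap.uRep G B))) (q : F →ₗ[ℤ] Λ) (hq : ∀ g x, q (ρ g x) = g • q x) :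
    ∃ e : F →+ Additive (k' ⊗[k] B)ˣ, (∀ (g : G) (x : F), vl (e (ρ g x)) = act k B k' g (vl (e x))) ∧
      ∀ x, (q x, e x) ∈ E D c := by
  let ε : G → E D c →+ E D c := fun g =>
    { toFun := fun z => ⟨(g • z.1.1, ua k B k' g z.1.2), smul_mem_E z.2 g⟩
      map_zero' := Subtype.ext (Prod.ext (smul_zero g) (map_zero _))
      map_add' := fun z w => Subtype.ext (Prod.ext (smul_add g _ _) (map_add _ _ _)) }
  let i : Additive Bˣ →+ E D c :=
    { toFun := fun b => ⟨(0, ib k k' b), ib_mem_E D c b⟩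
      map_zero' := Subtype.ext (Prod.ext rfl (map_zero _))
      map_add' := fun z w => Subtype.ext (Prod.ext (zero_add _).symm (map_add _ _ _)) }
  have hib : Function.Injective (ib k k' : Additive Bˣ → Additive (k' ⊗[k] B)ˣ) := by
    intro x y hxy
    apply addUnits_ext
    have h1 := congrArg vl hxy
    rw [vl_ib, vl_ib] at h1
    exact Module.FaithfullyFlat.tensorProduct_mk_injective (A := k) (B := k') B h1
  obtain ⟨u, hu, hu'⟩ := exists_lift_add (ρ := ρ) (σ := K964.Shap.uRep G B) (lam := K964.Van.aRep G Λ) ε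
    (fun x => Subtype.ext (Prod.ext (one_smul G _) (CharLift.ua_one _ _)))
    (fun g h x => Subtype.ext (Prod.ext (mul_smul g h _) (CharLift.ua_mul _ _ _ _)))
    i (fun g x => Subtype.ext (Prod.ext (smul_zero g).symm (CharLift.ib_ug k' g x))) ((AddMonoidHom.fst _ _).comp (E D c).subtype) (fun g x => rfl)
    (fun x y hxy => hib (congrArg (fun z : E D c => z.1.2) hxy)) (fun m => by
      obtain ⟨d, hd⟩ := exists_mem D c hPic m
      exact ⟨⟨(m, d), hd⟩, rfl⟩) (fun x hx => by
      obtain ⟨⟨m, d⟩, h⟩ := x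
      change m = 0 at hx
      subst hx
      obtain ⟨b, rfl⟩ := exists_of_mem_zero h
      exact ⟨b, rfl⟩) (fun y => rfl) h1 q hq
  refine ⟨(AddMonoidHom.snd _ _).comp ((E D c).subtype.comp u), fun g x => ?_, fun x => ?_⟩
  · exact congrArg (fun z : E D c => vl z.1.2) (hu g x)
  · have h2 := (u x).2
    have h3 : (u x).1.1 = q x := hu' x
    rw [← h3]
    exact h2

end E

end K964.LiftY
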