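import Groth.Agent.MultTori.K964.Van
import Groth.Agent.MultTori.K964.CharSurj

/-!
# Equivariant homomorphisms from permutation modules to units lift from the residue fields of a semilocal ring
-/

set_option autoImplicit false
universe u

open TensorProduct

namespace K964.PermLift

open K965.Gal K964.Shap K964.Coh K964.CharExt K964.ExtE K964.CharLift K964.DictBc

attribute [local instance] actBc commBc

/-- `κ` is the family of residue fields of the semilocal ring `A` -/
structure SL (A : Type u) [CommRing A] {J : Type u} (κ : J → Type u) [∀ j, Field (κ j)] [∀ j, Algebra A (κ j)] :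
    Prop where
  surj : ∀ j, Function.Surjective (algebraMap A (κ j))
  inj : Function.Injective (fun j => RingHom.ker (algebraMap A (κ j)))
  max : ∀ m : Ideal A, m.IsMaximal → ∃ j, RingHom.ker (algebraMap A (κ j)) = m

variable {A B : Type u} [CommRing A] [CommRing B] [Algebra A B] {J : Type u} {κ : J → Type u}
  [∀ j, Field (κ j)] [∀ j, Algebra A (κ j)]

lemma SL.isMaximal (h : SL A κ) (j : J) : (RingHom.ker (algebraMap A (κ j))).IsMaximal :=
  RingHom.ker_isMaximal_of_surjective _ (h.surj j)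

lemma one_tmul_smul (R : Type u) [CommRing R] [Algebra A R] (a : A) (b : B) :
    (1 : R) ⊗ₜ[A] (a • b) = (algebraMap A R a) ⊗ₜ[A] b := by
  rw [TensorProduct.tmul_smul, TensorProduct.smul_tmul', Algebra.algebraMap_eq_smul_one]

/-- families of elements lift -/
lemma exists_family [Finite J] (hκ : SL A κ) (z : ∀ j, κ j ⊗[A] B) :
    ∃ b : B, ∀ j, (1 : κ j) ⊗ₜ[A] b = z j := by
  classical
  have := Fintype.ofFinite J
  have h1 : ∀ j, ∃ b : B, (1 : κ j) ⊗ₜ[A] b = z j := by
    intro m
    generalize z m = w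
    induction w using TensorProduct.induction_on with
    | zero => exact ⟨0, by simp⟩
    | tmul r b =>
      obtain ⟨a, rfl⟩ := hκ.surj m r
      exact ⟨a • b, one_tmul_smul _ a b⟩
    | add x y hx hy =>
      obtain ⟨b, hb⟩ := hx
      obtain ⟨b', hb'⟩ := hy
      exact ⟨b + b', by rw [TensorProduct.tmul_add, hb, hb']⟩
  choose b hb using h1
  have hcop : Pairwise (Function.onFun IsCoprime fun j : J => RingHom.ker (algebraMap A (κ j))) := by
    intro m m' hmm'
    have := hκ.isMaximal m
    have := hκ.isMaximal m'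
    exact Ideal.isCoprime_of_isMaximal fun h => hmm' (hκ.inj h)
  choose a ha using fun m : J =>
    Ideal.exists_forall_sub_mem_ideal hcop (fun m' => if m' = m then (1 : A) else 0)
  refine ⟨∑ m, a m • b m, fun m => ?_⟩
  rw [TensorProduct.tmul_sum, Finset.sum_eq_single m]
  · have h2 := ha m m
    rw [if_pos rfl, RingHom.mem_ker, map_sub, map_one, sub_eq_zero] at h2
    rw [one_tmul_smul, h2, hb]
  · intro m' _ hne
    have h2 := ha m' m
    rw [if_neg (Ne.symm hne), RingHom.mem_ker, sub_zero] at h2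
    rw [one_tmul_smul, h2, TensorProduct.zero_tmul]
  · intro h
    exact absurd (Finset.mem_univ _) h

/-- an element which is a unit in all fibres is a unit -/
lemma isUnit_of_fibres [Algebra.IsIntegral A B] (hκ : SL A κ) (b : B)
    (hb : ∀ j, IsUnit ((1 : κ j) ⊗ₜ[A] b)) : IsUnit b := by
  by_contra hn
  obtain ⟨n, hn, hbn⟩ := exists_max_ideal_of_mem_nonunits hn
  have hm : (n.under A).IsMaximal := Ideal.isMaximal_comap_of_isIntegral_of_isMaximal n
  obtain ⟨j, hj⟩ := hκ.max _ hm
  have h1 : ∀ a ∈ RingHom.ker (Algebra.ofId A (κ j)), Algebra.ofId A (B ⧸ n) a = 0 := by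
    intro a ha
    have ha' : a ∈ n.under A := by rw [← hj]; exact ha
    change algebraMap A (B ⧸ n) a = 0
    rw [IsScalarTower.algebraMap_apply A B (B ⧸ n)]
    exact Ideal.Quotient.eq_zero_iff_mem.2 ha'
  let e := Ideal.quotientKerAlgEquivOfSurjective (f := Algebra.ofId A (κ j)) (hκ.surj j)
  let φ : κ j →ₐ[A] B ⧸ n := (Ideal.Quotient.liftₐ _ (Algebra.ofId A (B ⧸ n)) h1).comp e.symm.toAlgHom
  let Φ : κ j ⊗[A] B →ₐ[A] B ⧸ n :=
    Algebra.TensorProduct.lift φ (Ideal.Quotient.mkₐ A n) (fun _ _ => Commute.all _ _)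
  have h2 : Φ (1 ⊗ₜ b) = Ideal.Quotient.mk n b := by simp [Φ]
  have h3 := (hb j).map Φ
  rw [h2, Ideal.Quotient.eq_zero_iff_mem.2 hbn] at h3
  exact not_isUnit_zero h3

variable {G : Type} [Group G] [Fintype G] [MulSemiringAction G B] [SMulCommClass G A B]

/-- invariant families of units lift to invariant units -/
lemma exists_inv_unit [Finite J] (hκ : SL A κ) (hG : IsGal A B G) (H : Subgroup G)
    (z : ∀ m : J, Additive (κ m ⊗[A] B)ˣ)
    (hz : ∀ (h : H) m, (h : G) • vl (z m) = vl (z m)) :
    ∃ b : Additive Bˣ, (∀ h : H, (h : G) • vl b = vl b) ∧ ∀ m : J, ib A (κ m) b = z m := by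
  classical
  have := hG.fin
  obtain ⟨t, ht⟩ := hG.tr
  obtain ⟨θ, hθ⟩ := SemiGal.exists_trace t ht H
  obtain ⟨b, hb⟩ := exists_family hκ (fun m => vl (z m))
  have h1 : ∀ m : J, (1 : κ m) ⊗ₜ[A] (∑ h : H, (h : G) • (θ * b)) = vl (z m) := by
    intro m
    have h2 : ∀ h : H, (1 : κ m) ⊗ₜ[A] ((h : G) • (θ * b)) = ((1 : κ m) ⊗ₜ[A] ((h : G) • θ)) * vl (z m) := by
      intro h
      rw [smul_mul']
      have h3 : (1 : κ m) ⊗ₜ[A] ((h : G) • θ * (h : G) • b) =
          ((1 : κ m) ⊗ₜ[A] ((h : G) • θ)) * ((1 : κ m) ⊗ₜ[A] ((h : G) • b)) := by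
        rw [Algebra.TensorProduct.tmul_mul_tmul, one_mul]
      rw [h3]
      congr 1
      have h4 : (1 : κ m) ⊗ₜ[A] ((h : G) • b) = (h : G) • ((1 : κ m) ⊗ₜ[A] b) := by
        rw [smul_eq, act_tmul]
      rw [h4, hb, hz]
    rw [TensorProduct.tmul_sum]
    simp only [h2]
    rw [← Finset.sum_mul, ← TensorProduct.tmul_sum]
    have h5 : ∑ h : H, (h : G) • θ = 1 := hθ
    rw [h5]
    exact one_mul _
  have hu : IsUnit (∑ h : H, (h : G) • (θ * b)) := isUnit_of_fibres hκ _ fun m => by
    rw [h1]
    exact Units.isUnit _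
  refine ⟨Additive.ofMul hu.unit, fun h => ?_, fun m => addUnits_ext ?_⟩
  · change (h : G) • ∑ h' : H, (h' : G) • (θ * b) = ∑ h' : H, (h' : G) • (θ * b)
    rw [Finset.smul_sum]
    refine Fintype.sum_equiv (Equiv.mulLeft h) _ _ fun h' => ?_
    rw [← mul_smul]
    rfl
  · rw [vl_ib]
    exact h1 m

/-- homomorphisms to units -/
abbrev LH (P : Type) [AddCommGroup P] (C : Type u) [CommRing C] : Type u := P →ₗ[ℤ] Additive Cˣ

/-- equivariance of a homomorphism to units -/
def EqvU {P : Type} [AddCommGroup P] {G : Type} [Group G] {C : Type u} [CommRing C] [MulSemiringAction G C]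
    (τ : Representation ℤ G P) (χ : LH P C) : Prop := ∀ (g : G) (x : P), vl (χ (τ g x)) = g • vl (χ x)

lemma EqvU.eqv {P : Type} [AddCommGroup P] {G : Type} [Group G] {C : Type u} [CommRing C] [MulSemiringAction G C]
    {τ : Representation ℤ G P} {χ : LH P C} (h : EqvU τ χ) : GLat.IsEquivariant τ (uRep G C) χ :=
  fun g x => addUnits_ext (h g x)

lemma EqvU.of_eqv {P : Type} [AddCommGroup P] {G : Type} [Group G] {C : Type u} [CommRing C] [MulSemiringAction G C]
    {τ : Representation ℤ G P} {χ : LH P C} (h : GLat.IsEquivariant τ (uRep G C) χ) : EqvU τ χ :=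
  fun g x => congrArg vl (h g x)

/-- composition with a ring map -/
noncomputable def LH.map {P : Type} [AddCommGroup P] {C C' : Type u} [CommRing C] [CommRing C'] (f : C →+* C')
    (χ : LH P C) : LH P C' := ((um f).toIntLinearMap).comp χ

@[simp] lemma LH.vl_map {P : Type} [AddCommGroup P] {C C' : Type u} [CommRing C] [CommRing C'] (f : C →+* C')
    (χ : LH P C) (x : P) : vl (LH.map f χ x) = f (vl (χ x)) := rfl

lemma LH.basis_ext {P : Type} [AddCommGroup P] {C : Type u} [CommRing C] {ι : Type} (b : Module.Basis ι ℤ P)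
    {χ χ' : LH P C} (h : ∀ i, vl (χ (b i)) = vl (χ' (b i))) : χ = χ' := b.ext fun i => addUnits_ext (h i)

/-- **Lifting of equivariant homomorphisms from a permutation module.** -/
theorem exists_lift [Finite J] (hκ : SL A κ) (hG : IsGal A B G) {P : Type} [AddCommGroup P]
    {τ : Representation ℤ G P} (hP : GLat.IsPermutation τ)
    (χ : ∀ m : J, LH P ((κ m) ⊗[A] B))
    (hχ : ∀ m, EqvU τ (χ m)) :
    ∃ c : LH P B, EqvU τ c ∧
      ∀ (m : J) (x : P), (1 : κ m) ⊗ₜ[A] vl (c x) = vl (χ m x) := by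
  classical
  obtain ⟨ι, b, hb⟩ := hP
  choose act' hact using hb
  have hbinj := b.injective
  let _ : MulAction G ι :=
    { smul := act'
      one_smul := fun i => hbinj (by
        change b (act' 1 i) = b i
        rw [← hact, map_one, Module.End.one_apply])
      mul_smul := fun g h i => hbinj (by
        change b (act' (g * h) i) = b (act' g (act' h i))
        rw [← hact, ← hact, ← hact, map_mul, Module.End.mul_apply]) }
  have hact' : ∀ (g : G) (i : ι), τ g (b i) = b (g • i) := hact
  have h1 : ∀ i : ι, ∃ c : Additive Bˣ, (∀ h : MulAction.stabilizer G i, (h : G) • vl c = vl c) ∧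
      ∀ m : J, ib A (κ m) c = χ m (b i) := by
    intro i
    apply exists_inv_unit hκ hG
    intro h m
    have h2 := hχ m (h : G) (b i)
    rw [hact', (h.2 : (h : G) • i = i)] at h2
    exact h2.symm
  choose π hπ hπ' using h1
  let rep : ι → ι := fun i => (Quotient.mk (MulAction.orbitRel G ι) i).out
  have hrep : ∀ i, ∃ g : G, g • rep i = i := by
    intro i
    have h1 : (MulAction.orbitRel G ι).r (rep i) i := Quotient.exact (Quotient.out_eq _)
    have h2 : rep i ∈ MulAction.orbit G i := h1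
    rw [MulAction.mem_orbit_symm] at h2
    exact h2
  have hrep_smul : ∀ (g : G) (i : ι), rep (g • i) = rep i := by
    intro g i
    have : (Quotient.mk (MulAction.orbitRel G ι) (g • i)) = Quotient.mk (MulAction.orbitRel G ι) i :=
      Quotient.sound (MulAction.mem_orbit i g)
    simp only [rep, this]
  choose gi hgi using hrep
  let γ : ι → Additive Bˣ := fun i => uRep G B (gi i) (π (rep i))
  have hγ : ∀ (g : G) (i : ι), γ (g • i) = uRep G B g (γ i) := by
    intro g i
    apply addUnits_ext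
    change gi (g • i) • vl (π (rep (g • i))) = g • gi i • vl (π (rep i))
    have h1 : ((gi (g • i))⁻¹ * (g * gi i)) • rep i = rep i := by
      rw [mul_smul, mul_smul, hgi, inv_smul_eq_iff, ← hrep_smul g i, hgi]
    have h2 := hπ (rep i) ⟨_, h1⟩
    change ((gi (g • i))⁻¹ * (g * gi i)) • vl (π (rep i)) = vl (π (rep i)) at h2
    rw [mul_smul, inv_smul_eq_iff, mul_smul] at h2
    rw [hrep_smul, h2]
  have hγ' : ∀ i m, ib A (κ m) (γ i) = χ m (b i) := by
    intro i m
    have h2 := hχ m (gi i) (b (rep i))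
    rw [hact', hgi, ← hπ' (rep i) m] at h2
    exact addUnits_ext ((congrArg vl (ib_ug (κ m) (gi i) (π (rep i)))).trans h2.symm)
  let c : LH P B := b.constr ℤ γ
  have hc : ∀ i, c (b i) = γ i := fun i => b.constr_basis ℤ γ i
  refine ⟨c, EqvU.of_eqv fun g x => ?_, fun m x => ?_⟩
  · have h2 : c.comp (τ g) = (uRep G B g).comp c := b.ext fun i => by
      rw [LinearMap.comp_apply, LinearMap.comp_apply, hact', hc, hc, hγ]
    exact DFunLike.congr_fun h2 x
  · have h2 : LH.map ((Algebra.TensorProduct.includeRight : B →ₐ[A] (κ m) ⊗[A] B) : B →+* _) c = χ m :=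
      LH.basis_ext b fun i => by
        rw [LH.vl_map, hc]
        exact congrArg vl (hγ' i m)
    rw [← h2]
    rfl

end K964.PermLift
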