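import Groth.Agent.MultTori.K964.CharSurj

/-!
# Points over `R` lift to points over `A`, in terms of characters
-/

set_option autoImplicit false
universe u

open CategoryTheory CategoryTheory.Limits MonoidalCategory CartesianMonoidalCategory AlgebraicGeometry
open TensorProduct

namespace K964.PtLift

open K965.Gal K964.UC K964.CharExt K964.AffPt K964.AffYon K964.Pt K964.TorsY K964.Cocyc K964.ExtE K964.BcPt
open K964.DictBc K964.Desc K964.LiftL K964.FreeG K964.CharLift
open K965.Pts (sp mp)
open scoped MonObj GrpObj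

attribute [local instance] actBc commBc

variable {k B : Type u} [CommRing k] [CommRing B] [Algebra k B] {G : Type} [Group G]
    [MulSemiringAction G B] [SMulCommClass G k B]
    {T : Over (Spec (CommRingCat.of k))} [GrpObj T] {N : Type} [AddCommGroup N] [DistribMulAction G N]
    (D : K965.Dict k B G T N) (A R : Type u) [CommRing A] [CommRing R] [Algebra k A] [Algebra A R] [Algebra k R]
    [IsScalarTower k A R]

lemma ib_ku (x : Additive (A ⊗[k] B)ˣ) : ib A R x = ku k B A R (um (mB B (IsScalarTower.toAlgHom k A R) : A ⊗[k] B →+* R ⊗[k] B) x) := by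
  apply addUnits_ext
  rw [vl_ib, vl_ku, vl_um]
  change (1 : R) ⊗ₜ[A] (vl x : A ⊗[k] B) = kap k B A R (mB B (IsScalarTower.toAlgHom k A R) (vl x))
  generalize (vl x : A ⊗[k] B) = z
  induction z using TensorProduct.induction_on with
  | zero => simp
  | tmul a b =>
    simp only [Algebra.TensorProduct.map_tmul, AlgHom.coe_id, id_eq, kap_tmul]
    rw [IsScalarTower.coe_toAlgHom', Algebra.algebraMap_eq_smul_one, TensorProduct.smul_tmul, TensorProduct.smul_tmul',
      smul_eq_mul, mul_one]
  | add x y hx hy => rw [TensorProduct.tmul_add, hx, hy, map_add, map_add]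

include D in
theorem iff_chars : (∀ u : sp (algebraMap k R) ⟶ T, ∃ s : sp (algebraMap k A) ⟶ T,
      ap (IsScalarTower.toAlgHom k A R) ≫ s = u) ↔
    ∀ pR : N →+ Additive (R ⊗[A] (A ⊗[k] B))ˣ, (∀ (g : G) (x : N), pR (g • x) = ua A (A ⊗[k] B) R g (pR x)) →
      ∃ p : N →+ Additive (A ⊗[k] B)ˣ, (∀ (g : G) (x : N), p (g • x) = ug g (p x)) ∧ ∀ x, ib A R (p x) = pR x := by
  constructor
  · intro h pR hpR
    obtain ⟨u, hu⟩ := D.ch_surj R (((ku k B A R).symm : _ →+ _).comp pR) (fun g x => by
      change vl ((ku k B A R).symm (pR (g • x))) = act k B R g (vl ((ku k B A R).symm (pR x)))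
      rw [vl_ku_symm, vl_ku_symm, AlgEquiv.symm_apply_eq, ← act_kap, AlgEquiv.apply_symm_apply, hpR]
      rfl)
    obtain ⟨s, hs⟩ := h u
    refine ⟨D.ch A s, fun g x => addUnits_ext (D.ch_smul A s g x), fun x => ?_⟩
    have h1 : um (mB B (IsScalarTower.toAlgHom k A R) : A ⊗[k] B →+* R ⊗[k] B) (D.ch A s x) = D.ch R u x := by
      rw [← hs]
      exact addUnits_ext (ch_nat' D _ s x).symm
    rw [ib_ku (k := k), h1, hu]
    exact (ku k B A R).apply_symm_apply _
  · intro h u
    obtain ⟨p, hp, hp'⟩ := h ((ku k B A R : _ →+ _).comp (D.ch R u)) (fun g x => by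
      apply addUnits_ext
      change kap k B A R (vl (D.ch R u (g • x))) = act A (A ⊗[k] B) R g (kap k B A R (vl (D.ch R u x)))
      rw [act_kap]
      congr 1
      exact D.ch_smul R u g x)
    obtain ⟨s, hs⟩ := D.ch_surj A p (fun g x => congrArg vl (hp g x))
    refine ⟨s, D.ch_inj R ?_⟩
    ext1 x
    apply (ku k B A R).injective
    have h1 := hp' x
    rw [ib_ku (k := k)] at h1
    refine Eq.trans ?_ h1
    congr 1
    rw [← hs]
    exact addUnits_ext (ch_nat' D _ s x)

end K964.PtLift
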