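import Groth.Agent.MultTori.K964.PermLift

/-!
# Induction on the number of maximal ideals of a semilocal ring
-/

set_option autoImplicit false
universe u

open AlgebraicGeometry

namespace K964.SLInd

open K964.PermLift

section quot

variable {A : Type u} [CommRing A] {J : Type u} {κ : J → Type u} [∀ j, Field (κ j)] [∀ j, Algebra A (κ j)]

/-- the residue fields at which `e` vanishes -/
abbrev JQ (κ : J → Type u) [∀ j, Field (κ j)] [∀ j, Algebra A (κ j)] (e : A) : Type u :=
  {j : J // algebraMap A (κ j) e = 0}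

/-- the residue fields of `A / e` -/
abbrev κQ (κ : J → Type u) [∀ j, Field (κ j)] [∀ j, Algebra A (κ j)] (e : A) (j : JQ κ e) : Type u := κ j.1

/-- the structure of an algebra over `A / e` -/
noncomputable abbrev algQ (e : A) (j : JQ κ e) : Algebra (A ⧸ Ideal.span {e}) (κ j.1) :=
  (Ideal.Quotient.lift (Ideal.span {e}) (algebraMap A (κ j.1)) (by
    intro a ha
    rw [Ideal.mem_span_singleton] at ha
    obtain ⟨c, rfl⟩ := ha
    rw [map_mul, j.2, zero_mul])).toAlgebra

lemma tower_algQ (e : A) (j : JQ κ e) :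
    @IsScalarTower A (A ⧸ Ideal.span {e}) (κ j.1) _ (algQ e j).toSMul _ := by
  let _ := algQ e j
  exact IsScalarTower.of_algebraMap_eq' rfl

lemma sl_quot (h : SL A κ) (e : A) :
    @SL (A ⧸ Ideal.span {e}) _ (JQ κ e) (fun j => κ j.1) _ (fun j => algQ e j) := by
  let _ : ∀ j : JQ κ e, Algebra (A ⧸ Ideal.span {e}) (κ j.1) := fun j => algQ e j
  have hkc : ∀ j : JQ κ e, (RingHom.ker (algebraMap (A ⧸ Ideal.span {e}) (κ j.1))).comap
      (Ideal.Quotient.mk (Ideal.span {e})) = RingHom.ker (algebraMap A (κ j.1)) := fun j => rfl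
  refine ⟨?_, ?_, ?_⟩
  · intro j z
    obtain ⟨a, rfl⟩ := h.surj j.1 z
    exact ⟨Ideal.Quotient.mk _ a, rfl⟩
  · intro i j hij
    apply Subtype.ext
    apply h.inj
    change RingHom.ker _ = RingHom.ker _
    rw [← hkc, ← hkc]
    exact congrArg _ hij
  · intro m hm
    have h1 : (m.comap (Ideal.Quotient.mk (Ideal.span {e}))).IsMaximal :=
      Ideal.comap_isMaximal_of_surjective _ Ideal.Quotient.mk_surjective
    obtain ⟨i, hi⟩ := h.max _ h1
    have h2 : algebraMap A (κ i) e = 0 := by
      have h3 : e ∈ RingHom.ker (algebraMap A (κ i)) := by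
        rw [hi, Ideal.mem_comap, Ideal.Quotient.eq_zero_iff_mem.2 (Ideal.mem_span_singleton_self e)]
        exact m.zero_mem
      exact h3
    refine ⟨⟨i, h2⟩, ?_⟩
    apply Ideal.comap_injective_of_surjective _ (Ideal.Quotient.mk_surjective (I := Ideal.span {e}))
    rw [hkc, hi]

lemma card_quot [Finite J] (h : SL A κ) (e : A) (he : e * e = e) (he0 : e ≠ 0) :
    Nat.card (JQ κ e) < Nat.card J := by
  have h2 : ¬ IsUnit (1 - e) := by
    intro h3
    apply he0
    apply h3.mul_left_cancel
    rw [mul_zero, sub_mul, _root_.one_mul, he, sub_self]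
  obtain ⟨m, hm, hem⟩ := exists_max_ideal_of_mem_nonunits h2
  obtain ⟨i, hi⟩ := h.max m hm
  have h3 : algebraMap A (κ i) e ≠ 0 := by
    intro h4
    apply hm.ne_top
    rw [Ideal.eq_top_iff_one]
    have h5 : e ∈ m := by
      rw [← hi]
      exact h4
    have h6 := m.add_mem hem h5
    rwa [sub_add_cancel] at h6
  exact Finite.card_subtype_lt (x := i) h3

end quot

/-- **Induction principle for semilocal rings.** -/
theorem induction
    (C : ∀ (A : Type u) [CommRing A] (J : Type u) (κ : J → Type u) [∀ j, Field (κ j)] [∀ j, Algebra A (κ j)], Prop)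
    (hconn : ∀ (A : Type u) [CommRing A] (J : Type u) [Finite J] (κ : J → Type u) [∀ j, Field (κ j)]
      [∀ j, Algebra A (κ j)], SL A κ → ConnectedSpace (Spec (CommRingCat.of A)) → C A J κ)
    (hempty : ∀ (A : Type u) [CommRing A] (J : Type u) (κ : J → Type u) [∀ j, Field (κ j)]
      [∀ j, Algebra A (κ j)], IsEmpty J → C A J κ)
    (hglue : ∀ (A : Type u) [CommRing A] (J : Type u) [Finite J] (κ : J → Type u) [∀ j, Field (κ j)]
      [∀ j, Algebra A (κ j)] (e : A), e * e = e →
      @C (A ⧸ Ideal.span {e}) _ (JQ κ e) (κQ κ e) _ (fun j => algQ e j) →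
      @C (A ⧸ Ideal.span {1 - e}) _ (JQ κ (1 - e)) (κQ κ (1 - e)) _ (fun j => algQ (1 - e) j) → C A J κ)
    (A : Type u) [CommRing A] (J : Type u) [Finite J] (κ : J → Type u) [∀ j, Field (κ j)]
      [∀ j, Algebra A (κ j)] (h : SL A κ) : C A J κ := by
  suffices key : ∀ (n : ℕ) (A : Type u) [CommRing A] (J : Type u) [Finite J] (κ : J → Type u) [∀ j, Field (κ j)]
      [∀ j, Algebra A (κ j)], SL A κ → Nat.card J ≤ n → C A J κ from key _ A J κ h le_rfl
  intro n
  induction n with
  | zero =>
    intro A _ J _ κ _ _ h hn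
    exact hempty A J κ (Finite.card_eq_zero_iff.1 (Nat.le_zero.1 hn))
  | succ n ih =>
    intro A _ J _ κ _ _ h hn
    rcases isEmpty_or_nonempty J with hemp | ⟨⟨i₀⟩⟩
    · exact hempty A J κ hemp
    by_cases hc : ConnectedSpace (Spec (CommRingCat.of A))
    · exact hconn A J κ h hc
    have hA : Nontrivial A := (algebraMap A (κ i₀)).domain_nontrivial
    obtain ⟨e, he, he0, he1⟩ : ∃ e : A, e * e = e ∧ e ≠ 0 ∧ 1 - e ≠ 0 := by
      by_contra hne
      push Not at hne
      apply hc
      have h1 : Nonempty (PrimeSpectrum A) := inferInstance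
      have h2 : PreconnectedSpace (PrimeSpectrum A) := by
        rw [preconnectedSpace_iff_clopen]
        intro s hs
        obtain ⟨e, he, rfl⟩ := PrimeSpectrum.exists_idempotent_basicOpen_eq_of_isClopen hs
        by_cases he0 : e = 0
        · left
          rw [he0, PrimeSpectrum.basicOpen_zero]
          rfl
        · right
          have h3 := hne e he he0
          rw [sub_eq_zero] at h3
          rw [← h3, PrimeSpectrum.basicOpen_one]
          rfl
      have h3 : ConnectedSpace (PrimeSpectrum A) := ⟨h1⟩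
      exact h3
    have he' : (1 - e) * (1 - e) = 1 - e := by linear_combination he
    have c1 := card_quot h e he he0
    have c2 := card_quot h (1 - e) he' he1
    exact hglue A J κ e he
      (@ih (A ⧸ Ideal.span {e}) _ (JQ κ e) _ (κQ κ e) _ (fun j => algQ e j) (sl_quot h e) (by omega))
      (@ih (A ⧸ Ideal.span {1 - e}) _ (JQ κ (1 - e)) _ (κQ κ (1 - e)) _ (fun j => algQ (1 - e) j)
        (sl_quot h (1 - e)) (by omega))

lemma cases_idem {A : Type u} [CommRing A] {k : Type u} [Field k] [Algebra A k] (e : A) (he : e * e = e) :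
    algebraMap A k e = 0 ∨ algebraMap A k (1 - e) = 0 := by
  have h4 : algebraMap A k e * algebraMap A k (1 - e) = 0 := by
    rw [← map_mul, mul_sub, _root_.mul_one, he, sub_self, map_zero]
  exact mul_eq_zero.1 h4

end K964.SLInd
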