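import Groth.Agent.MultTori.K964.LocBc
import Groth.Agent.MultTori.K964.SLInd
import Groth.Agent.MultTori.K965.Translate

/-!
# Lifting of points of tori from the residue fields of a semilocal ring
-/

set_option autoImplicit false
universe u

open CategoryTheory MonoidalCategory CartesianMonoidalCategory AlgebraicGeometry
open TensorProduct

namespace K964.SecLift

open K965.Gal K964.UC K964.CharExt K964.AffPt K964.AffYon K964.Pt K964.TorsY K964.ExtE K964.BcPt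
open K964.DictBc K964.MDict K964.Van K964.LocBc K964.SLInd K964.PermLift K964.SimF K964.SimP K964.Shap K964.Coh
open K965.Pts (sp mp)
open scoped MonObj GrpObj

attribute [local instance] actBc commBc

theorem conn {A : Type u} [CommRing A] [ConnectedSpace (Spec (CommRingCat.of A))] {J : Type u} [Finite J]
    {κ : J → Type u} [∀ j, Field (κ j)] [∀ j, Algebra A (κ j)] (hκ : SL A κ)
    (M : Over (Spec (CommRingCat.of A))) [GrpObj M] {Λ : Type} [AddCommGroup Λ] [Module.Finite ℤ Λ] [Module.Free ℤ Λ]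
    (hM : IsoT M Λ) (hsplit : ∀ j, CycSplit (Red.bc (tb A (κ j)) M)) (u : ∀ j, sp (algebraMap A (κ j)) ⟶ M) :
    ∃ s : sp (algebraMap A A) ⟶ M, ∀ j, ap (Algebra.ofId A (κ j)) ≫ s = u j := by
  obtain ⟨B, _, _, G, _, _, _, _, _, hG, -, ⟨D⟩, -⟩ := exists_dict M hM
  obtain ⟨P, _, F, _, _, _, _, _, τ, ρ, i, π, hi, hπ, hinj, hsurj, hex, hP, hF⟩ :=
    Groth.Agent.S18686.result G Λ (aRep G Λ)
  have hs : SimP (aRep G Λ) ρ τ := simP_B hF hP i hi π hπ hinj hsurj hex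
  have h1 : ∀ j, ∃ χ : LH P (κ j ⊗[A] B), EqvU τ χ ∧ ∀ x, χ (i x) = D.ch (κ j) (u j) x := by
    intro j
    have hv := vanish_bc hG D (κ j) (hsplit j) hs hP
    obtain ⟨χ, hχ, hχ'⟩ := ext_of_H1Z i hi π hπ hinj hsurj hex hv ((D.ch (κ j) (u j)).toIntLinearMap) (by
      intro g x
      exact addUnits_ext (D.ch_smul (κ j) (u j) g x))
    exact ⟨χ, EqvU.of_eqv hχ, hχ'⟩
  choose χ hχ hχ' using h1
  obtain ⟨c, hc, hc'⟩ := PermLift.exists_lift hκ hG hP χ hχ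
  obtain ⟨s, hs⟩ := D.ch_surj A ((ib A A).comp (c.comp i).toAddMonoidHom) (by
    intro g x
    change (1 : A) ⊗ₜ[A] vl (c (i (g • x))) = act A B A g (1 ⊗ₜ[A] vl (c (i x)))
    rw [act_tmul, ← hc, ← hi]
    rfl)
  refine ⟨s, fun j => ?_⟩
  apply D.ch_inj
  ext1 x
  apply addUnits_ext
  rw [ch_nat', hs, ← hχ' j, ← hc' j]
  change mB B (Algebra.ofId A (κ j)) (1 ⊗ₜ[A] vl (c (i x))) = _
  simp

/-- the statement over semilocal rings -/
def Cl (A : Type u) [CommRing A] (J : Type u) (κ : J → Type u) [∀ j, Field (κ j)] [∀ j, Algebra A (κ j)] : Prop :=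
  ∀ (M : Over (Spec (CommRingCat.of A))) [GrpObj M] (Λ : Type) [AddCommGroup Λ] [Module.Finite ℤ Λ] [Module.Free ℤ Λ]
    (_ : IsoT M Λ) (_ : ∀ j, CycSplit (Red.bc (tb A (κ j)) M)) (u : ∀ j, sp (algebraMap A (κ j)) ⟶ M),
    ∃ s : sp (algebraMap A A) ⟶ M, ∀ j, ap (Algebra.ofId A (κ j)) ≫ s = u j

lemma key {A : Type u} [CommRing A] {J : Type u} {κ : J → Type u} [∀ j, Field (κ j)] [∀ j, Algebra A (κ j)]
    (e : A) (h : @Cl (A ⧸ Ideal.span {e}) _ (JQ κ e) (κQ κ e) _ (fun j => algQ e j))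
    (M : Over (Spec (CommRingCat.of A))) [GrpObj M] (Λ : Type) [AddCommGroup Λ] [Module.Finite ℤ Λ] [Module.Free ℤ Λ]
    (hM : IsoT M Λ) (hs : ∀ j, CycSplit (Red.bc (tb A (κ j)) M)) (u : ∀ j, sp (algebraMap A (κ j)) ⟶ M) :
    ∃ s : sp (algebraMap A (A ⧸ Ideal.span {e})) ⟶ M, ∀ t : sp (algebraMap A A) ⟶ M,
      ap (Algebra.ofId A (A ⧸ Ideal.span {e})) ≫ t = s → ∀ j, algebraMap A (κ j) e = 0 →
        ap (Algebra.ofId A (κ j)) ≫ t = u j := by
  let _ : ∀ j : JQ κ e, Algebra (A ⧸ Ideal.span {e}) (κ j.1) := fun j => algQ e j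
  have ht : ∀ j : JQ κ e, IsScalarTower A (A ⧸ Ideal.span {e}) (κ j.1) := fun j => tower_algQ e j
  obtain ⟨s, hs⟩ := h (Red.bc (tb A (A ⧸ Ideal.span {e})) M) Λ (isoT_bc _ M hM)
    (fun j => cycSplit_bc (hs j.1)) (fun j => bp (u j.1))
  refine ⟨ubp s, fun t ht' j hj => ?_⟩
  have h1 : Algebra.ofId A (κ j) = ((Algebra.ofId (A ⧸ Ideal.span {e}) (κQ κ e ⟨j, hj⟩)).restrictScalars A).comp
      (Algebra.ofId A (A ⧸ Ideal.span {e})) := by
    ext
  rw [h1, ap_comp, Category.assoc, ht']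
  have h2 := congrArg (fun z => ubp z) (hs ⟨j, hj⟩)
  beta_reduce at h2
  rw [← ap_ubp, ubp_bp] at h2
  exact h2

theorem main (A : Type u) [CommRing A] (J : Type u) [Finite J] (κ : J → Type u) [∀ j, Field (κ j)]
    [∀ j, Algebra A (κ j)] (h : SL A κ) : Cl A J κ := by
  refine SLInd.induction (fun A _ J κ _ _ => Cl A J κ) ?_ ?_ ?_ A J κ h
  · intro A _ J _ κ _ _ h hc M _ Λ _ _ _ hM hs u
    exact conn h M hM hs u
  · intro A _ J κ _ _ hJ M _ Λ _ _ _ hM hs u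
    exact ⟨1, fun j => isEmptyElim j⟩
  · intro A _ J _ κ _ _ e he h1 h2 M _ Λ _ _ _ hM hs u
    have haff := isAffineHom_of_isoT hM
    have haff' : IsAffine M.left := isAffine_of_isAffineHom M.hom
    obtain ⟨s₁, hs₁⟩ := key e h1 M Λ hM hs u
    obtain ⟨s₂, hs₂⟩ := key (1 - e) h2 M Λ hM hs u
    obtain ⟨t, ht₁, ht₂⟩ := K965.Translate.exists_glue e he s₁ s₂
    refine ⟨t, fun j => ?_⟩
    rcases cases_idem (k := κ j) e he with h3 | h3
    · exact hs₁ t ht₁ j h3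
    · exact hs₂ t ht₂ j h3

end K964.SecLift
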