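import Groth.Agent.MultTori.K964.EM
import Groth.Agent.S18685
import Groth.Agent.S18686

/-!
# Comparison of flasque resolutions

* `lift_of_H1Z`, `ext_of_H1Z`: equivariant lifts and extensions when `H¹(G, Hom (F, N)) = 0`.
* `H1Z.of_sim`: vanishing passes along `v ∘ u = id + π ∘ h` through a permutation module.
* `flasque_comp`: inflation of flasque lattices.
* `simA`, `simB`: two flasque resolutions of the same module give similar flasque modules.
-/

set_option autoImplicit false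

namespace K964.SimF

open K964.Coh GLat

variable {H : Type*} [Group H] {F F1 P P1 N Λ E : Type*} [AddCommGroup F] [AddCommGroup F1] [AddCommGroup P]
  [AddCommGroup P1] [AddCommGroup N] [AddCommGroup Λ] [AddCommGroup E]

/-- Equivariant lifts. -/
theorem lift_of_H1Z [Module.Free ℤ F] {ρ : Representation ℤ H F} {σ : Representation ℤ H N}
    {ε : Representation ℤ H E} {lam : Representation ℤ H Λ} (i : N →ₗ[ℤ] E) (hi : IsEquivariant σ ε i)
    (π : E →ₗ[ℤ] Λ) (hπ : IsEquivariant ε lam π) (hinj : Function.Injective i) (hsurj : Function.Surjective π)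
    (hex : LinearMap.range i = LinearMap.ker π) (h1 : H1Z (Representation.linHom ρ σ)) (q : F →ₗ[ℤ] Λ)
    (hq : IsEquivariant ρ lam q) : ∃ u : F →ₗ[ℤ] E, IsEquivariant ρ ε u ∧ ∀ x, π (u x) = q x := by
  obtain ⟨u₀, hu₀⟩ := Module.projective_lifting_property π q hsurj
  have hu₀' : ∀ x, π (u₀ x) = q x := fun x => congr($hu₀ x)
  have h2 : ∀ (g : H) (x : F), ε g (u₀ (ρ g⁻¹ x)) - u₀ x ∈ LinearMap.range i := by
    intro g x
    rw [hex, LinearMap.mem_ker, map_sub, hπ, hu₀', hu₀', ← hq, ← Module.End.mul_apply, ← map_mul, mul_inv_cancel,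
      map_one, Module.End.one_apply, sub_self]
  choose f hf using h2
  let φ : H → (F →ₗ[ℤ] N) := fun g =>
    { toFun := f g
      map_add' := fun x y => hinj (by rw [map_add, hf, hf, hf]; simp only [map_add]; abel)
      map_smul' := fun k x => hinj (by
        rw [RingHom.id_apply, map_smul, hf, hf]; simp only [map_smul, smul_sub]) }
  have hφ : ∀ g x, i (φ g x) = ε g (u₀ (ρ g⁻¹ x)) - u₀ x := hf
  obtain ⟨b, hb⟩ := h1 φ (by
    intro a c
    ext1 x
    apply hinj
    rw [LinearMap.add_apply, linHom_apply, map_add, hi, hφ, hφ, hφ, map_sub, mul_inv_rev, map_mul, map_mul,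
      Module.End.mul_apply, Module.End.mul_apply]
    abel)
  have hb' : ∀ g x, φ g x = σ g (b (ρ g⁻¹ x)) - b x := fun g x => by
    rw [hb g, LinearMap.sub_apply, linHom_apply]
  refine ⟨u₀ - i.comp b, fun g x => ?_, fun x => ?_⟩
  · have e1 := hφ g (ρ g x)
    have e2 : ρ g⁻¹ (ρ g x) = x := by
      rw [← Module.End.mul_apply, ← map_mul, inv_mul_cancel, map_one, Module.End.one_apply]
    rw [hb', e2, map_sub, hi] at e1
    rw [LinearMap.sub_apply, LinearMap.sub_apply, map_sub, LinearMap.comp_apply, LinearMap.comp_apply]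
    have e3 : ε g (u₀ x) = ε g (i (b x)) - i (b (ρ g x)) + u₀ (ρ g x) := by rw [e1]; abel
    rw [e3]
    abel
  · rw [LinearMap.sub_apply, map_sub, hu₀', LinearMap.comp_apply]
    have : π (i (b x)) = 0 := by
      rw [← LinearMap.mem_ker, ← hex]
      exact ⟨_, rfl⟩
    rw [this, sub_zero]

/-- Equivariant extensions. -/
theorem ext_of_H1Z [Module.Free ℤ F] {ρ : Representation ℤ H F} {σ : Representation ℤ H N}
    {τ : Representation ℤ H P} {lam : Representation ℤ H Λ} (i : Λ →ₗ[ℤ] P) (hi : IsEquivariant lam τ i)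
    (π : P →ₗ[ℤ] F) (hπ : IsEquivariant τ ρ π) (hinj : Function.Injective i) (hsurj : Function.Surjective π)
    (hex : LinearMap.range i = LinearMap.ker π) (h1 : H1Z (Representation.linHom ρ σ)) (χ : Λ →ₗ[ℤ] N)
    (hχ : IsEquivariant lam σ χ) : ∃ u : P →ₗ[ℤ] N, IsEquivariant τ σ u ∧ ∀ x, u (i x) = χ x := by
  obtain ⟨s, hs⟩ := Module.projective_lifting_property π LinearMap.id hsurj
  have hs' : ∀ x, π (s x) = x := fun x => congr($hs x)
  have h2 : ∀ x : P, x - s (π x) ∈ LinearMap.range i := by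
    intro x
    rw [hex, LinearMap.mem_ker, map_sub, hs', sub_self]
  choose r hr using h2
  have hpi : ∀ x, π (i x) = 0 := fun x => by
    rw [← LinearMap.mem_ker, ← hex]
    exact ⟨_, rfl⟩
  let R : P →ₗ[ℤ] Λ :=
    { toFun := r
      map_add' := fun x y => hinj (by rw [map_add, hr, hr, hr]; simp only [map_add]; abel)
      map_smul' := fun k x => hinj (by
        rw [RingHom.id_apply, map_smul, hr, hr]; simp only [map_smul, smul_sub]) }
  have hR : ∀ x, i (R x) = x - s (π x) := hr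
  have hRi : ∀ x, R (i x) = x := fun x => hinj (by rw [hR, hpi, map_zero, sub_zero])
  obtain ⟨u₀, hu₀⟩ : ∃ u₀ : P →ₗ[ℤ] N, ∀ x, u₀ (i x) = χ x := ⟨χ.comp R, fun x => by rw [LinearMap.comp_apply, hRi]⟩
  -- the cocycle
  let φ : H → (F →ₗ[ℤ] N) := fun g => (Representation.linHom τ σ g u₀ - u₀).comp s
  have hφ : ∀ g x, φ g (π x) = σ g (u₀ (τ g⁻¹ x)) - u₀ x := by
    intro g x
    have e1 : x = s (π x) + i (R x) := by rw [hR]; abel
    change σ g (u₀ (τ g⁻¹ (s (π x)))) - u₀ (s (π x)) = _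
    conv_rhs => rw [e1]
    rw [map_add, map_add, map_add, map_add, ← hi]
    rw [hu₀, hu₀, hχ, ← Module.End.mul_apply, ← map_mul, mul_inv_cancel, map_one, Module.End.one_apply]
    abel
  obtain ⟨b, hb⟩ := h1 φ (by
    intro a c
    ext1 y
    obtain ⟨x, rfl⟩ := hsurj y
    rw [LinearMap.add_apply, linHom_apply, ← hπ, hφ, hφ, hφ, map_sub, mul_inv_rev, map_mul, map_mul,
      Module.End.mul_apply, Module.End.mul_apply]
    abel)
  have hb' : ∀ g x, φ g (π x) = σ g (b (π (τ g⁻¹ x))) - b (π x) := fun g x => by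
    rw [hb g, LinearMap.sub_apply, linHom_apply, hπ]
  refine ⟨u₀ - b.comp π, fun g x => ?_, fun x => ?_⟩
  · have e1 := hφ g (τ g x)
    have e2 : τ g⁻¹ (τ g x) = x := by
      rw [← Module.End.mul_apply, ← map_mul, inv_mul_cancel, map_one, Module.End.one_apply]
    rw [hb', e2] at e1
    rw [LinearMap.sub_apply, LinearMap.sub_apply, map_sub, LinearMap.comp_apply, LinearMap.comp_apply]
    have e3 : σ g (u₀ x) = σ g (b (π x)) - b (π (τ g x)) + u₀ (τ g x) := by rw [e1]; abel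
    rw [e3]
    abel
  · rw [LinearMap.sub_apply, LinearMap.comp_apply, hpi, map_zero, sub_zero, hu₀]

/-- `F` is a factor of `F1` up to the permutation module `P`. -/
structure Sim (ρ : Representation ℤ H F) (ρ1 : Representation ℤ H F1) (τ : Representation ℤ H P) where
  u : F →ₗ[ℤ] F1
  hu : IsEquivariant ρ ρ1 u
  v : F1 →ₗ[ℤ] F
  hv : IsEquivariant ρ1 ρ v
  h : F →ₗ[ℤ] P
  hh : IsEquivariant ρ τ h
  π : P →ₗ[ℤ] F
  hπ : IsEquivariant τ ρ π
  eq : ∀ x, v (u x) = x + π (h x)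

lemma cocycle_comp {ρ : Representation ℤ H F} {ρ1 : Representation ℤ H F1} {σ : Representation ℤ H N}
    (v : F1 →ₗ[ℤ] F) (hv : IsEquivariant ρ1 ρ v) {f : H → (F →ₗ[ℤ] N)}
    (hf : ∀ a b : H, f (a * b) = f a + Representation.linHom ρ σ a (f b)) (a b : H) :
    (f (a * b)).comp v = (f a).comp v + Representation.linHom ρ1 σ a ((f b).comp v) := by
  ext1 x
  rw [LinearMap.comp_apply, hf, LinearMap.add_apply, linHom_apply, LinearMap.add_apply, linHom_apply,
    LinearMap.comp_apply, LinearMap.comp_apply, hv]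

theorem H1Z.of_sim {ρ : Representation ℤ H F} {ρ1 : Representation ℤ H F1} {τ : Representation ℤ H P}
    (s : Sim ρ ρ1 τ) {σ : Representation ℤ H N} (h1 : H1Z (Representation.linHom ρ1 σ))
    (h2 : H1Z (Representation.linHom τ σ)) : H1Z (Representation.linHom ρ σ) := by
  intro f hf
  obtain ⟨φ1, hφ1⟩ := h1 (fun a => (f a).comp s.v) (cocycle_comp s.v s.hv hf)
  obtain ⟨φ2, hφ2⟩ := h2 (fun a => (f a).comp s.π) (cocycle_comp s.π s.hπ hf)
  refine ⟨φ1.comp s.u - φ2.comp s.h, fun a => ?_⟩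
  ext1 x
  have e1 := congr($(hφ1 a) (s.u x))
  have e2 := congr($(hφ2 a) (s.h x))
  beta_reduce at e1 e2
  rw [LinearMap.comp_apply, LinearMap.sub_apply, linHom_apply] at e1 e2
  rw [s.eq, map_add, e2, ← s.hu, ← s.hh] at e1
  rw [LinearMap.sub_apply, linHom_apply, LinearMap.sub_apply, LinearMap.sub_apply, map_sub, LinearMap.comp_apply,
    LinearMap.comp_apply, LinearMap.comp_apply, LinearMap.comp_apply, ← add_sub_cancel_right (f a x) _, e1]
  abel

section comp

variable {Q : Type*} [Group Q]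

/-- Restriction along any homomorphism preserves flasque lattices. -/
theorem flasque_comp [Finite H] [Module.Free ℤ F] (f : H →* Q) {ρ : Representation ℤ Q F} (hρ : IsFlasque ρ) :
    IsFlasque (ρ.comp f : Representation ℤ H F) := by
  classical
  intro H' m hm
  have : Finite (H'.map f) := inferInstanceAs (Finite (f '' (H' : Set H)))
  let _ : Fintype (H'.map f) := Fintype.ofFinite _
  let _ : Fintype H' := Fintype.ofFinite _
  rw [finsum_eq_sum_of_fintype] at hm
  have h1 : ∀ h : H', ∑ q : H'.map f, ρ (q : Q) (ρ (f h) m) = ∑ q : H'.map f, ρ (q : Q) m := by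
    intro h
    let h' : H'.map f := ⟨f h, (h : H), h.2, rfl⟩
    refine Fintype.sum_equiv (Equiv.mulRight h') _ _ fun q => ?_
    rw [Equiv.coe_mulRight, Subgroup.coe_mul, map_mul, Module.End.mul_apply]
  have h2 : (Fintype.card H' : ℤ) • ∑ q : H'.map f, ρ (q : Q) m = 0 := by
    have h3 : ∑ h : H', ∑ q : H'.map f, ρ (q : Q) (ρ (f h) m) = (Fintype.card H' : ℤ) • ∑ q : H'.map f, ρ (q : Q) m := by
      simp only [h1]
      rw [Finset.sum_const, Finset.card_univ, Nat.cast_smul_eq_nsmul]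
    rw [← h3, Finset.sum_comm]
    refine Finset.sum_eq_zero fun q _ => ?_
    rw [← map_sum]
    have h4 : ∑ h : H', ρ (f h) m = 0 := hm
    rw [h4, map_zero]
  have h3 : ∑ q : H'.map f, ρ (q : Q) m = 0 := by
    have hc : (Fintype.card H' : ℤ) ≠ 0 := by exact_mod_cast Fintype.card_ne_zero
    exact (smul_eq_zero.1 h2).resolve_left hc
  have h4 := hρ (H'.map f) m (by rw [finsum_eq_sum_of_fintype]; exact h3)
  refine Submodule.span_mono ?_ h4
  rintro x ⟨⟨q, h, hh, rfl⟩, y, rfl⟩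
  exact ⟨⟨h, hh⟩, y, rfl⟩

theorem permutation_comp (f : H →* Q) {ρ : Representation ℤ Q P} (hρ : IsPermutation ρ) :
    IsPermutation (ρ.comp f : Representation ℤ H P) := by
  obtain ⟨ι, b, hb⟩ := hρ
  exact ⟨ι, b, fun g i => hb (f g) i⟩

lemma equivariant_comp (f : H →* Q) {ρ : Representation ℤ Q P} {ρ' : Representation ℤ Q F} {u : P →ₗ[ℤ] F}
    (hu : IsEquivariant ρ ρ' u) : IsEquivariant (ρ.comp f : Representation ℤ H P) (ρ'.comp f) u :=
  fun g m => hu (f g) m

end comp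

omit [AddCommGroup F1] [AddCommGroup P1] [AddCommGroup E] in
/-- descend a map killing the image -/
lemma desc [Module.Free ℤ F] (i : Λ →ₗ[ℤ] P) (π : P →ₗ[ℤ] F)
    (hsurj : Function.Surjective π) (hex : LinearMap.range i = LinearMap.ker π) (w : P →ₗ[ℤ] N)
    (hw : ∀ x, w (i x) = 0) : ∃ w' : F →ₗ[ℤ] N, ∀ x, w' (π x) = w x := by
  obtain ⟨s, hs⟩ := Module.projective_lifting_property π LinearMap.id hsurj
  have hs' : ∀ x, π (s x) = x := fun x => congr($hs x)
  refine ⟨w.comp s, fun x => ?_⟩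
  have h2 : x - s (π x) ∈ LinearMap.range i := by
    rw [hex, LinearMap.mem_ker, map_sub, hs', sub_self]
  obtain ⟨y, hy⟩ := h2
  rw [LinearMap.comp_apply, ← sub_eq_zero, ← map_sub, ← neg_sub, ← hy, map_neg, hw, neg_zero]

/-- Comparison of resolutions `0 → P → F → Λ → 0`. -/
theorem simA [Finite H] [Module.Free ℤ F] [Module.Finite ℤ F] [Module.Finite ℤ P] [Module.Free ℤ F1] [Module.Finite ℤ F1]
    [Module.Finite ℤ P1]
    {ρ : Representation ℤ H F} {τ : Representation ℤ H P} {ρ1 : Representation ℤ H F1} {τ1 : Representation ℤ H P1}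
    {lam : Representation ℤ H Λ}
    (hF : IsFlasque ρ) (hP : IsPermutation τ) (hF1 : IsFlasque ρ1) (hP1 : IsPermutation τ1)
    (i : P →ₗ[ℤ] F) (hi : IsEquivariant τ ρ i) (π : F →ₗ[ℤ] Λ) (hπ : IsEquivariant ρ lam π)
    (hinj : Function.Injective i) (hsurj : Function.Surjective π) (hex : LinearMap.range i = LinearMap.ker π)
    (i1 : P1 →ₗ[ℤ] F1) (hi1 : IsEquivariant τ1 ρ1 i1) (π1 : F1 →ₗ[ℤ] Λ) (hπ1 : IsEquivariant ρ1 lam π1)
    (hinj1 : Function.Injective i1) (hsurj1 : Function.Surjective π1) (hex1 : LinearMap.range i1 = LinearMap.ker π1) :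
    Nonempty (Sim ρ ρ1 τ) := by
  obtain ⟨u, hu, hu'⟩ := lift_of_H1Z i1 hi1 π1 hπ1 hinj1 hsurj1 hex1
    (H1Z.linHom_flasque_permutation hF hP1) π hπ
  obtain ⟨v, hv, hv'⟩ := lift_of_H1Z i hi π hπ hinj hsurj hex (H1Z.linHom_flasque_permutation hF1 hP) π1 hπ1
  have h1 : ∀ x, v (u x) - x ∈ LinearMap.range i := by
    intro x
    rw [hex, LinearMap.mem_ker, map_sub, hv', hu', sub_self]
  choose h hh using h1
  refine ⟨⟨u, hu, v, hv, ⟨⟨h, fun x y => hinj ?_⟩, fun k x => hinj ?_⟩, fun g x => hinj ?_, i, hi, fun x => ?_⟩⟩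
  · rw [map_add, hh, hh, hh, map_add, map_add]; abel
  · rw [RingHom.id_apply, map_smul, hh, hh, map_smul, map_smul, smul_sub]
  · change i (h (ρ g x)) = i (τ g (h x))
    rw [hh, hi, hh, hu, hv, map_sub]
  · change v (u x) = x + i (h x)
    rw [hh]; abel

/-- Comparison of resolutions `0 → Λ → P → F → 0`. -/
theorem simB [Finite H] [Module.Free ℤ F] [Module.Finite ℤ F] [Module.Finite ℤ P] [Module.Free ℤ F1] [Module.Finite ℤ F1]
    [Module.Finite ℤ P1]
    {ρ : Representation ℤ H F} {τ : Representation ℤ H P} {ρ1 : Representation ℤ H F1} {τ1 : Representation ℤ H P1}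
    {lam : Representation ℤ H Λ}
    (hF : IsFlasque ρ) (hP : IsPermutation τ) (hF1 : IsFlasque ρ1) (hP1 : IsPermutation τ1)
    (i : Λ →ₗ[ℤ] P) (hi : IsEquivariant lam τ i) (π : P →ₗ[ℤ] F) (hπ : IsEquivariant τ ρ π)
    (hinj : Function.Injective i) (hsurj : Function.Surjective π) (hex : LinearMap.range i = LinearMap.ker π)
    (i1 : Λ →ₗ[ℤ] P1) (hi1 : IsEquivariant lam τ1 i1) (π1 : P1 →ₗ[ℤ] F1) (hπ1 : IsEquivariant τ1 ρ1 π1)
    (hinj1 : Function.Injective i1) (hsurj1 : Function.Surjective π1) (hex1 : LinearMap.range i1 = LinearMap.ker π1) :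
    Nonempty (Sim ρ ρ1 τ) := by
  obtain ⟨a, ha, ha'⟩ := ext_of_H1Z i hi π hπ hinj hsurj hex (H1Z.linHom_flasque_permutation hF hP1) i1 hi1
  obtain ⟨b, hb, hb'⟩ := ext_of_H1Z i1 hi1 π1 hπ1 hinj1 hsurj1 hex1 (H1Z.linHom_flasque_permutation hF1 hP) i hi
  obtain ⟨u, hu⟩ := desc i π hsurj hex (π1.comp a) (fun x => by
    rw [LinearMap.comp_apply, ha', ← LinearMap.mem_ker, ← hex1]
    exact ⟨_, rfl⟩)
  obtain ⟨v, hv⟩ := desc i1 π1 hsurj1 hex1 (π.comp b) (fun x => by
    rw [LinearMap.comp_apply, hb', ← LinearMap.mem_ker, ← hex]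
    exact ⟨_, rfl⟩)
  obtain ⟨h, hh⟩ := desc i π hsurj hex (b.comp a - LinearMap.id) (fun x => by
    rw [LinearMap.sub_apply, LinearMap.comp_apply, ha', hb', LinearMap.id_apply, sub_self])
  have hu' : ∀ x, u (π x) = π1 (a x) := hu
  have hv' : ∀ x, v (π1 x) = π (b x) := hv
  have hh' : ∀ x, h (π x) = b (a x) - x := hh
  refine ⟨⟨u, fun g y => ?_, v, fun g y => ?_, h, fun g y => ?_, π, hπ, fun y => ?_⟩⟩
  · obtain ⟨x, rfl⟩ := hsurj y
    rw [← hπ, hu', hu', ha, hπ1]
  · obtain ⟨x, rfl⟩ := hsurj1 y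
    rw [← hπ1, hv', hv', hb, hπ]
  · obtain ⟨x, rfl⟩ := hsurj y
    rw [← hπ, hh', hh', ha, hb, map_sub]
  · obtain ⟨x, rfl⟩ := hsurj y
    rw [hu', hv', hh', map_sub]
    abel

end K964.SimF
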