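import Groth.Agent.MultTori.K964.LiftY
import Groth.Agent.MultTori.K964.SLInd
import Groth.Agent.MultTori.K964.LocBc
import Groth.Agent.MultTori.K964.DisjGlue

/-!
# Lifting of torsors from the residue fields of a semilocal ring
-/

set_option autoImplicit false
universe u

open CategoryTheory MonoidalCategory CartesianMonoidalCategory AlgebraicGeometry
open TensorProduct

namespace K964.TorLift

open K965.Gal K964.UC K964.CharExt K964.AffPt K964.AffYon K964.Pt K964.TorsY K964.ExtE K964.BcPt K964.Cocyc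
open K964.DictBc K964.MDict K964.Van K964.LocBc K964.SLInd K964.PermLift K964.SimF K964.SimP K964.Shap K964.Coh
open K964.LiftL K964.LiftY K964.CharLift
open K965.Pts (sp mp)
open scoped MonObj GrpObj

attribute [local instance] actBc commBc

lemma subsingleton_pic {k C : Type u} [Field k] [CommRing C] [Algebra k C] [Module.Finite k C] :
    Subsingleton (CommRing.Pic C) := by
  have h1 : Finite (MaximalSpectrum k) := inferInstance
  have h2 : Finite (MaximalSpectrum C) := SemiGal.finite_max (A := k)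
  infer_instance

theorem conn {A : Type u} [CommRing A] [ConnectedSpace (Spec (CommRingCat.of A))] {J : Type u} [Finite J]
    {κ : J → Type u} [∀ j, Field (κ j)] [∀ j, Algebra A (κ j)] (hκ : SL A κ)
    (M : Over (Spec (CommRingCat.of A))) [GrpObj M] {Λ : Type} [AddCommGroup Λ] [Module.Finite ℤ Λ]
    (hM : IsoT M Λ) (hsplit : ∀ j, CycSplit (Red.bc (tb A (κ j)) M)) (κ' : J → Type u) [∀ j, CommRing (κ' j)]
    [∀ j, Algebra (κ j) (κ' j)] [∀ j, Module.FaithfullyFlat (κ j) (κ' j)]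
    (c : ∀ j, Fam (Red.bc (tb A (κ j)) M) (κ' j)) :
    ∃ Y : NonAbH1.TorsorSch M Scheme.fppfPrecoverage, ∀ j, HasPt Y (κ j) (κ' j) (c j) := by
  obtain ⟨B, _, _, G, _, _, _, _, _, hG, -, ⟨D⟩, haff⟩ := exists_dict M hM
  have := hG.fin
  have := hG.ff
  obtain ⟨P, _, F, _, _, _, _, _, τ, ρ, i, π, hi, hπ, hinj, hsurj, hex, hP, hF⟩ :=
    Groth.Agent.S18685.result G Λ (aRep G Λ)
  have hs : SimP (aRep G Λ) ρ τ := simP_A hF hP i hi π hπ hinj hsurj hex
  have hfg : AddGroup.FG F := Module.Finite.iff_addGroup_fg.1 inferInstance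
  have hπ' : ∀ g x, π (ρ g x) = g • π x := fun g x => hπ g x
  let q : F →+ Λ := π.toAddMonoidHom
  have h1 : ∀ j, ∃ e : F →+ Additive (κ' j ⊗[κ j] (κ j ⊗[A] B))ˣ, Lift (DictBc.bc D (κ j)) ρ q (c j) e := by
    intro j
    have hv := vanish_bc hG D (κ j) (hsplit j) hs hP
    obtain ⟨e, he, he'⟩ := exists_lift_E (DictBc.bc D (κ j)) (c j) (subsingleton_pic (k := κ j)) hv π hπ'
    exact ⟨e, ⟨he, he'⟩⟩
  choose e he using h1
  choose pj hpj hpj' using fun j => exists_ker_char (he j)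
  have hmem : ∀ x, i x ∈ q.ker := by
    intro x
    have : i x ∈ LinearMap.ker π := by
      rw [← hex]
      exact ⟨x, rfl⟩
    exact this
  let ie₀ : P →+ q.ker :=
    { toFun := fun x => ⟨i x, hmem x⟩
      map_zero' := Subtype.ext (map_zero i)
      map_add' := fun x y => Subtype.ext (map_add i x y) }
  have hie : Function.Bijective ie₀ := by
    refine ⟨fun x y h => hinj (congrArg Subtype.val h), fun ⟨x, hx⟩ => ?_⟩
    have h2 : x ∈ LinearMap.range i := by
      rw [hex]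
      exact hx
    obtain ⟨y, rfl⟩ := h2
    exact ⟨y, rfl⟩
  let ie : P ≃+ q.ker := AddEquiv.ofBijective ie₀ hie
  have hie' : ∀ g x (h : ρ g (ie x : F) ∈ q.ker), ie (τ g x) = ⟨ρ g (ie x : F), h⟩ :=
    fun g x h => Subtype.ext (hi g x)
  have hkm : ∀ (g : G) (x : q.ker), ρ g (x : F) ∈ q.ker := by
    intro g x
    change π (ρ g x) = 0
    have hx : π x = 0 := x.2
    rw [hπ', hx, smul_zero]
  let χ : ∀ j, LH P (κ j ⊗[A] B) := fun j => ((pj j).comp ie.toAddMonoidHom).toIntLinearMap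
  have hχ : ∀ j, EqvU τ (χ j) := by
    intro j g x
    have h2 := hpj' j g (ie x) (hkm g _)
    change vl (pj j (ie (τ g x))) = g • vl (pj j (ie x))
    rw [hie' g x (hkm g _), h2]
    rfl
  obtain ⟨c', hc, hc'⟩ := PermLift.exists_lift hκ hG hP χ hχ
  let p : q.ker →+ Additive Bˣ := c'.toAddMonoidHom.comp ie.symm.toAddMonoidHom
  obtain ⟨Y, hY⟩ := exists_Y (ρ := ρ) hG D q hsurj hπ' p (by
    intro g x h
    obtain ⟨y, rfl⟩ := ie.surjective x
    change vl (c' (ie.symm ⟨ρ g (ie y : F), h⟩)) = g • vl (c' (ie.symm (ie y)))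
    rw [← hie' g y h, AddEquiv.symm_apply_apply, AddEquiv.symm_apply_apply]
    exact hc g y)
  refine ⟨Y, fun j => hY (κ j) (κ' j) (c j) (e j) (he j) fun x => ?_⟩
  obtain ⟨y, rfl⟩ := ie.surjective x
  have h3 : vl (pj j (ie y)) = (1 : κ j) ⊗ₜ[A] vl (c' y) := (hc' j y).symm
  rw [hpj, vl_ib, h3]
  change _ = (1 : κ' j) ⊗ₜ[κ j] ((1 : κ j) ⊗ₜ[A] vl (c' (ie.symm (ie y))))
  rw [AddEquiv.symm_apply_apply]

/-- the statement over semilocal rings -/
def Cl (A : Type u) [CommRing A] (J : Type u) (κ : J → Type u) [∀ j, Field (κ j)] [∀ j, Algebra A (κ j)] : Prop :=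
  ∀ (M : Over (Spec (CommRingCat.of A))) [GrpObj M] (Λ : Type) [AddCommGroup Λ] [Module.Finite ℤ Λ]
    (_ : IsoT M Λ) (_ : ∀ j, CycSplit (Red.bc (tb A (κ j)) M)) (κ' : J → Type u) [∀ j, CommRing (κ' j)]
    [∀ j, Algebra (κ j) (κ' j)] [∀ j, Module.FaithfullyFlat (κ j) (κ' j)]
    (c : ∀ j, Fam (Red.bc (tb A (κ j)) M) (κ' j)),
    ∃ Y : NonAbH1.TorsorSch M Scheme.fppfPrecoverage, ∀ j, HasPt Y (κ j) (κ' j) (c j)

section transport

variable {A R k : Type u} [CommRing A] [CommRing R] [Algebra A R] [CommRing k] [Algebra A k] [Algebra R k]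
  [IsScalarTower A R k] {M : Over (Spec (CommRingCat.of A))} [GrpObj M] {k' : Type u} [CommRing k'] [Algebra k k']

/-- transport of a family to the base change -/
noncomputable def tr (c : Fam (Red.bc (tb A k) M) k') : Fam (Red.bc (tb R k) (Red.bc (tb A R) M)) k' where
  c T _ _ φ ψ :=
    letI : Algebra A T := ((algebraMap k T).comp (algebraMap A k)).toAlgebra
    haveI : IsScalarTower A k T := IsScalarTower.of_algebraMap_eq (fun _ => rfl)
    letI : Algebra R T := ((algebraMap k T).comp (algebraMap R k)).toAlgebra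
    haveI : IsScalarTower R k T := IsScalarTower.of_algebraMap_eq (fun _ => rfl)
    haveI : IsScalarTower A R T := IsScalarTower.of_algebraMap_eq (fun x => congrArg (algebraMap k T)
      (IsScalarTower.algebraMap_apply A R k x))
    bp (R := k) (bp (R := R) (ubp (A := A) (c.c T φ ψ)))
  nat T T' _ _ _ _ θ φ ψ := by
    let _ : Algebra A T := ((algebraMap k T).comp (algebraMap A k)).toAlgebra
    have _i :  IsScalarTower A k T := IsScalarTower.of_algebraMap_eq (fun _ => rfl)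
    let _ : Algebra R T := ((algebraMap k T).comp (algebraMap R k)).toAlgebra
    have _i :  IsScalarTower R k T := IsScalarTower.of_algebraMap_eq (fun _ => rfl)
    have _i :  IsScalarTower A R T := IsScalarTower.of_algebraMap_eq (fun x => congrArg (algebraMap k T)
      (IsScalarTower.algebraMap_apply A R k x))
    let _ : Algebra A T' := ((algebraMap k T').comp (algebraMap A k)).toAlgebra
    have _i :  IsScalarTower A k T' := IsScalarTower.of_algebraMap_eq (fun _ => rfl)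
    let _ : Algebra R T' := ((algebraMap k T').comp (algebraMap R k)).toAlgebra
    have _i :  IsScalarTower R k T' := IsScalarTower.of_algebraMap_eq (fun _ => rfl)
    have _i :  IsScalarTower A R T' := IsScalarTower.of_algebraMap_eq (fun x => congrArg (algebraMap k T')
      (IsScalarTower.algebraMap_apply A R k x))
    rw [← c.nat T T' θ φ ψ, ← ap_ubp, ap_bp]
    congr 1
    exact (ap_bp (θ.restrictScalars R) (ubp (A := A) (c.c T φ ψ)))
  mul T _ _ φ ψ χ := by
    let _ : Algebra A T := ((algebraMap k T).comp (algebraMap A k)).toAlgebra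
    have _i :  IsScalarTower A k T := IsScalarTower.of_algebraMap_eq (fun _ => rfl)
    let _ : Algebra R T := ((algebraMap k T).comp (algebraMap R k)).toAlgebra
    have _i :  IsScalarTower R k T := IsScalarTower.of_algebraMap_eq (fun _ => rfl)
    have _i :  IsScalarTower A R T := IsScalarTower.of_algebraMap_eq (fun x => congrArg (algebraMap k T)
      (IsScalarTower.algebraMap_apply A R k x))
    rw [← bp_mul, ← bp_mul, ← ubp_mul, c.mul]


/-- transport of a point -/
theorem hasPt_of_glue {Y : NonAbH1.TorsorSch (Red.bc (tb A R) M) Scheme.fppfPrecoverage}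
    {c : Fam (Red.bc (tb A k) M) k'} (hY : HasPt Y k k' (tr (R := R) c))
    (P : NonAbH1.TorsorSch M Scheme.fppfPrecoverage) (j : (Over.map (tb A R)).obj Y.X ⟶ P.X)
    (hj : ∀ {T : Over (Spec (CommRingCat.of A))} (g : T ⟶ M) (q : T ⟶ _), sm P.act g (q ≫ j) =
        sm (K552.Push.push Y.act) g q ≫ j) : HasPt P k k' c := by
  obtain ⟨y, hy⟩ := hY
  let _ : Algebra A k' := ((algebraMap k k').comp (algebraMap A k)).toAlgebra
  have i1 : IsScalarTower A k k' := IsScalarTower.of_algebraMap_eq (fun _ => rfl)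
  let _ : Algebra R k' := ((algebraMap k k').comp (algebraMap R k)).toAlgebra
  have i2 : IsScalarTower R k k' := IsScalarTower.of_algebraMap_eq (fun _ => rfl)
  have i3 : IsScalarTower A R k' := IsScalarTower.of_algebraMap_eq (fun x => congrArg (algebraMap k k')
      (IsScalarTower.algebraMap_apply A R k x))
  refine ⟨bp (R := k) (DisjGlue.pu j (ubp y)), fun T _ _ φ ψ => ?_⟩
  let _ : Algebra A T := ((algebraMap k T).comp (algebraMap A k)).toAlgebra
  have i4 : IsScalarTower A k T := IsScalarTower.of_algebraMap_eq (fun _ => rfl)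
  let _ : Algebra R T := ((algebraMap k T).comp (algebraMap R k)).toAlgebra
  have i5 : IsScalarTower R k T := IsScalarTower.of_algebraMap_eq (fun _ => rfl)
  have i6 : IsScalarTower A R T := IsScalarTower.of_algebraMap_eq (fun x => congrArg (algebraMap k T)
      (IsScalarTower.algebraMap_apply A R k x))
  apply ubp_injective
  have h1 := ubp_cocy (R := k) (T := T) P.isTorsor.1 (DisjGlue.pu j (ubp y)) φ ψ
  refine h1.trans ?_
  have h2 := DisjGlue.cocy_pu (R := R) (T := T) j P.isTorsor.1 Y.isTorsor.1 hj (ubp y) (φ.restrictScalars R)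
    (ψ.restrictScalars R)
  refine h2.trans ?_
  have h3 := ubp_cocy (A := R) (R := k) (T := T) Y.isTorsor.1 (ubp y) φ ψ
  rw [bp_ubp] at h3
  have h4 := congrArg (fun z => ubp (A := A) (R := R) (T := T) (ubp (A := R) (R := k) (T := T) z)) (hy T φ ψ)
  rw [← h3]
  refine h4.trans ?_
  change ubp (ubp (bp (R := k) (bp (R := R) (ubp (A := A) (c.c T φ ψ))))) = _
  rw [ubp_bp, ubp_bp]

end transport

lemma key {A : Type u} [CommRing A] {J : Type u} {κ : J → Type u} [∀ j, Field (κ j)] [∀ j, Algebra A (κ j)]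
    (e : A) (h : @Cl (A ⧸ Ideal.span {e}) _ (JQ κ e) (κQ κ e) _ (fun j => algQ e j))
    (M : Over (Spec (CommRingCat.of A))) [GrpObj M] (Λ : Type) [AddCommGroup Λ] [Module.Finite ℤ Λ]
    (hM : IsoT M Λ) (hs : ∀ j, CycSplit (Red.bc (tb A (κ j)) M)) (κ' : J → Type u) [∀ j, CommRing (κ' j)]
    [∀ j, Algebra (κ j) (κ' j)] [∀ j, Module.FaithfullyFlat (κ j) (κ' j)]
    (c : ∀ j, Fam (Red.bc (tb A (κ j)) M) (κ' j)) :
    ∃ Y : NonAbH1.TorsorSch (Red.bc (tb A (A ⧸ Ideal.span {e})) M) Scheme.fppfPrecoverage,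
      ∀ (P : NonAbH1.TorsorSch M Scheme.fppfPrecoverage)
        (j : (Over.map (tb A (A ⧸ Ideal.span {e}))).obj Y.X ⟶ P.X)
        (_ : ∀ {T : Over (Spec (CommRingCat.of A))} (g : T ⟶ M) (q : T ⟶ _), sm P.act g (q ≫ j) =
          sm (K552.Push.push Y.act) g q ≫ j) (i : J), algebraMap A (κ i) e = 0 → HasPt P (κ i) (κ' i) (c i) := by
  let _ : ∀ j : JQ κ e, Algebra (A ⧸ Ideal.span {e}) (κ j.1) := fun j => algQ e j
  have ht : ∀ j : JQ κ e, IsScalarTower A (A ⧸ Ideal.span {e}) (κ j.1) := fun j => tower_algQ e j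
  obtain ⟨Y, hY⟩ := h (Red.bc (tb A (A ⧸ Ideal.span {e})) M) Λ (isoT_bc _ M hM)
    (fun j => cycSplit_bc (hs j.1)) (fun j => κ' j.1) (fun j => tr (R := A ⧸ Ideal.span {e}) (k := κQ κ e j) (c j.1))
  exact ⟨Y, fun P j hj i hi => hasPt_of_glue (R := A ⧸ Ideal.span {e}) (k := κQ κ e ⟨i, hi⟩) (hY ⟨i, hi⟩) P j hj⟩

theorem main (A : Type u) [CommRing A] (J : Type u) [Finite J] (κ : J → Type u) [∀ j, Field (κ j)]
    [∀ j, Algebra A (κ j)] (h : SL A κ) : Cl A J κ := by
  refine SLInd.induction (fun A _ J κ _ _ => Cl A J κ) ?_ ?_ ?_ A J κ h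
  · intro A _ J _ κ _ _ h hc M _ Λ _ _ hM hs κ' _ _ _ c
    exact conn h M hM hs κ' c
  · intro A _ J κ _ _ hJ M _ Λ _ _ hM hs κ' _ _ _ c
    exact ⟨⟨M, NonAbH1.trivialAction M, NonAbH1.isTorsorFor_trivialAction M _⟩, fun j => isEmptyElim j⟩
  · intro A _ J _ κ _ _ e he h1 h2 M _ Λ _ _ hM hs κ' _ _ _ c
    obtain ⟨Y₁, hY₁⟩ := key e h1 M Λ hM hs κ' c
    obtain ⟨Y₂, hY₂⟩ := key (1 - e) h2 M Λ hM hs κ' c
    obtain ⟨P, j₁, j₂, hj₁, hj₂⟩ := DisjGlue.exists_glue_idem e he M Y₁ Y₂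
    refine ⟨P, fun j => ?_⟩
    rcases cases_idem (k := κ j) e he with h3 | h3
    · exact hY₁ P j₁ hj₁ j h3
    · exact hY₂ P j₂ hj₂ j h3

/-- classes -/
theorem exists_class {A : Type u} [CommRing A] {J : Type u} [Finite J] {κ : J → Type u} [∀ j, Field (κ j)]
    [∀ j, Algebra A (κ j)] (h : SL A κ) (M : Over (Spec (CommRingCat.of A))) [GrpObj M] (Λ : Type) [AddCommGroup Λ]
    [Module.Finite ℤ Λ] (hM : IsoT M Λ) (hs : ∀ j, CycSplit (Red.bc (tb A (κ j)) M))
    (c : ∀ j, NonAbH1.H1Sch (Red.bc (tb A (κ j)) M) Scheme.fppfPrecoverage) :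
    ∃ x : NonAbH1.H1Sch M Scheme.fppfPrecoverage,
      ∀ j, NonAbH1.H1Sch.bcMap (tb A (κ j)) M Scheme.fppfPrecoverage x = c j := by
  choose Z hZ using fun j => exists_cl (c j)
  choose κ' _ _ hff hfp hz using fun j => exists_point (Z j)
  let z : ∀ j, sp (algebraMap (κ j) (κ' j)) ⟶ (Z j).X := fun j => (hz j).some
  obtain ⟨Y, hY⟩ := main A J κ h M Λ hM hs κ' (fun j => famOf (Z j).isTorsor.1 (z j))
  refine ⟨Y.cl, fun j => ?_⟩
  obtain ⟨y, hy⟩ := hY j
  rw [← hZ, ← NonAbH1.TorsorSch.cl_bc]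
  exact cl_eq_of_cocy y (z j) (hy _ (i1 (κ' j)) (i2 (κ' j)))

end K964.TorLift
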