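import Groth.Agent.MultTori.K964.IsoTor
import Groth.Agent.MultTori.K964.SemiGal
import Mathlib.LinearAlgebra.FreeModule.PID

/-!
# From surjectivity over discrete valuation rings to all local rings
-/

set_option autoImplicit false
universe u

open CategoryTheory CategoryTheory.Limits MonoidalCategory CartesianMonoidalCategory AlgebraicGeometry
open TensorProduct

namespace K964.U90

open K965.Gal K964.UC K964.CharExt K964.AffPt K964.AffYon K964.Pt K964.TorsY K964.Cocyc K964.ExtE K964.BcPt
open K964.DictBc K964.Desc K964.LiftL K964.FreeG K964.CharLift K964.CharSurj K964.PtLift K964.MDict K964.IsoTor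
open K965.Pts (sp mp)
open scoped MonObj GrpObj

attribute [local instance] actBc commBc

section ker

variable {G : Type} [Group G] {Λ : Type} [AddCommGroup Λ] [DistribMulAction G Λ] {I : Type}
  (q : ((G × I) →₀ ℤ) →+ Λ) (hqe : ∀ g x, q (reg G I g x) = g • q x)

/-- the action on the kernel -/
@[reducible] noncomputable def kerAct : DistribMulAction G q.ker where
  smul g x := ⟨reg G I g x, by rw [AddMonoidHom.mem_ker, hqe, (x.2 : q x = 0), smul_zero]⟩
  one_smul x := Subtype.ext (by
    change reg G I 1 (x : (G × I) →₀ ℤ) = x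
    rw [map_one]; rfl)
  mul_smul g h x := Subtype.ext (by
    change reg G I (g * h) (x : (G × I) →₀ ℤ) = reg G I g (reg G I h x)
    rw [map_mul]; rfl)
  smul_zero g := Subtype.ext (map_zero _)
  smul_add g _ _ := Subtype.ext (map_add _ _ _)

end ker

lemma exists_ker_equiv {J : Type} [Finite J] {Λ : Type} [AddCommGroup Λ] (q : (J →₀ ℤ) →+ Λ) :
    ∃ r : ℕ, Nonempty (q.ker ≃+ (Fin r → ℤ)) := by
  let V : Submodule ℤ (J →₀ ℤ) := LinearMap.ker q.toIntLinearMap
  obtain ⟨r, b⟩ := Module.basisOfFiniteTypeTorsionFree' (R := ℤ) (M := V)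
  exact ⟨r, ⟨b.equivFun.toAddEquiv⟩⟩

theorem main (h97 : ∀ (k : Type u) [Field k] (T : Over (Spec (CommRingCat.of k))) [GrpObj T]
    (_ : ∃ r : ℕ, TwC.Locally (Spec (CommRingCat.of k)) .finiteEtale
        (fun S' g => Red.IsSplitTorusWith (Fin r → ℤ) (Red.bc g T)))
    (_ : ∀ (A : Type u) [CommRing A] [IsDomain A] [IsDiscreteValuationRing A] [Algebra k A]
        (u : Spec (CommRingCat.of (IsLocalRing.ResidueField A)) ⟶ T.left),
        u ≫ T.hom = Spec.map (CommRingCat.ofHom ((IsLocalRing.residue A).comp (algebraMap k A))) →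
        ∃ s : Spec (CommRingCat.of A) ⟶ T.left, s ≫ T.hom = Spec.map (CommRingCat.ofHom (algebraMap k A)) ∧
          Spec.map (CommRingCat.ofHom (IsLocalRing.residue A)) ≫ s = u),
    ∀ (A : Type u) [CommRing A] [IsLocalRing A] [Algebra k A]
        (u : Spec (CommRingCat.of (IsLocalRing.ResidueField A)) ⟶ T.left),
        u ≫ T.hom = Spec.map (CommRingCat.ofHom ((IsLocalRing.residue A).comp (algebraMap k A))) →
        ∃ s : Spec (CommRingCat.of A) ⟶ T.left, s ≫ T.hom = Spec.map (CommRingCat.ofHom (algebraMap k A)) ∧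
          Spec.map (CommRingCat.ofHom (IsLocalRing.residue A)) ≫ s = u)
    (k : Type u) [Field k] (M : Over (Spec (CommRingCat.of k))) [GrpObj M]
    (hM : ∃ (Λ : Type) (_ : AddCommGroup Λ), AddGroup.FG Λ ∧
      TwC.Locally (Spec (CommRingCat.of k)) .finiteEtale
        (fun S' g => Nonempty (Grp.mk (Red.bc g M) ≅ Grp.mk (Red.DS S' Λ))))
    (h : ∀ (A : Type u) [CommRing A] [IsDomain A] [IsDiscreteValuationRing A] [Algebra k A],
        Function.Surjective
          (NonAbH1.H1Sch.bcMap (Spec.map (CommRingCat.ofHom (IsLocalRing.residue A)))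
            (Red.bc (Spec.map (CommRingCat.ofHom (algebraMap k A))) M) Scheme.fppfPrecoverage))
    (A : Type u) [CommRing A] [IsLocalRing A] [Algebra k A] :
        Function.Surjective
          (NonAbH1.H1Sch.bcMap (Spec.map (CommRingCat.ofHom (IsLocalRing.residue A)))
            (Red.bc (Spec.map (CommRingCat.ofHom (algebraMap k A))) M) Scheme.fppfPrecoverage) := by
  obtain ⟨Λ, _, hΛ, hM⟩ := hM
  obtain ⟨B, _, _, G, _, _, _, _, _, hG, hconn, ⟨D⟩, haff⟩ := exists_dict M hM
  have := hG.ff
  have := hG.fin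
  have := hG.et
  obtain ⟨I, _, q, hq, hqe⟩ := exists_surj (G := G) Λ
  let _ := kerAct q hqe
  obtain ⟨T, _, hTaff, ⟨DT⟩, ⟨eT⟩⟩ := K965.LatTor.exists_group hG q.ker
  obtain ⟨r, ⟨er⟩⟩ := exists_ker_equiv q
  have hT : ∃ r : ℕ, TwC.Locally (Spec (CommRingCat.of k)) .finiteEtale
        (fun S' g => Red.IsSplitTorusWith (Fin r → ℤ) (Red.bc g T)) :=
    ⟨r, locally_of_split T eT er⟩
  -- facts for a local `k`-algebra
  have hfin : ∀ (A : Type u) [CommRing A] [IsLocalRing A] [Algebra k A], Finite (MaximalSpectrum (A ⊗[k] B)) := by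
    intro A _ _ _
    have : Finite (MaximalSpectrum A) := inferInstance
    exact SemiGal.finite_max (A := A)
  have hres : ∀ (A : Type u) [CommRing A] [IsLocalRing A] [Algebra k A] (u : Additive (IsLocalRing.ResidueField A ⊗[A] (A ⊗[k] B))ˣ),
      ∃ b, ib A (IsLocalRing.ResidueField A) b = u := by
    intro A _ _ _ u
    refine exists_unit_lift IsLocalRing.residue_surjective ?_ u
    rw [IsLocalRing.jacobson_eq_maximalIdeal ⊥ bot_ne_top]
    exact IsLocalRing.ker_residue.le
  have hiff : ∀ (A : Type u) [CommRing A] [IsLocalRing A] [Algebra k A],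
      (∀ (u : Spec (CommRingCat.of (IsLocalRing.ResidueField A)) ⟶ T.left),
        u ≫ T.hom = Spec.map (CommRingCat.ofHom ((IsLocalRing.residue A).comp (algebraMap k A))) →
        ∃ s : Spec (CommRingCat.of A) ⟶ T.left, s ≫ T.hom = Spec.map (CommRingCat.ofHom (algebraMap k A)) ∧
          Spec.map (CommRingCat.ofHom (IsLocalRing.residue A)) ≫ s = u) ↔
      Function.Surjective
          (NonAbH1.H1Sch.bcMap (Spec.map (CommRingCat.ofHom (IsLocalRing.residue A)))
            (Red.bc (Spec.map (CommRingCat.ofHom (algebraMap k A))) M) Scheme.fppfPrecoverage) := by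
    intro A _ _ _
    have := hfin A
    have : IsAffine (Red.bc (tb k A) M).left := isAffine_bc A
    have : Finite (MaximalSpectrum (IsLocalRing.ResidueField A ⊗[A] (A ⊗[k] B))) :=
      SemiGal.finite_max (A := IsLocalRing.ResidueField A)
    have e1 := iff_chars DT A (IsLocalRing.ResidueField A)
    have e2 : (∀ (u : Spec (CommRingCat.of (IsLocalRing.ResidueField A)) ⟶ T.left),
        u ≫ T.hom = Spec.map (CommRingCat.ofHom ((IsLocalRing.residue A).comp (algebraMap k A))) →
        ∃ s : Spec (CommRingCat.of A) ⟶ T.left, s ≫ T.hom = Spec.map (CommRingCat.ofHom (algebraMap k A)) ∧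
          Spec.map (CommRingCat.ofHom (IsLocalRing.residue A)) ≫ s = u) ↔
        (∀ u : sp (algebraMap k (IsLocalRing.ResidueField A)) ⟶ T, ∃ s : sp (algebraMap k A) ⟶ T,
          ap (IsScalarTower.toAlgHom k A (IsLocalRing.ResidueField A)) ≫ s = u) := by
      constructor
      · intro H u
        obtain ⟨s, hs, hs'⟩ := H u.left (Over.w u)
        exact ⟨Over.homMk s hs, by ext1; exact hs'⟩
      · intro H u hu
        obtain ⟨s, hs⟩ := H (Over.homMk u hu)
        exact ⟨s.left, Over.w s, congrArg (fun f => f.left) hs⟩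
    rw [e2, e1]
    constructor
    · intro H
      exact surjective_of_char_lift (isGal_bc k B A G hG) (DictBc.bc D A) q hq hqe (IsLocalRing.ResidueField A)
        inferInstance (fun pR hpR => by
          obtain ⟨p, hp, hp'⟩ := H pR (fun g x => hpR g x _)
          exact ⟨p, fun g x _ => hp g x, hp'⟩)
    · intro H pR hpR
      obtain ⟨p, hp, hp'⟩ := char_lift_of_surjective (isGal_bc k B A G hG) (DictBc.bc D A) q hq hqe inferInstance
        (IsLocalRing.ResidueField A) (hres A) H pR (fun g x _ => hpR g x)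
      exact ⟨p, fun g x => hp g x _, hp'⟩
  exact (hiff A).1 (h97 k T hT (fun A _ _ _ _ => (hiff A).2 (h A)) A)

end K964.U90
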